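import Cfsg.Agent.FusionBatch.Basic

/-!
A normality criterion through essential subgroups (S5182): a subgroup of `S`, contained in every
essential subgroup and invariant under the automorphisms of `S` and of every essential subgroup,
is normal in the fusion system.
-/

set_option autoImplicit false

open Cfsg Cfsg.FusionSystem Cfsg.Agent.FusionSys
open scoped Pointwise

namespace Cfsg.Agent.PearlExists

universe u

variable {Ω : Type u} [Group Ω] {S : Subgroup Ω} [Finite S] {p : ℕ} [Fact p.Prime]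

theorem isNormal_of_essentials (hS : IsPGroup p S) {F : FusionSystem S} (hF : F.IsSaturated p)
    {Q : Subgroup Ω} (hQS : Q ≤ S)
    (hQinv : ∀ α ∈ F.autGroup S, ∀ x : S, (x : Ω) ∈ Q → (α x : Ω) ∈ Q)
    (h : ∀ P, F.IsEssential p P →
      Q ≤ P ∧ ∀ α ∈ F.autGroup P, ∀ x : P, (x : Ω) ∈ Q → (α x : Ω) ∈ Q) : F.IsNormal Q := by
  haveI : Finite Q := finite_of_le inferInstance hQS
  have hnorm : normalizerIn S Q = S := by
    refine inf_eq_left.2 fun g hg => ?_
    rw [Subgroup.mem_normalizer_iff]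
    intro x
    have key : ∀ a ∈ S, ∀ y ∈ Q, a * y * a⁻¹ ∈ Q := by
      intro a ha y hy
      exact hQinv (MulAut.conj (⟨a, ha⟩ : S)) (inn_le_autGroup F le_rfl ⟨⟨a, ha⟩, rfl⟩)
        ⟨y, hQS hy⟩ hy
    refine ⟨key g hg x, fun hx => ?_⟩
    have := key g⁻¹ (S.inv_mem hg) _ hx
    simpa [mul_assoc] using this
  obtain ⟨E, hE⟩ : ∃ E : FusionSystem S, ∀ P, E.Hom P = F.normalizerHom Q P := by
    have key : ∀ (T : Subgroup Ω) (N : FusionSystem T), T = S →
        ∃ E : FusionSystem S, ∀ P, E.Hom P = N.Hom P := by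
      rintro T N rfl
      exact ⟨N, fun _ => rfl⟩
    obtain ⟨E, hE⟩ := key _ (Cfsg.Agent.FusionAux.normSys F Q hQS) hnorm
    exact ⟨E, fun P => (hE P).trans (Cfsg.Agent.FusionAux.normSys_spec F Q hQS P)⟩
  have hle : F ≤ E := Cfsg.Agent.FusionAlperin.hom_subset_of_essential_step hS hF E
    fun P hP _ => by
    obtain ⟨hPS, hQP, hinv⟩ :
        P ≤ S ∧ Q ≤ P ∧ ∀ α ∈ F.autGroup P, ∀ x : P, (x : Ω) ∈ Q → (α x : Ω) ∈ Q := by
      rcases hP with rfl | hP
      · exact ⟨le_rfl, hQS, hQinv⟩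
      · exact ⟨hP.1.1, h P hP⟩
    intro α hα
    refine (mem_autGroup E hPS).2 ?_
    show _ ∈ E.Hom P
    rw [hE]
    have hαh := autGroup_mem_hom F hPS hα
    refine ⟨hαh, hnorm.symm ▸ hPS, fun x => hnorm.symm ▸ map_mem_S F hαh x, ?_⟩
    have hsup : P ⊔ Q ≤ P := sup_le le_rfl hQP
    refine ⟨restr hsup (P.subtype.comp α.toMonoidHom), restr_mem F hsup hαh, fun x => rfl, ?_⟩
    refine eq_of_le_of_card_le ?_ ?_
    · rintro y hy
      obtain ⟨x, hx, rfl⟩ := (mem_map_subgroupOf _).1 hy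
      exact hinv α hα _ hx
    · rw [Nat.card_congr (Subgroup.equivMapOfInjective _ _
        (F.injective_of_mem (restr_mem F hsup hαh))).toEquiv.symm,
        Nat.card_congr (Subgroup.subgroupOfEquivOfLe (le_sup_right : Q ≤ P ⊔ Q)).toEquiv]
  refine ⟨hQS, fun P φ hφ => ?_⟩
  have := hle P hφ
  rw [hE] at this
  exact this.2.2.2

end Cfsg.Agent.PearlExists
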