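import Cfsg.Agent.PearlExists.Layers
import Cfsg.Agent.FusRankThree.Setup
import Cfsg.Agent.FusRankThree.Lin

/-!
# Two generated essential subgroups (S5182)

The linear data of a two generated essential subgroup, and the translation of the layer lemma.
-/

set_option autoImplicit false

open Cfsg Cfsg.FusionSystem Cfsg.Agent.FusionSys
open Cfsg.Agent.FusRankThree
open Cfsg.Agent.FusRankThree.LinAux (dl exists_fixed_mod pow_shift pow_fixed exists_pow_eq)

namespace Cfsg.Agent.PearlExists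

universe u

/-- The frame of a group of order `p ^ 2` under a group with non-normal Sylow `p`-subgroup. -/
theorem plane_frame {p : ℕ} [Fact p.Prime] {V : Type u} [CommGroup V] [Finite V]
    (hexp : ∀ v : V, v ^ p = 1) (hcard : Nat.card V = p ^ 2) {G : Subgroup (MulAut V)}
    (R : Sylow p G) (hRne : (R : Subgroup G) ≠ ⊥) (hnn : ¬ (R : Subgroup G).Normal) :
    Nat.card R = p ∧ ∃ x : G, x ∈ (R : Subgroup G) ∧ ∃ y : G, ∃ e1 e2 : V,
      Subgroup.closure {e1, e2} = ⊤ ∧ ((x : MulAut V) e1 = e1 ∧ (x : MulAut V) e2 = e2 * e1) ∧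
      ((y : MulAut V) e1 = e1 * e2 ∧ (y : MulAut V) e2 = e2) ∧
      (((x * y⁻¹ * x) ^ 2 : G) : MulAut V) e1 = e1⁻¹ ∧
      (((x * y⁻¹ * x) ^ 2 : G) : MulAut V) e2 = e2⁻¹ := by
  classical
  have hp : p.Prime := Fact.out
  have hVp : IsPGroup p V := IsPGroup.of_card hcard
  have hzc : ∀ v : V, v ≠ 1 → Nat.card (Subgroup.zpowers v) = p := fun v hv => by
    rw [Nat.card_zpowers, orderOf_eq_prime (hexp v) hv]
  have hgen : ∀ a b : V, a ≠ 1 → b ∉ Subgroup.zpowers a → Subgroup.closure {a, b} = ⊤ := by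
    intro a b ha hb
    have hlt : Subgroup.zpowers a < Subgroup.closure {a, b} :=
      lt_of_le_of_ne (Subgroup.zpowers_le.2 (Subgroup.subset_closure (by simp)))
        fun e => hb (e ▸ Subgroup.subset_closure (by simp))
    refine Subgroup.eq_top_of_le_card _ ?_
    calc Nat.card V = Nat.card (Subgroup.zpowers a) * p := by rw [hcard, hzc a ha, sq]
      _ ≤ _ := LinAux.card_mul_le hVp hlt
  -- the fixed line
  have hbt : (⊥ : Subgroup V) ≠ ⊤ := fun e => by
    have h0 := congrArg (fun H : Subgroup V => Nat.card H) e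
    simp only [Subgroup.card_bot, Subgroup.card_top, hcard] at h0
    exact (Nat.one_lt_pow (by norm_num) hp.one_lt).ne h0
  obtain ⟨c, hc, hcR⟩ := exists_fixed_mod hVp R.2 (A := ⊥)
    (fun u _ a ha => by simp [Subgroup.mem_bot.1 ha]) hbt
  have hc1 : c ≠ 1 := fun e => hc (by simp [e])
  have hfix : ∀ u ∈ (R : Subgroup G), ∀ a ∈ Subgroup.zpowers c, (u : MulAut V) a = a := by
    intro u hu a ha
    obtain ⟨k, rfl⟩ := Subgroup.mem_zpowers_iff.1 ha
    rw [map_zpow, LinAux.mem_ker.1 (Subgroup.mem_bot.1 (hcR u hu))]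
  obtain ⟨a, ha, haR⟩ := exists_fixed_mod hVp R.2 (A := Subgroup.zpowers c)
    (fun u hu b hb => by rw [hfix u hu b hb]; exact hb) (fun e => by
      have := hzc c hc1
      rw [e, Subgroup.card_top, hcard] at this
      exact (lt_self_pow₀ hp.one_lt (by norm_num : 1 < 2)).ne' this)
  have htop := hgen c a hc1 ha
  let φ : R →* V :=
    { toFun := fun u => dl ((u : G) : MulAut V) a
      map_one' := by simp
      map_mul' := fun u w => by
        have e : ((u : G) : MulAut V) (dl ((w : G) : MulAut V) a) =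
            dl ((w : G) : MulAut V) a := hfix u u.2 _ (haR w w.2)
        show a⁻¹ * ((u : G) : MulAut V) (((w : G) : MulAut V) a) = _
        rw [LinAux.apply_eq ((w : G) : MulAut V) a, map_mul, e, LinAux.dl_apply, LinAux.dl_apply]
        ac_rfl }
  have hφinj : Function.Injective φ := by
    refine (injective_iff_map_eq_one φ).2 fun u hu => Subtype.ext (Subtype.ext ?_)
    refine MulEquiv.toMonoidHom_injective (MonoidHom.eq_of_eqOn_dense htop ?_)
    rintro w (rfl | rfl)
    · exact hfix u u.2 _ (Subgroup.mem_zpowers _)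
    · exact LinAux.mem_ker.1 hu
  have hRle : Nat.card R ≤ p := by
    refine le_trans ?_ (hzc c hc1).le
    exact Nat.card_le_card_of_injective (fun u : R => (⟨φ u, haR u u.2⟩ : Subgroup.zpowers c))
      fun u w h => hφinj (congrArg Subtype.val h)
  have hR : Nat.card R = p := by
    rcases R.2.card_eq_or_dvd with h | h
    · exact absurd (Subgroup.card_eq_one.1 h) hRne
    · exact le_antisymm hRle (Nat.le_of_dvd Nat.card_pos h)
  refine ⟨hR, ?_⟩
  obtain ⟨x, hxR, hx1⟩ := (Subgroup.bot_or_exists_ne_one (R : Subgroup G)).resolve_left hRne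
  have hRz : ∀ u ∈ (R : Subgroup G), ∃ n : ℕ, x ^ n = u := fun u hu =>
    exists_pow_eq hR hxR hx1 hu
  -- the range of the displacement of `x`
  have hdl : ∀ v, dl (x : MulAut V) v ∈ Subgroup.zpowers c := by
    intro v
    have hv : v ∈ Subgroup.closure {c, a} := htop ▸ Subgroup.mem_top v
    have hle : Subgroup.closure {c, a} ≤ (Subgroup.zpowers c).comap (dl (x : MulAut V)) := by
      rw [Subgroup.closure_le]
      rintro w (rfl | rfl)
      · show dl (x : MulAut V) w ∈ Subgroup.zpowers w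
        rw [LinAux.dl_apply, hfix x hxR w (Subgroup.mem_zpowers _), inv_mul_cancel]
        exact one_mem _
      · exact haR x hxR
    exact hle hv
  -- a conjugate moving the line
  obtain ⟨g, hg⟩ : ∃ g : G, (g : MulAut V) c ∉ Subgroup.zpowers c := by
    by_contra hall
    simp only [not_exists, not_not] at hall
    refine hnn ⟨fun n hn g => ?_⟩
    obtain ⟨m, rfl⟩ := hRz n hn
    rw [← conj_pow]
    refine pow_mem ?_ m
    have hst : ∀ b ∈ Subgroup.zpowers c, (g : MulAut V) b ∈ Subgroup.zpowers c := by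
      intro b hb
      obtain ⟨k, rfl⟩ := Subgroup.mem_zpowers_iff.1 hb
      rw [map_zpow]
      exact zpow_mem (hall g) k
    set t : MulAut V := ((g * x * g⁻¹ : G) : MulAut V) with ht
    have htd : ∀ v, dl t v ∈ Subgroup.zpowers c := by
      intro v
      obtain ⟨v, rfl⟩ := (g : MulAut V).surjective v
      rw [ht, Subgroup.coe_mul, Subgroup.coe_mul, Subgroup.coe_inv, LinAux.dl_conj]
      exact hst _ (hdl v)
    have htc : t c = c := by
      obtain ⟨k, hk⟩ := Subgroup.mem_zpowers_iff.1 (hall g)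
      have hk1 : (g : MulAut V) c ≠ 1 := by simpa using hc1
      obtain ⟨j, hj⟩ : ∃ j : ℕ, ((g : MulAut V) c) ^ j = c :=
        exists_pow_eq (hzc c hc1) (hall g) hk1 (Subgroup.mem_zpowers _)
      have h0 : t ((g : MulAut V) c) = (g : MulAut V) c := by
        rw [ht]
        simp [hfix x hxR c (Subgroup.mem_zpowers _)]
      conv_lhs => rw [← hj]
      rw [map_pow, h0, hj]
    have hxa : dl (x : MulAut V) a ≠ 1 := fun e => hx1 (congrArg Subtype.val
      (hφinj (a₁ := ⟨x, hxR⟩) (a₂ := 1) (by simpa [φ] using e)))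
    obtain ⟨j, hj⟩ : ∃ j : ℕ, (dl (x : MulAut V) a) ^ j = dl t a :=
      exists_pow_eq (hzc c hc1) (haR x hxR) hxa (htd a)
    have he : (g * x * g⁻¹ : G) = x ^ j := by
      refine Subtype.ext (MulEquiv.toMonoidHom_injective (MonoidHom.eq_of_eqOn_dense htop ?_))
      rintro w (rfl | rfl)
      · show t w = ((x ^ j : G) : MulAut V) w
        rw [htc, SubmonoidClass.coe_pow, pow_fixed (hfix x hxR w (Subgroup.mem_zpowers _))]
      · show t w = ((x ^ j : G) : MulAut V) w
        rw [SubmonoidClass.coe_pow, pow_shift (hfix x hxR _ (haR x hxR)) (LinAux.apply_eq _ _),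
          hj, ← LinAux.apply_eq]
    rw [he]
    exact pow_mem hxR j
  set f := (g : MulAut V) c with hf
  have hf1 : f ≠ 1 := by simpa [hf] using hc1
  set e1 := dl (x : MulAut V) f with he1
  have he11 : e1 ≠ 1 := fun e => by
    refine hx1 (Subtype.ext (MulEquiv.toMonoidHom_injective
      (MonoidHom.eq_of_eqOn_dense (hgen c f hc1 hg) ?_)))
    rintro w (rfl | rfl)
    · exact hfix x hxR w (Subgroup.mem_zpowers _)
    · exact LinAux.mem_ker.1 e
  have hg' : f ∉ Subgroup.zpowers e1 := fun h =>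
    hg ((Subgroup.zpowers_le.2 (hdl f)) h)
  have htop' := hgen e1 f he11 hg'
  have hxe1 : (x : MulAut V) e1 = e1 := hfix x hxR _ (hdl f)
  have hxf : (x : MulAut V) f = f * e1 := LinAux.apply_eq _ _
  -- the conjugate transvection
  set y0 : MulAut V := ((g * x * g⁻¹ : G) : MulAut V) with hy0
  have hy0f : y0 f = f := by simp [hy0, hf, hfix x hxR c (Subgroup.mem_zpowers _)]
  have hy0d : ∀ v, dl y0 v ∈ Subgroup.zpowers f := by
    intro v
    obtain ⟨v, rfl⟩ := (g : MulAut V).surjective v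
    rw [hy0, Subgroup.coe_mul, Subgroup.coe_mul, Subgroup.coe_inv, LinAux.dl_conj]
    obtain ⟨k, hk⟩ := Subgroup.mem_zpowers_iff.1 (hdl v)
    exact Subgroup.mem_zpowers_iff.2 ⟨k, by rw [hf, ← map_zpow, hk]⟩
  have hd1 : dl y0 e1 ≠ 1 := fun e => by
    refine hx1 ?_
    have h1 : y0 = 1 := MulEquiv.toMonoidHom_injective (MonoidHom.eq_of_eqOn_dense htop' (by
      rintro w (rfl | rfl)
      · exact LinAux.mem_ker.1 e
      · exact hy0f))
    have h2 : g * x * g⁻¹ = 1 := Subtype.ext h1
    exact conj_eq_one_iff.1 h2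
  obtain ⟨n, hn⟩ : ∃ n : ℕ, (dl y0 e1) ^ n = f :=
    exists_pow_eq (hzc f hf1) (hy0d e1) hd1 (Subgroup.mem_zpowers _)
  obtain ⟨k, hk⟩ := Subgroup.mem_zpowers_iff.1 (hy0d e1)
  have hfd : y0 (dl y0 e1) = dl y0 e1 := by rw [← hk, map_zpow, hy0f]
  refine ⟨x, hxR, (g * x * g⁻¹) ^ n, e1, f, htop', ⟨hxe1, hxf⟩, ?_⟩
  set y : MulAut V := (((g * x * g⁻¹) ^ n : G) : MulAut V) with hy
  have hy' : y = y0 ^ n := by rw [hy, hy0, SubmonoidClass.coe_pow]
  have hye1 : y e1 = e1 * f := by
    rw [hy', pow_shift hfd (LinAux.apply_eq _ _), hn]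
  have hyf : y f = f := by rw [hy']; exact pow_fixed hy0f n
  refine ⟨⟨hye1, hyf⟩, ?_⟩
  have hyi1 : y⁻¹ e1 = e1 * f⁻¹ := y.symm_apply_eq.2 (by
    rw [map_mul, map_inv, hye1, hyf, mul_inv_cancel_right])
  have hyif : y⁻¹ f = f := LinAux.inv_fixed hyf
  have hw : ((x * ((g * x * g⁻¹) ^ n)⁻¹ * x : G) : MulAut V) =
      (x : MulAut V) * y⁻¹ * (x : MulAut V) := by
    rw [Subgroup.coe_mul, Subgroup.coe_mul, Subgroup.coe_inv]
  set w : MulAut V := (x : MulAut V) * y⁻¹ * (x : MulAut V) with hwdef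
  have hw1 : w e1 = f⁻¹ := by
    rw [hwdef, MulAut.mul_apply, MulAut.mul_apply, hxe1, hyi1, map_mul, map_inv, hxe1, hxf]
    simp [mul_comm f e1]
  have hw2 : w f = e1 := by
    rw [hwdef, MulAut.mul_apply, MulAut.mul_apply, hxf, map_mul, hyif, hyi1, map_mul, map_mul,
      map_inv, hxe1, hxf]
    simp [mul_comm, mul_left_comm]
  rw [SubmonoidClass.coe_pow, hw, pow_two]
  show w (w e1) = _ ∧ w (w f) = _
  rw [hw1, hw2, map_inv, hw2, hw1]
  exact ⟨rfl, rfl⟩

theorem isExtraspecial_equiv {p : ℕ} [Fact p.Prime] {A B : Type*} [Group A] [Group B] [Finite A]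
    (h : Cfsg.IsExtraspecial p A) (e : A ≃* B) : Cfsg.IsExtraspecial p B := by
  have hc : (Subgroup.center A).map e.toMonoidHom = Subgroup.center B := by
    ext b
    obtain ⟨a, rfl⟩ := e.surjective b
    rw [show e a = e.toMonoidHom a from rfl, Subgroup.mem_map_iff_mem e.injective,
      Subgroup.mem_center_iff, Subgroup.mem_center_iff]
    constructor
    · intro ha b
      obtain ⟨b, rfl⟩ := e.surjective b
      exact (map_mul e b a).symm.trans ((congrArg e (ha b)).trans (map_mul e a b))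
    · intro ha b
      exact e.injective (by simpa using ha (e b))
  refine ⟨⟨h.1.1.of_equiv e, ?_, ?_⟩, ?_⟩
  · rw [← PGroup.map_frattini h.1.1 e.toMonoidHom e.surjective, h.1.2.1, hc]
  · rw [← hc, ← h.1.2.2, commutator_def, commutator_def, Subgroup.map_commutator,
      Subgroup.map_top_of_surjective e.toMonoidHom e.surjective]
  · rw [← hc, Subgroup.card_map_of_injective e.injective, h.2]

variable {p : ℕ} {Ω : Type u} [Group Ω] {S : Subgroup Ω}

set_option maxHeartbeats 800000 in
/-- A two generated essential subgroup is a pearl or is layered. -/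
theorem rank_two_cases [Finite S] [Fact p.Prime] (hp : 5 ≤ p) (hS : IsPGroup p S)
    (h3 : FusRankThree.RankThree p S) {F : FusionSystem S} (hF : F.IsSaturated p) {E : Subgroup Ω}
    (hE : F.IsEssential p E) (hrk : (frattini ↥E).index = p ^ 2) :
    ((Cfsg.IsElementaryAbelian p E ∧ Nat.card E = p ^ 2) ∨
        (Cfsg.IsExtraspecial p ↥E ∧ Nat.card E = p ^ 3 ∧ ∀ x ∈ E, x ^ p = 1)) ∨
      ∃ L : Subgroup Ω, IsLayered p S E L := by
  classical
  have hES : E ≤ S := hE.1.1
  haveI : Finite E := finite_of_le ‹_› hES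
  have hEp : IsPGroup p E := hS.to_le hES
  have hNS : normalizerIn S E ≤ S := normalizerIn_le E
  haveI : Finite (normalizerIn S E) := finite_of_le ‹_› hNS
  have hNp : IsPGroup p (normalizerIn S E) := hS.to_le hNS
  have h3N : RankThree p (normalizerIn S E) :=
    rankThree_of_injective h3 (Subgroup.inclusion hNS) (Subgroup.inclusion_injective hNS)
  have hEN : E ≤ normalizerIn S E := le_normalizerIn hES
  -- the linear data
  obtain ⟨R, Y, hRne, hY, hN, hmem⟩ := exists_lin_data hS hF hE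
  have hVcard : Nat.card (FQ E) = p ^ 2 := by rw [← hrk, Subgroup.index_eq_card]
  have hnn : ¬ (R : Subgroup (rho F E).range).Normal := fun hn => by
    have := hN R le_rfl hRne
    rw [Subgroup.normalizer_eq_top_iff.mpr hn] at this
    exact hY (top_le_iff.1 this)
  let : CommGroup (FQ E) := { (inferInstance : Group (FQ E)) with mul_comm := FQ_comm hEp }
  obtain ⟨hR, x, hxR, y, e1, e2, hgen, ⟨hx1, hx2⟩, ⟨hy1, hy2⟩, ht1, ht2⟩ :=
    plane_frame (V := FQ E) (FQ_pow hEp) hVcard R hRne hnn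
  set π : normalizerIn S E →* (rho F E).range := (rho F E).rangeRestrict.comp (conjAut F hES)
    with hπ
  have hπR : π.range = (R : Subgroup (rho F E).range) := by
    ext r
    constructor
    · rintro ⟨g, rfl⟩
      exact (hmem _).2 (mem_autInducedBy.2 ⟨g, g.2.1, fun _ => rfl⟩)
    · intro hr
      obtain ⟨α, rfl⟩ := MonoidHom.rangeRestrict_surjective (rho F E) r
      obtain ⟨g, hg, hge⟩ := mem_autInducedBy.1 ((hmem α).1 hr)
      refine ⟨⟨g, hg, mem_normalizer_of_conj_eq (α : MulAut E) hge⟩, ?_⟩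
      rw [hπ, MonoidHom.comp_apply]
      congr 1
      exact Subtype.ext (MulEquiv.ext fun z => Subtype.ext (hge z).symm)
  set E0 := E.subgroupOf (normalizerIn S E) with hE0
  have hker : π.ker = E0 := by
    ext g
    rw [MonoidHom.mem_ker, hE0, Subgroup.mem_subgroupOf, hπ, MonoidHom.comp_apply,
      ← rho_conjAut_eq_one hS hE g, Subtype.ext_iff]
    rfl
  haveI hE0n : E0.Normal := hker ▸ inferInstance
  have hidx : E0.index = p := by rw [← hker, Subgroup.index_ker, hπR, hR]
  set eq : E0 ≃* E := Subgroup.subgroupOfEquivOfLe hEN with heq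
  have hE0p : IsPGroup p E0 := hNp.to_subgroup E0
  have hfr : (frattini E0).map eq.toMonoidHom = frattini E :=
    PGroup.map_frattini hE0p eq.toMonoidHom eq.surjective
  have hV : (frattini E0).index = p ^ 2 := by
    rw [← hrk, ← hfr]; exact (Subgroup.index_map_equiv (frattini E0) eq).symm
  set f : E0 →* FQ E := (QuotientGroup.mk' (frattini ↥E)).comp eq.toMonoidHom with hf
  have hfker : f.ker = frattini E0 := by
    rw [hf, ← MonoidHom.comap_ker, QuotientGroup.ker_mk', ← hfr]
    exact Subgroup.comap_map_eq_self_of_injective eq.injective _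
  have hcong : ∀ w w' : E0, f w = f w' → CongMod (frattini E0) w w' := fun w w' h => by
    rw [CongMod, ← hfker, MonoidHom.mem_ker, map_mul, map_inv, h, inv_mul_cancel]
  have hact : ∀ (g : normalizerIn S E) (w : E0),
      f (MulAut.conjNormal g w) = ((π g : (rho F E).range) : MulAut (FQ E)) (f w) := fun g w => rfl
  -- the configuration
  obtain ⟨gx, hgx⟩ : ∃ gx, π gx = x := by rwa [← MonoidHom.mem_range, hπR]
  obtain ⟨αy, hαy⟩ := MonoidHom.rangeRestrict_surjective (rho F E) y
  obtain ⟨αt, hαt⟩ := MonoidHom.rangeRestrict_surjective (rho F E) ((x * y⁻¹ * x) ^ 2)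
  obtain ⟨z1, rfl⟩ := QuotientGroup.mk'_surjective (frattini ↥E) e1
  obtain ⟨z2, rfl⟩ := QuotientGroup.mk'_surjective (frattini ↥E) e2
  set v1 := QuotientGroup.mk' (frattini ↥E) z1
  set v2 := QuotientGroup.mk' (frattini ↥E) z2
  set w1 := eq.symm z1
  set w2 := eq.symm z2
  have hfw : ∀ z, f (eq.symm z) = QuotientGroup.mk' (frattini ↥E) z := fun z => by simp [hf]
  have hxne : x ≠ 1 := by
    rintro rfl
    simp only [OneMemClass.coe_one, MulAut.one_apply, left_eq_mul] at hx2
    rw [hx2, Subgroup.closure_insert_one] at hgen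
    have h1 : Nat.card (Subgroup.closure {v2}) = p ^ 2 := by
      rw [hgen, Subgroup.card_top, hVcard]
    rw [← Subgroup.zpowers_eq_closure, Nat.card_zpowers] at h1
    have h2 : orderOf v2 ≤ p := Nat.le_of_dvd (Fact.out : p.Prime).pos
      (orderOf_dvd_of_pow_eq_one (FQ_pow hEp v2))
    rw [h1] at h2
    exact absurd h2 (not_le.2 (lt_self_pow₀ (Fact.out : p.Prime).one_lt (by norm_num)))
  have hgx' : gx ∉ E0 := by
    rw [← hker, MonoidHom.mem_ker, hgx]
    exact hxne
  have hsup : Subgroup.closure {w1, w2} ⊔ frattini E0 = ⊤ := by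
    have h1 : (Subgroup.closure {w1, w2}).map f = ⊤ := by
      rw [MonoidHom.map_closure]
      simp only [Set.image_insert_eq, Set.image_singleton, w1, w2, hfw]
      exact hgen
    have := Subgroup.comap_map_eq f (Subgroup.closure {w1, w2})
    rw [h1, Subgroup.comap_top, hfker] at this
    exact this.symm
  have hlift : ∀ (α : F.autGroup E) (w w' : E0), rho F E α (f w) = f w' →
      CongMod (frattini E0) (MulAut.congr eq.symm (α : MulAut E) w) w' := fun α w w' h =>
    hcong _ _ (Eq.trans (by simp [hf, rho_mk, autCongr_apply]) h)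
  have hρy : rho F E αy = (y : MulAut (FQ E)) := congrArg Subtype.val hαy
  have hρt : rho F E αt = (((x * y⁻¹ * x) ^ 2 : (rho F E).range) : MulAut (FQ E)) :=
    congrArg Subtype.val hαt
  have H : TwoGen p E0 gx w1 w2 (MulAut.congr eq.symm (αy : MulAut E))
      (MulAut.congr eq.symm (αt : MulAut E)) := by
    refine ⟨hgx', hidx, hV, hsup, ?_, ?_, ?_, ?_, ?_, ?_⟩
    · exact hcong _ _ (by rw [hact, hgx, hfw]; exact hx1)
    · exact hcong _ _ (by rw [hact, hgx, map_mul, hfw, hfw]; exact hx2)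
    · exact hlift _ _ _ (by rw [hρy, map_mul, hfw, hfw]; exact hy1)
    · exact hlift _ _ _ (by rw [hρy, hfw]; exact hy2)
    · exact hlift _ _ _ (by rw [hρt, map_inv, hfw]; exact ht1)
    · exact hlift _ _ _ (by rw [hρt, map_inv, hfw]; exact ht2)
  have hEcard : Nat.card E0 = Nat.card E := Nat.card_congr eq.toEquiv
  rcases two_gen_layers hp hNp h3N H with
    (⟨hcom, hpow, hcard⟩ | ⟨hex, hcard, hpow⟩) | ⟨L, hLΦ, hLc, hLcard, hcard, ⟨l, hl, hlne⟩, huniq⟩
  · refine Or.inl (Or.inl ⟨⟨⟨⟨fun a b => ?_⟩⟩, fun a ha => ?_⟩, hEcard ▸ hcard⟩)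
    · simpa using congrArg eq (hcom (eq.symm a) (eq.symm b))
    · simpa using congrArg (fun z : E0 => ((eq z : E) : Ω)) (hpow (eq.symm ⟨a, ha⟩))
  · refine Or.inl (Or.inr ⟨isExtraspecial_equiv hex eq, hEcard ▸ hcard, fun a ha => ?_⟩)
    simpa using congrArg (fun z : E0 => ((eq z : E) : Ω)) (hpow (eq.symm ⟨a, ha⟩))
  · set ι : E0 →* Ω := (normalizerIn S E).subtype.comp E0.subtype with hι
    have hιinj : Function.Injective ι := fun a b h => Subtype.ext (Subtype.ext h)
    refine Or.inr ⟨L.map ι, ?_, ?_, hEcard ▸ hcard, hidx, ?_, fun a => ?_, ?_, ?_⟩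
    · rintro _ ⟨w, -, rfl⟩
      exact w.2
    · rw [Subgroup.card_map_of_injective hιinj, hLcard]
    · rintro _ ⟨w, hw, rfl⟩
      exact ⟨eq w, hfr.le ⟨w, hLΦ hw, rfl⟩, rfl⟩
    · constructor
      · rintro ⟨w, hw, rfl⟩
        refine ⟨w.2, fun v hv => ?_⟩
        rw [SetLike.mem_coe, hLc, Subgroup.mem_center_iff] at hw
        exact congrArg ι (hw ⟨⟨v, hEN hv⟩, hv⟩)
      · rintro ⟨ha, hcen⟩
        refine ⟨⟨⟨a, hEN ha⟩, ha⟩, ?_, rfl⟩
        rw [SetLike.mem_coe, hLc, Subgroup.mem_center_iff]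
        exact fun v => hιinj (hcen _ v.2)
    · exact ⟨gx, gx.2, ι l, ⟨l, hl, rfl⟩, fun h => hlne (Subtype.ext h)⟩
    · intro X hXE hXcard hXn
      have hXN : X ≤ normalizerIn S E := hXE.trans hEN
      have hn : (X.subgroupOf (normalizerIn S E)).Normal :=
        Subgroup.normal_subgroupOf_of_le_normalizer hXn
      have h := huniq (X.subgroupOf (normalizerIn S E)) hn
        (fun z hz => hXE hz)
        ((Nat.card_congr (Subgroup.subgroupOfEquivOfLe hXN).toEquiv).trans hXcard)
      have h2 := congrArg (Subgroup.map (normalizerIn S E).subtype) h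
      rwa [Subgroup.map_map, Subgroup.map_subgroupOf_eq_of_le hXN] at h2

end Cfsg.Agent.PearlExists
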