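import Cfsg.Prelude.Def_FusionSystem
import Cfsg.Agent.FusRankThree.Defs

/-!
# Existence of pearls in sectional rank three: common definitions (S5182)
-/

set_option autoImplicit false

open Cfsg Cfsg.FusionSystem

namespace Cfsg.Agent.PearlExists

universe u

/-- Elementary abelian of order `p ^ 2`, or extraspecial of order `p ^ 3` and exponent `p`. -/
def IsPearlGroup (p : ℕ) (E : Type u) [Group E] : Prop :=
  ((∀ a b : E, a * b = b * a) ∧ (∀ a : E, a ^ p = 1) ∧ Nat.card E = p ^ 2) ∨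
    (Cfsg.IsExtraspecial p E ∧ Nat.card E = p ^ 3 ∧ ∀ a : E, a ^ p = 1)

/-- The two generator configuration in `N = N_S(E)`: a transvection, an opposite transvection and
minus one on `E / Φ(E)`. -/
structure TwoGen (p : ℕ) {N : Type u} [Group N] (E : Subgroup N) [E.Normal] (x : N) (e1 e2 : E)
    (y τ : MulAut E) : Prop where
  notMem : x ∉ E
  index : E.index = p
  rank : (frattini E).index = p ^ 2
  gen : Subgroup.closure {e1, e2} ⊔ frattini E = ⊤
  x1 : FusRankThree.CongMod (frattini E) (MulAut.conjNormal x e1) e1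
  x2 : FusRankThree.CongMod (frattini E) (MulAut.conjNormal x e2) (e2 * e1)
  y1 : FusRankThree.CongMod (frattini E) (y e1) (e1 * e2)
  y2 : FusRankThree.CongMod (frattini E) (y e2) e2
  τ1 : FusRankThree.CongMod (frattini E) (τ e1) e1⁻¹
  τ2 : FusRankThree.CongMod (frattini E) (τ e2) e2⁻¹

/-- The layered alternative: `L = Z(E)` is the unique normal subgroup of order `p ^ 2` in `E`. -/
def IsLayered {Ω : Type u} [Group Ω] (p : ℕ) (S E L : Subgroup Ω) : Prop :=
  L ≤ E ∧ Nat.card L = p ^ 2 ∧ Nat.card E = p ^ 5 ∧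
    (E.subgroupOf (normalizerIn S E)).index = p ∧
    L ≤ (frattini ↥E).map E.subtype ∧
    (∀ x, x ∈ L ↔ x ∈ E ∧ ∀ v ∈ E, v * x = x * v) ∧
    (∃ g ∈ normalizerIn S E, ∃ l ∈ L, g * l * g⁻¹ ≠ l) ∧
    ∀ X : Subgroup Ω, X ≤ E → Nat.card X = p ^ 2 →
      normalizerIn S E ≤ Subgroup.normalizer (X : Set Ω) → X = L

end Cfsg.Agent.PearlExists
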