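import Cfsg.Agent.FusRankThree.Lin

/-!
# The fixed line in the transvection case (S5182)
-/

set_option autoImplicit false

open Cfsg

namespace Cfsg.Agent.PearlExists

universe u

open FusRankThree.LinAux in
/-- Every conjugate of the transvection fixes the common fixed vector. -/
theorem transv_line_comm {p : ℕ} [Fact p.Prime] (hp : 5 ≤ p) {V : Type u} [CommGroup V] [Finite V]
    (hexp : ∀ v : V, v ^ p = 1) {G : Subgroup (MulAut V)} (R : Sylow p G) (hR : Nat.card R = p)
    {x y : MulAut V} (hx : x ∈ G) (hy : y ∈ G) {e1 e2 e3 : V}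
    (hgen : Subgroup.closure {e1, e2, e3} = ⊤)
    (hx' : x e1 = e1 ∧ x e2 = e2 * e1 ∧ x e3 = e3)
    (hy' : y e1 = e1 * e2 ∧ y e2 = e2 ∧ y e3 = e3) (g : MulAut V)
    (hg : g * x * g⁻¹ ∈ G) : (g * x * g⁻¹) e3 = e3 := by
  have hpr := (Fact.out : p.Prime)
  -- two transvections of `G` one centre lying in the axis of the other
  have key : ∀ t ∈ G, t ≠ 1 → (dl t).range ≤ (dl t).ker → t e3 = e3 → ∀ t' ∈ G,
      (dl t').range ≤ (dl t').ker → (dl t').range ≤ (dl t).ker → t' e3 = e3 := by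
    intro t ht ht1 htr hte t' ht' htr' hh
    obtain ⟨h1, h2, h3⟩ := transvection_stab htr htr' hh
    set Q := Subgroup.closure {t, t'} with hQ
    have hQp : IsPGroup p Q :=
      isPGroup_closure_stab hp hexp h1 (Set.pair_subset h2 h3)
    have hQG : Q ≤ G := by
      rw [hQ, Subgroup.closure_le]
      exact Set.pair_subset ht ht'
    obtain ⟨S, hS⟩ :=
      (hQp.of_equiv (Subgroup.subgroupOfEquivOfLe hQG).symm).exists_le_sylow
    have hle : Nat.card Q ≤ p := by
      rw [← Nat.card_congr (Subgroup.subgroupOfEquivOfLe hQG).toEquiv]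
      exact (Subgroup.card_le_of_le hS).trans
        (le_of_eq ((S.card_eq_multiplicity.trans R.card_eq_multiplicity.symm).trans hR))
    have htQ : t ∈ Q := Subgroup.subset_closure (by simp)
    have hcard : Nat.card Q = p := by
      obtain ⟨k, hk⟩ := hQp.exists_card_eq
      rcases k with _ | k
      · refine absurd ?_ ht1
        have := Subgroup.eq_bot_of_card_eq Q (by simpa using hk)
        rwa [this, Subgroup.mem_bot] at htQ
      · refine le_antisymm hle ?_
        rw [hk]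
        exact Nat.le_self_pow k.succ_ne_zero p
    obtain ⟨n, hn⟩ := exists_pow_eq hcard htQ ht1 (Subgroup.subset_closure (by simp) : t' ∈ Q)
    rw [← hn]
    exact pow_fixed hte n
  -- the displacements of `x` and `y`
  have hrx : (dl x).range ≤ Subgroup.zpowers e1 := by
    rw [MonoidHom.range_eq_map, ← hgen, MonoidHom.map_closure, Subgroup.closure_le]
    rintro _ ⟨v, hv, rfl⟩
    rcases hv with rfl | rfl | rfl
    · simp [hx'.1]
    · simp [hx'.2.1]
    · simp [hx'.2.2]
  have hry : (dl y).range ≤ Subgroup.zpowers e2 := by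
    rw [MonoidHom.range_eq_map, ← hgen, MonoidHom.map_closure, Subgroup.closure_le]
    rintro _ ⟨v, hv, rfl⟩
    rcases hv with rfl | rfl | rfl
    · simp [hy'.1]
    · simp [hy'.2.1]
    · simp [hy'.2.2]
  have htx : (dl x).range ≤ (dl x).ker :=
    hrx.trans (Subgroup.zpowers_le.2 (mem_ker.2 hx'.1))
  have hty : (dl y).range ≤ (dl y).ker :=
    hry.trans (Subgroup.zpowers_le.2 (mem_ker.2 hy'.2.1))
  have hconj : ∀ s : MulAut V, (dl (s * x * s⁻¹)).range ≤ (dl (s * x * s⁻¹)).ker := by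
    intro s
    rw [range_conj, ker_conj]
    exact Subgroup.map_mono htx
  have hc : (dl (g * x * g⁻¹)).range ≤ Subgroup.zpowers (g e1) := by
    rw [range_conj]
    refine (Subgroup.map_mono hrx).trans ?_
    rw [MonoidHom.map_zpowers]
    exact le_rfl
  -- coordinates of the centre
  have hcoord : ∀ v : V, ∃ a b d : ℕ, v = e1 ^ a * e2 ^ b * e3 ^ d := by
    intro v
    have hv : v ∈ Submonoid.closure ({e1, e2, e3} : Set V) := by
      rw [← Subgroup.closure_toSubmonoid_of_finite, Subgroup.mem_toSubmonoid, hgen]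
      trivial
    induction hv using Submonoid.closure_induction with
    | mem a ha =>
      rcases ha with rfl | rfl | rfl
      · exact ⟨1, 0, 0, by simp⟩
      · exact ⟨0, 1, 0, by simp⟩
      · exact ⟨0, 0, 1, by simp⟩
    | one => exact ⟨0, 0, 0, by simp⟩
    | mul a b _ _ ha hb =>
      obtain ⟨i, j, k, rfl⟩ := ha
      obtain ⟨i', j', k', rfl⟩ := hb
      exact ⟨i + i', j + j', k + k', by rw [pow_add, pow_add, pow_add]; ac_rfl⟩
  obtain ⟨a, b, d, habd⟩ := hcoord (g e1)
  by_cases hy1 : y = 1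
  · -- then `e2` is trivial and so is `x e2`
    have h1 := hy'.1
    rw [hy1, MulAut.one_apply] at h1
    have he2 : e2 = 1 := mul_left_cancel (h1.symm.trans (mul_one e1).symm)
    have h2 := hx'.2.1
    rw [he2, map_one, one_mul] at h2
    have hx1 : x = 1 := MulEquiv.ext fun v => by
      obtain ⟨a, b, d, rfl⟩ := hcoord v
      simp [← h2, he2, hx'.2.2]
    simp [hx1]
  have hx1 : x ≠ 1 := fun e => hy1 (MulEquiv.ext fun v => by
    have h2 := hx'.2.1
    rw [e, MulAut.one_apply] at h2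
    have he1 : e1 = 1 := mul_left_cancel (h2.symm.trans (mul_one e2).symm)
    have h3 := hy'.1
    rw [he1, map_one, one_mul] at h3
    obtain ⟨a, b, d, rfl⟩ := hcoord v
    simp [he1, ← h3, hy'.2.2])
  by_cases ha : p ∣ a
  · refine key y hy hy1 hty hy'.2.2 _ hg (hconj g) (hc.trans (Subgroup.zpowers_le.2 ?_))
    obtain ⟨a', rfl⟩ := ha
    rw [mem_ker, habd, pow_mul, hexp, one_pow, one_mul, map_mul, map_pow, map_pow, hy'.2.1,
      hy'.2.2]
  · obtain ⟨m, hm⟩ : ∃ m : ℕ, (m * a) % p = b % p := by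
      refine ⟨((b : ZMod p) * (a : ZMod p)⁻¹).val, ?_⟩
      have h0 : (a : ZMod p) ≠ 0 := fun e => ha ((ZMod.natCast_eq_zero_iff a p).1 e)
      refine (ZMod.natCast_eq_natCast_iff' _ _ _).1 ?_
      push_cast
      rw [ZMod.natCast_zmod_val, mul_assoc, inv_mul_cancel₀ h0, mul_one]
    have hpw : ∀ v : V, v ^ (m * a) = v ^ b := fun v => by
      rw [pow_eq_pow_mod _ (hexp v), hm, ← pow_eq_pow_mod _ (hexp v)]
    set s : MulAut V := y ^ m with hs
    have hse1 : s e1 = e1 * e2 ^ m := pow_shift hy'.2.1 hy'.1 m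
    have hse3 : s e3 = e3 := pow_fixed hy'.2.2 m
    refine key (s * x * s⁻¹) (G.mul_mem (G.mul_mem (G.pow_mem hy m) hx) (G.inv_mem (G.pow_mem hy m)))
      (fun e => hx1 ?_) (hconj s) ?_ _ hg (hconj g) (hc.trans (Subgroup.zpowers_le.2 ?_))
    · rwa [mul_inv_eq_one, mul_eq_left] at e
    · rw [MulAut.mul_apply, MulAut.mul_apply, inv_fixed hse3, hx'.2.2, hse3]
    · rw [ker_conj]
      refine ⟨e1 ^ a * e3 ^ d, mem_ker.2 (by rw [map_mul, map_pow, map_pow, hx'.1, hx'.2.2]), ?_⟩
      show s (e1 ^ a * e3 ^ d) = g e1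
      rw [map_mul, map_pow, map_pow, hse1, hse3, mul_pow, ← pow_mul, hpw, habd]

theorem transv_line {p : ℕ} [Fact p.Prime] (hp : 5 ≤ p) {V : Type u} [Group V] [Finite V]
    (hexp : ∀ v : V, v ^ p = 1) (hcomm : ∀ a b : V, a * b = b * a) (hcard : Nat.card V = p ^ 3)
    {G : Subgroup (MulAut V)} (R : Sylow p G) (hR : Nat.card R = p) {x y : MulAut V} (hx : x ∈ G)
    (hy : y ∈ G) {e1 e2 e3 : V} (hgen : Subgroup.closure {e1, e2, e3} = ⊤)
    (hx' : x e1 = e1 ∧ x e2 = e2 * e1 ∧ x e3 = e3)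
    (hy' : y e1 = e1 * e2 ∧ y e2 = e2 ∧ y e3 = e3) :
    ∀ g ∈ G, g * x * g⁻¹ ∈ G → (g * x * g⁻¹) e3 = e3 := by
  intro g _ hg
  let : CommGroup V := { ‹Group V› with mul_comm := hcomm }
  exact transv_line_comm hp hexp R hR hx hy hgen hx' hy' g hg

end Cfsg.Agent.PearlExists
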