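import Cfsg.Agent.FusRankThree.Main
import Cfsg.Agent.PearlExists.LineInvariant
import Cfsg.Agent.PearlExists.Defs

/-!
# The frame of a rank three essential subgroup (S5182)
-/

set_option autoImplicit false

open Cfsg Cfsg.FusionSystem Cfsg.Agent.FusionSys
open Cfsg.Agent.FusRankThree
open scoped commutatorElement

namespace Cfsg.Agent.PearlExists

universe u

variable {p : ℕ} {Ω : Type u} [Group Ω] {S : Subgroup Ω}

/-- A maximal subgroup of `N` with elementary abelian Frattini quotient of order `p ^ 3`. -/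
structure IsMax3 (p : ℕ) {N : Type u} [Group N] (A : Subgroup N) : Prop where
  normal : A.Normal
  index : A.index = p
  rank : (frattini A).index = p ^ 3

/-- The single Jordan block case. -/
def IsJordan {N : Type u} [Group N] (A : Subgroup N) : Prop :=
  (∀ X : Subgroup A, X.Characteristic → frattini A ≤ X → X = frattini A ∨ X = ⊤) ∧
    ∃ e ∈ A, ∀ x : N, x ∉ A → ⁅⁅e, x⁆, x⁆ ∉ (frattini A).map A.subtype

/-- The transvection case in group language. -/
def IsTransv (p : ℕ) {N : Type u} [Group N] (A : Subgroup N) [A.Normal] : Prop :=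
  (∀ v : N, v ^ p ∈ (frattini A).map A.subtype) ∧
    ∃ (x : N) (_ : x ∉ A) (e1 e2 e3 : A), Subgroup.closure {e1, e2, e3} ⊔ frattini A = ⊤ ∧
      CongMod (frattini A) (MulAut.conjNormal x e1) e1 ∧
      CongMod (frattini A) (MulAut.conjNormal x e2) (e2 * e1) ∧
      CongMod (frattini A) (MulAut.conjNormal x e3) e3 ∧
      ∃ y : MulAut A, CongMod (frattini A) (y e1) (e1 * e2) ∧
        CongMod (frattini A) (y e2) e2 ∧ CongMod (frattini A) (y e3) e3

/-- When `Φ(E) = 1` in the transvection case: a line of `Z(N)` with a torus. -/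
structure LineData (p : ℕ) {N : Type u} [Group N] (e1 e3 : N) (β : MulAut N) (a : ℕ) : Prop where
  q1 : e1 ^ p = 1
  q3 : e3 ^ p = 1
  ne3 : e3 ≠ 1
  ind : ∀ i k : ℤ, e1 ^ i * e3 ^ k = 1 → (p : ℤ) ∣ i ∧ (p : ℤ) ∣ k
  cent1 : e1 ∈ Subgroup.center N
  cent3 : e3 ∈ Subgroup.center N
  center : ∀ z ∈ Subgroup.center N, ∃ r s : ℕ, z = e3 ^ r * e1 ^ s
  comm : ∀ v w : N, ⁅v, w⁆ ∈ Subgroup.zpowers e1
  isComm : ∃ v w : N, ⁅v, w⁆ = e1
  b1 : β e1 = e1 ^ a
  b3 : β e3 = e3
  ha : (a : ZMod p) ≠ 1

/-- The derived subgroup of the frame group is `⟨e1⟩`. -/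
theorem comm_mem {Q : Type u} [Group Q] [Finite Q] {e1 e2 e3 x : Q} (B : Base p e1 e2 e3 x)
    (q r : Q) : ⁅q, r⁆ ∈ Subgroup.zpowers e1 := by
  obtain ⟨i, j, k, t, rfl⟩ := B.exists_norm q
  obtain ⟨i', j', k', t', rfl⟩ := B.exists_norm r
  have e : ∀ (i j k : ℤ) (t : ℕ) (i' j' k' : ℤ) (t' : ℕ),
      wrd e1 e2 e3 i j k * x ^ t * (wrd e1 e2 e3 i' j' k' * x ^ t') =
        wrd e1 e2 e3 (i + (i' + j' * t)) (j + j') (k + k') * x ^ (t + t') := fun i j k t i' j' k' t' => by
    calc wrd e1 e2 e3 i j k * x ^ t * (wrd e1 e2 e3 i' j' k' * x ^ t')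
        = wrd e1 e2 e3 i j k * (x ^ t * wrd e1 e2 e3 i' j' k' * (x ^ t)⁻¹) * (x ^ t * x ^ t') := by
          group
      _ = _ := by rw [B.x_conj, B.wrd_mul, ← pow_add]
  refine ⟨j' * t - j * t', ?_⟩
  show e1 ^ (j' * (t : ℤ) - j * (t' : ℤ)) = _
  rw [(show ∀ a b : Q, ⁅a, b⁆ = a * b * (b * a)⁻¹ from fun a b => by
      simp [commutatorElement_def, mul_assoc]) (wrd e1 e2 e3 i j k * x ^ t), e, e,
    eq_mul_inv_iff_mul_eq, add_comm t t', add_comm j j', add_comm k k', ← mul_assoc,
    show e1 ^ (j' * (t : ℤ) - j * (t' : ℤ)) = wrd e1 e2 e3 (j' * t - j * t') 0 0 by simp [wrd],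
    B.wrd_mul]
  ring_nf

/-- Exponents of an element of a three generated abelian group. -/
theorem exists_exp {V : Type u} [Group V] (hcomm : ∀ a b : V, a * b = b * a) {e1 e2 e3 : V}
    (hgen : Subgroup.closure {e1, e2, e3} = ⊤) (v : V) :
    ∃ i j k : ℤ, v = e1 ^ i * e2 ^ j * e3 ^ k := by
  let : CommGroup V := { ‹Group V› with mul_comm := hcomm }
  have hv : v ∈ Subgroup.closure {e1, e2, e3} := hgen ▸ Subgroup.mem_top v
  induction hv using Subgroup.closure_induction with
  | mem y hy =>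
    rcases hy with rfl | rfl | rfl
    · exact ⟨1, 0, 0, by simp⟩
    · exact ⟨0, 1, 0, by simp⟩
    · exact ⟨0, 0, 1, by simp⟩
  | one => exact ⟨0, 0, 0, by simp⟩
  | mul a b _ _ ha hb =>
    obtain ⟨i, j, k, rfl⟩ := ha
    obtain ⟨i', j', k', rfl⟩ := hb
    exact ⟨i + i', j + j', k + k', by simp only [zpow_add]; ac_rfl⟩
  | inv a _ ha =>
    obtain ⟨i, j, k, rfl⟩ := ha
    exact ⟨-i, -j, -k, by simp only [zpow_neg, mul_inv]⟩

set_option maxHeartbeats 1600000 in
/-- The frame of an essential subgroup with `|E : Φ(E)| = p ^ 3`, inside `N = N_S(E)`. -/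
theorem essential_frame [Finite S] [Fact p.Prime] (hp : 5 ≤ p) (hS : IsPGroup p S)
    (h3 : RankThree p S) {F : FusionSystem S} (hF : F.IsSaturated p) {E : Subgroup Ω}
    (hE : F.IsEssential p E) (hrk : (frattini ↥E).index = p ^ 3) {N : Subgroup Ω}
    (hNeq : normalizerIn S E = N) :
    IsMax3 p (E.subgroupOf N) ∧ (IsJordan (E.subgroupOf N) ∨
      ((∀ [(E.subgroupOf N).Normal], IsTransv p (E.subgroupOf N)) ∧
        ((frattini ↥E) = ⊥ → ∃ (e1 e3 : N) (β : MulAut N) (a : ℕ), LineData p e1 e3 β a ∧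
          β ∈ F.autGroup N ∧
          ∀ α ∈ F.autGroup E, ∀ w : E, (w : Ω) ∈ Subgroup.zpowers (e3 : Ω) →
            (((α : MulAut E) w : E) : Ω) ∈ Subgroup.zpowers (e3 : Ω)))) := by
  subst hNeq
  classical
  have hpp : p.Prime := Fact.out
  have hES : E ≤ S := hE.1.1
  haveI : Finite E := finite_of_le ‹_› hES
  have hEp : IsPGroup p E := hS.to_le hES
  have hNS : normalizerIn S E ≤ S := normalizerIn_le E
  haveI : Finite (normalizerIn S E) := finite_of_le ‹_› hNS
  have hNp : IsPGroup p (normalizerIn S E) := hS.to_le hNS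
  have h3N : RankThree p (normalizerIn S E) :=
    rankThree_of_injective h3 (Subgroup.inclusion hNS) (Subgroup.inclusion_injective hNS)
  have hEN : E ≤ normalizerIn S E := le_normalizerIn hES
  -- the linear data
  obtain ⟨R, Y, hRne, hY, hN, hmem⟩ := exists_lin_data hS hF hE
  have hVcard : Nat.card (FQ E) = p ^ 3 := by rw [← hrk, Subgroup.index_eq_card]
  have hR := lin_sylow_card hp (FQ_pow hEp) (FQ_comm hEp) hVcard R hRne hY hN
  set π : normalizerIn S E →* (rho F E).range := (rho F E).rangeRestrict.comp (conjAut F hES)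
    with hπ
  have hπR : π.range = (R : Subgroup (rho F E).range) := by
    ext r
    constructor
    · rintro ⟨g, rfl⟩
      exact (hmem _).2 (mem_autInducedBy.2 ⟨g, g.2.1, fun _ => rfl⟩)
    · intro hr
      obtain ⟨α, rfl⟩ := MonoidHom.rangeRestrict_surjective (rho F E) r
      obtain ⟨g, hg, hge⟩ := mem_autInducedBy.1 ((hmem α).1 hr)
      refine ⟨⟨g, hg, mem_normalizer_of_conj_eq (α : MulAut E) hge⟩, ?_⟩
      rw [hπ, MonoidHom.comp_apply]
      congr 1
      exact Subtype.ext (MulEquiv.ext fun z => Subtype.ext (hge z).symm)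
  set E0 := E.subgroupOf (normalizerIn S E) with hE0
  have hker : π.ker = E0 := by
    ext g
    rw [MonoidHom.mem_ker, hE0, Subgroup.mem_subgroupOf, hπ, MonoidHom.comp_apply,
      ← rho_conjAut_eq_one hS hE g, Subtype.ext_iff]
    rfl
  haveI hE0n : E0.Normal := hker ▸ inferInstance
  have hidx : E0.index = p := by rw [← hker, Subgroup.index_ker, hπR, hR]
  set eq : E0 ≃* E := Subgroup.subgroupOfEquivOfLe hEN with heq
  have hE0p : IsPGroup p E0 := hNp.to_subgroup E0
  have hfr : (frattini E0).map eq.toMonoidHom = frattini E :=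
    PGroup.map_frattini hE0p eq.toMonoidHom eq.surjective
  have hV : (frattini E0).index = p ^ 3 := by
    rw [← hrk, ← hfr]; exact (Subgroup.index_map_equiv (frattini E0) eq).symm
  set f : E0 →* FQ E := (QuotientGroup.mk' (frattini ↥E)).comp eq.toMonoidHom with hf
  have hfker : f.ker = frattini E0 := by
    rw [hf, ← MonoidHom.comap_ker, QuotientGroup.ker_mk', ← hfr]
    exact Subgroup.comap_map_eq_self_of_injective eq.injective _
  have hcong : ∀ w w' : E0, f w = f w' → CongMod (frattini E0) w w' := fun w w' h => by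
    rw [CongMod, ← hfker, MonoidHom.mem_ker, map_mul, map_inv, h, inv_mul_cancel]
  set DN := (frattini E0).map E0.subtype with hDN
  haveI hDNn : DN.Normal := by rw [hDN]; infer_instance
  have hDNE : ∀ d ∈ DN, (d : Ω) ∈ E := by
    rintro _ ⟨w, -, rfl⟩
    exact w.2
  have keyq : ∀ w w' : E0, f w = f w' →
      ((w : normalizerIn S E) : normalizerIn S E ⧸ DN) = ((w' : normalizerIn S E) : _ ⧸ DN) :=
    fun w w' h => QuotientGroup.eq.2 ⟨w⁻¹ * w', hcong w w' h, rfl⟩
  have keyq1 : ∀ w : E0, ((w : normalizerIn S E) : normalizerIn S E ⧸ DN) = 1 → f w = 1 := by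
    intro w h
    obtain ⟨d, hd, hdw⟩ := (QuotientGroup.eq_one_iff _).1 h
    rw [← MonoidHom.mem_ker, hfker, ← E0.subtype_injective hdw]
    exact hd
  -- the action of `N_S(E)` on `E / Φ(E)`
  have hact : ∀ (g : normalizerIn S E) (w : E0),
      f (MulAut.conjNormal g w) = ((π g : (rho F E).range) : MulAut (FQ E)) (f w) := fun g w => rfl
  rcases lin_cases hp (FQ_pow hEp) (FQ_comm hEp) hVcard R hRne hY hN with
    ⟨⟨v, hv⟩, hirr⟩ | ⟨x, hxR, y, hy, e1, e2, e3, hgen, ⟨hx1, hx2, hx3⟩, ⟨hy1, hy2, hy3⟩, htor⟩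
  · -- a single Jordan block
    obtain ⟨z, rfl⟩ := QuotientGroup.mk'_surjective (frattini ↥E) v
    refine ⟨⟨hE0n, hidx, hV⟩, Or.inl ⟨?_, ((eq.symm z : E0) : normalizerIn S E), (eq.symm z).2, ?_⟩⟩
    · intro X hX hΦX
      have hX2 : ∀ α : MulAut E, ∀ w ∈ X.map eq.toMonoidHom, α w ∈ X.map eq.toMonoidHom := by
        rintro α _ ⟨w, hw, rfl⟩
        refine ⟨MulAut.congr eq.symm α w,
          (Subgroup.characteristic_iff_map_eq.1 hX (MulAut.congr eq.symm α)).le ⟨w, hw, rfl⟩, ?_⟩
        simp [autCongr_apply]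
      have hXf : ∀ G ∈ (rho F E).range, ∀ v ∈ X.map f, G v ∈ X.map f := by
        rintro _ ⟨α, rfl⟩ _ ⟨w, hw, rfl⟩
        obtain ⟨w', hw', hww⟩ := hX2 (α : MulAut E) _ ⟨w, hw, rfl⟩
        refine ⟨w', hw', ?_⟩
        show ((eq w' : E) : FQ E) = rho F E α ((eq w : E) : FQ E)
        rw [rho_mk]
        exact congrArg _ hww
      rcases hirr (X.map f) hXf with h | h
      · left
        refine le_antisymm ?_ hΦX
        rwa [Subgroup.map_eq_bot_iff, hfker] at h
      · right
        have := Subgroup.comap_map_eq f X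
        rw [h, Subgroup.comap_top, hfker, sup_eq_left.2 hΦX] at this
        exact this.symm
    · intro n hn hmem'
      have hne1 : π n ≠ 1 := fun h => hn (hker ▸ MonoidHom.mem_ker.2 h)
      have hnR : π n ∈ (R : Subgroup (rho F E).range) := hπR ▸ ⟨n, rfl⟩
      have hstep : ∀ w : E0, ⁅(w : normalizerIn S E), n⁆ =
          ((w * MulAut.conjNormal n w⁻¹ : E0) : normalizerIn S E) := fun w => by
        simp [commutatorElement_def, mul_assoc]
      rw [hstep, hstep] at hmem'
      obtain ⟨d, hd, hdw⟩ := hmem'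
      rw [SetLike.mem_coe, ← hfker, Subtype.ext (a1 := d) (a2 := _) hdw, MonoidHom.mem_ker] at hd
      simp only [map_mul, map_inv, hact,
        show f (eq.symm z) = QuotientGroup.mk' (frattini ↥E) z by simp [hf]] at hd
      refine hv _ hnR hne1 ?_
      rw [mul_inv_eq_one] at hd
      have hd' := congrArg (·⁻¹) hd
      simp only [mul_inv_rev, inv_inv] at hd'
      simp only [map_mul, map_inv]
      rw [FQ_comm hEp (((π n : (rho F E).range) : MulAut (FQ E)) _)⁻¹,
        FQ_comm hEp (QuotientGroup.mk' (frattini ↥E) z)⁻¹]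
      exact hd'.symm
  · -- a transvection
    obtain ⟨gx, hgx⟩ : ∃ gx, π gx = x := by rwa [← MonoidHom.mem_range, hπR]
    obtain ⟨z1, rfl⟩ := QuotientGroup.mk'_surjective (frattini ↥E) e1
    obtain ⟨z2, rfl⟩ := QuotientGroup.mk'_surjective (frattini ↥E) e2
    obtain ⟨z3, rfl⟩ := QuotientGroup.mk'_surjective (frattini ↥E) e3
    obtain ⟨αy, rfl⟩ := hy
    set w1 := eq.symm z1
    set w2 := eq.symm z2
    set w3 := eq.symm z3
    have hfw : ∀ z, f (eq.symm z) = QuotientGroup.mk' (frattini ↥E) z := fun z => by simp [hf]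
    set v1 := QuotientGroup.mk' (frattini ↥E) z1
    set v2 := QuotientGroup.mk' (frattini ↥E) z2
    set v3 := QuotientGroup.mk' (frattini ↥E) z3
    have hind : ∀ i j k : ℤ, v1 ^ i * v2 ^ j * v3 ^ k = 1 →
        (p : ℤ) ∣ i ∧ (p : ℤ) ∣ j ∧ (p : ℤ) ∣ k :=
      indep_of_gen (FQ_pow hEp) (FQ_comm hEp) hVcard hgen
    have hv1 : v1 ≠ 1 := fun h => by
      obtain ⟨d, -, -⟩ := hind 1 0 0 (by simp [h])
      exact hpp.ne_one (by exact_mod_cast Int.eq_one_of_dvd_one (by positivity) d)
    have hxne : x ≠ 1 := by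
      rintro rfl
      simp only [OneMemClass.coe_one, MulAut.one_apply, left_eq_mul] at hx2
      exact hv1 hx2
    have hgx' : gx ∉ E0 := by
      rw [← hker, MonoidHom.mem_ker, hgx]
      exact hxne
    have hsup : Subgroup.closure {w1, w2, w3} ⊔ frattini E0 = ⊤ := by
      have h1 : (Subgroup.closure {w1, w2, w3}).map f = ⊤ := by
        rw [MonoidHom.map_closure]
        simp only [Set.image_insert_eq, Set.image_singleton, w1, w2, w3, hfw]
        exact hgen
      have := Subgroup.comap_map_eq f (Subgroup.closure {w1, w2, w3})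
      rw [h1, Subgroup.comap_top, hfker] at this
      exact this.symm
    -- the frame
    set q1 : normalizerIn S E ⧸ DN := ((w1 : normalizerIn S E) : normalizerIn S E ⧸ DN)
    set q2 : normalizerIn S E ⧸ DN := ((w2 : normalizerIn S E) : normalizerIn S E ⧸ DN)
    set q3 : normalizerIn S E ⧸ DN := ((w3 : normalizerIn S E) : normalizerIn S E ⧸ DN)
    set qx : normalizerIn S E ⧸ DN := (gx : normalizerIn S E ⧸ DN) with hqx
    have hbar : ∀ n : normalizerIn S E, (n : Ω) ∈ E ↔
        (n : normalizerIn S E ⧸ DN) ∈ Subgroup.closure {q1, q2, q3} := by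
      intro n
      constructor
      · intro hn
        have hle : Subgroup.closure {w1, w2, w3} ⊔ frattini E0 ≤ (Subgroup.closure {q1, q2, q3}).comap
            ((QuotientGroup.mk' DN).comp E0.subtype) := by
          refine sup_le ((Subgroup.closure_le _).2 ?_) fun d hd => ?_
          · rintro w (rfl | rfl | rfl) <;>
              exact Subgroup.subset_closure (by simp [q1, q2, q3])
          · rw [Subgroup.mem_comap]
            show ((d : normalizerIn S E) : normalizerIn S E ⧸ DN) ∈ _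
            rw [(QuotientGroup.eq_one_iff _).2
              (show (d : normalizerIn S E) ∈ DN from ⟨d, hd, rfl⟩)]
            exact one_mem _
        exact hle (hsup ▸ Subgroup.mem_top (⟨n, hn⟩ : E0))
      · intro hn
        have hle : Subgroup.closure {q1, q2, q3} ≤ E0.map (QuotientGroup.mk' DN) := by
          rw [Subgroup.closure_le]
          rintro _ (rfl | rfl | rfl) <;> exact ⟨_, Subtype.prop _, rfl⟩
        obtain ⟨w, hw, hwn⟩ := hle hn
        have h1 := hDNE _ (QuotientGroup.eq.1 hwn)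
        have h2 := E.mul_mem hw h1
        simpa using h2
    have hxi : ∀ w w' : E0, ((π gx : (rho F E).range) : MulAut (FQ E)) (f w) = f w' →
        qx * ((w : normalizerIn S E) : normalizerIn S E ⧸ DN) * qx⁻¹ =
          ((w' : normalizerIn S E) : normalizerIn S E ⧸ DN) := fun w w' h => by
      rw [← keyq (MulAut.conjNormal gx w) w' ((hact gx w).trans h)]
      rfl
    have hB : Base p q1 q2 q3 qx := by
      refine ⟨?_, ?_, ?_, ?_, ?_, ?_, ?_, ?_, ?_, ?_, ?_, ?_, ?_⟩
      · exact keyq (w1 ^ p) 1 (by rw [map_pow, FQ_pow hEp, map_one])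
      · exact keyq (w2 ^ p) 1 (by rw [map_pow, FQ_pow hEp, map_one])
      · exact keyq (w3 ^ p) 1 (by rw [map_pow, FQ_pow hEp, map_one])
      · exact keyq (w1 * w2) (w2 * w1) (by rw [map_mul, map_mul, FQ_comm hEp])
      · exact keyq (w1 * w3) (w3 * w1) (by rw [map_mul, map_mul, FQ_comm hEp])
      · exact keyq (w2 * w3) (w3 * w2) (by rw [map_mul, map_mul, FQ_comm hEp])
      · exact (mul_inv_eq_iff_eq_mul.1 (hxi w1 w1 (by rw [hgx, hfw]; exact hx1))).symm
      · exact (mul_inv_eq_iff_eq_mul.1 (hxi w3 w3 (by rw [hgx, hfw]; exact hx3))).symm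
      · exact hxi w2 (w2 * w1) (by rw [hgx, map_mul, hfw, hfw]; exact hx2)
      · intro i j k hijk
        have := keyq1 (w1 ^ i * w2 ^ j * w3 ^ k) hijk
        rw [map_mul, map_mul, map_zpow, map_zpow, map_zpow, hfw, hfw, hfw] at this
        exact hind i j k this
      · refine eq_top_iff.2 fun q _ => ?_
        obtain ⟨n, rfl⟩ := QuotientGroup.mk'_surjective DN q
        haveI : Finite R := inferInstance
        have hzp : (R : Subgroup (rho F E).range) = Subgroup.zpowers x := by
          refine (Subgroup.eq_of_le_of_card_ge (Subgroup.zpowers_le.2 hxR) ?_).symm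
          have hd : orderOf x ∣ p := hR ▸ (Subgroup.orderOf_dvd_natCard _ hxR)
          rcases (Nat.dvd_prime hpp).1 hd with h | h
          · exact absurd (orderOf_eq_one_iff.1 h) hxne
          · rw [Nat.card_zpowers, h, hR]
        obtain ⟨m, hm⟩ : π n ∈ Subgroup.zpowers x := by rw [← hzp, ← hπR]; exact ⟨n, rfl⟩
        have hn0 : n * (gx ^ m)⁻¹ ∈ E0 := by
          rw [← hker, MonoidHom.mem_ker, map_mul, map_inv, map_zpow, hgx, ← hm, mul_inv_cancel]
        have h1 := Subgroup.closure_mono (show ({q1, q2, q3} : Set _) ⊆ {q1, q2, q3, qx} by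
          simp [Set.subset_def]) ((hbar _).1 (Subgroup.mem_subgroupOf.1 hn0))
        have h2 := mul_mem h1 (zpow_mem (Subgroup.subset_closure
          (show qx ∈ ({q1, q2, q3, qx} : Set _) by simp)) m)
        rwa [hqx, QuotientGroup.mk_mul, QuotientGroup.mk_inv, QuotientGroup.mk_zpow,
          inv_mul_cancel_right] at h2
      · exact fun h => hgx' ((hbar gx).2 h)
      · rw [hqx, ← QuotientGroup.mk_pow, ← hbar]
        exact hidx ▸ E0.pow_index_mem gx
    -- the torus
    obtain ⟨u, hu⟩ := IsCyclic.exists_generator (α := (ZMod p)ˣ)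
    have hord : orderOf u = p - 1 := by
      rw [orderOf_eq_card_of_forall_mem_zpowers hu, Nat.card_eq_fintype_card, ZMod.card_units]
    set a : ℕ := (u : ZMod p).val with ha
    have hau : (a : ZMod p) = u := ZMod.natCast_zmod_val _
    have hpow : ∀ k : ℕ, (a : ZMod p) ^ k = 1 → p - 1 ∣ k := fun k hk => by
      rw [← hord]
      refine orderOf_dvd_of_pow_eq_one (Units.ext ?_)
      rw [Units.val_pow_eq_pow_val, ← hau, hk, Units.val_one]
    have ha2 : (a : ZMod p) ^ 2 ≠ 1 := fun h => by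
      have := Nat.le_of_dvd (by norm_num) (hpow 2 h); omega
    have ha3 : (a : ZMod p) ^ 3 ≠ 1 := fun h => by
      have := Nat.le_of_dvd (by norm_num) (hpow 3 h); omega
    have ha5 : (a : ZMod p) ^ 5 ≠ 1 := fun h => by
      rcases (Nat.dvd_prime (by norm_num : Nat.Prime 5)).1 (hpow 5 h) with h' | h'
      · omega
      · exact absurd hpp (by rw [show p = 6 by omega]; norm_num)
    have hpa : ¬ p ∣ a := fun h => u.ne_zero (by rw [← hau]; exact (ZMod.natCast_eq_zero_iff _ _).2 h)
    obtain ⟨b, hab, t, ht, ht1, ht2, ht3⟩ := htor a hpa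
    obtain ⟨αt, rfl⟩ := ht
    have hab' : ((a * b : ℕ) : ZMod p) = 1 := by
      rw [← ZMod.natCast_mod, hab, Nat.cast_one]
    set n2 := a * a with hn2
    have hxpow : ∀ m : ℕ, ((x : MulAut (FQ E)) ^ m) v1 = v1 ∧
        ((x : MulAut (FQ E)) ^ m) v2 = v2 * v1 ^ m ∧ ((x : MulAut (FQ E)) ^ m) v3 = v3 := by
      intro m
      induction m with
      | zero => simp
      | succ m ih =>
        obtain ⟨i1, i2, i3⟩ := ih
        refine ⟨?_, ?_, ?_⟩
        · rw [pow_succ', MulAut.mul_apply, i1, hx1]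
        · rw [pow_succ', MulAut.mul_apply, i2, map_mul, map_pow, hx1, hx2, mul_assoc, ← pow_succ']
        · rw [pow_succ', MulAut.mul_apply, i3, hx3]
    have htx : (rho F E).rangeRestrict αt * x * ((rho F E).rangeRestrict αt)⁻¹ = x ^ n2 := by
      rw [mul_inv_eq_iff_eq_mul]
      refine Subtype.ext (MulEquiv.toMonoidHom_injective
        (MonoidHom.eq_of_eqOn_dense hgen ?_))
      obtain ⟨i1, i2, i3⟩ := hxpow n2
      rintro w (rfl | rfl | rfl)
      · show rho F E αt ((x : MulAut (FQ E)) v1) = ((x : MulAut (FQ E)) ^ n2) (rho F E αt v1)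
        rw [hx1, ht1, map_pow, i1]
      · show rho F E αt ((x : MulAut (FQ E)) v2) = ((x : MulAut (FQ E)) ^ n2) (rho F E αt v2)
        rw [hx2, map_mul, ht1, ht2, map_pow, i2,
          (show Commute v2 (v1 ^ n2) from FQ_comm hEp _ _).mul_pow, ← pow_mul]
        congr 1
        rw [← zpow_natCast, ← zpow_natCast]
        refine zpow_congr (FQ_pow hEp v1) ?_
        have hab'' : (a : ZMod p) * (b : ZMod p) = 1 := by exact_mod_cast hab'
        simp only [hn2]
        push_cast
        linear_combination -(a : ZMod p) * hab''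
      · show rho F E αt ((x : MulAut (FQ E)) v3) = ((x : MulAut (FQ E)) ^ n2) (rho F E αt v3)
        rw [hx3, ht3, i3]
    obtain ⟨ψ, hψ, hψe, hψN, -⟩ := receptive_extend
      (saturated_receptive_of_fullyNormalized hS hF hE.2.1)
      (φ := E.subtype.comp (αt : MulAut E).toMonoidHom) (autGroup_mem_hom F hES αt.2)
      (range_subtype_comp _)
    have hext : extender S E (E.subtype.comp (αt : MulAut E).toMonoidHom) = normalizerIn S E := by
      refine extender_eq_normalizerIn fun n hn => ?_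
      have hnR : (rho F E).rangeRestrict (αt * conjAut F hES ⟨n, hn⟩ * αt⁻¹) ∈
          (R : Subgroup (rho F E).range) := by
        rw [map_mul, map_mul, map_inv]
        have hzp : π ⟨n, hn⟩ ∈ Subgroup.zpowers x := by
          have hzp : (R : Subgroup (rho F E).range) = Subgroup.zpowers x := by
            refine (Subgroup.eq_of_le_of_card_ge (Subgroup.zpowers_le.2 hxR) ?_).symm
            have hd : orderOf x ∣ p := hR ▸ (Subgroup.orderOf_dvd_natCard _ hxR)
            rcases (Nat.dvd_prime hpp).1 hd with h | h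
            · exact absurd (orderOf_eq_one_iff.1 h) hxne
            · rw [Nat.card_zpowers, h, hR]
          rw [← hzp, ← hπR]; exact ⟨_, rfl⟩
        obtain ⟨m, hm⟩ := hzp
        show (rho F E).rangeRestrict αt * π ⟨n, hn⟩ * ((rho F E).rangeRestrict αt)⁻¹ ∈ _
        rw [← hm, ← conj_zpow, htx]
        exact zpow_mem (pow_mem hxR _) m
      obtain ⟨k, hk, hke⟩ := mem_autInducedBy.1 ((hmem _).1 hnR)
      refine ⟨k, hk, fun w hw => ?_⟩
      have := hke ((αt : MulAut E) w)
      show (((αt : MulAut E) ⟨n * w * n⁻¹, hw⟩ : E) : Ω) = k * (((αt : MulAut E) w : E) : Ω) * k⁻¹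
      rw [← this]
      simp only [Subgroup.coe_mul, MulAut.mul_apply, Subgroup.coe_inv]
      rw [show (αt : MulAut E)⁻¹ ((αt : MulAut E) w) = w from MulEquiv.symm_apply_apply _ w]
      rfl
    have hψe' : ∀ (z : Ω) (h1 : z ∈ E)
        (h2 : z ∈ extender S E (E.subtype.comp (αt : MulAut E).toMonoidHom)),
        ψ ⟨z, h2⟩ = (((αt : MulAut E) ⟨z, h1⟩ : E) : Ω) := fun z h1 h2 => hψe ⟨z, h1⟩
    clear hψe
    generalize extender S E (E.subtype.comp (αt : MulAut E).toMonoidHom) = N' at *
    subst hext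
    have hr : ψ.range = normalizerIn S E :=
      range_eq_of_image_le (F.injective_of_mem hψ) (by rintro _ ⟨n, rfl⟩; exact hψN n) le_rfl
    set β : MulAut (normalizerIn S E) := toIso F hψ hr with hβ
    have hβw : ∀ w : E0, β (w : normalizerIn S E) =
        ((eq.symm ((αt : MulAut E) (eq w)) : E0) : normalizerIn S E) := fun w =>
      Subtype.ext (hψe' _ (eq w).2 w.1.2)
    have hDβ : DN.map β.toMonoidHom = DN := by
      haveI : Finite DN := inferInstance
      refine Subgroup.eq_of_le_of_card_ge ?_ (Subgroup.card_map_of_injective β.injective).ge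
      rintro _ ⟨_, ⟨w, hw, rfl⟩, rfl⟩
      refine ⟨eq.symm ((αt : MulAut E) (eq w)), ?_, (hβw w).symm⟩
      exact (Subgroup.characteristic_iff_map_eq.1 inferInstance
        (MulAut.congr eq.symm (αt : MulAut E))).le ⟨w, hw, rfl⟩
    have hβq : ∀ w w' : E0, rho F E αt (f w) = f w' →
        ((β (w : normalizerIn S E) : normalizerIn S E) : normalizerIn S E ⧸ DN) =
          ((w' : normalizerIn S E) : normalizerIn S E ⧸ DN) := fun w w' h => by
      rw [hβw]
      refine keyq _ _ (Eq.trans ?_ h)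
      simp [hf, rho_mk]
    have hT : Torus p q1 q2 q3 qx (red DN ⟨β, hDβ⟩) a b := by
      refine ⟨hab', ha2, ha3, ?_, ?_, ?_, ?_⟩
      · exact hβq w1 (w1 ^ a) (by rw [map_pow, hfw]; exact ht1)
      · exact hβq w2 (w2 ^ b) (by rw [map_pow, hfw]; exact ht2)
      · exact hβq w3 w3 (by rw [hfw]; exact ht3)
      · rw [hqx, red_mk, ← QuotientGroup.mk_pow, ← QuotientGroup.mk_inv, ← QuotientGroup.mk_mul,
          ← hbar]
        have hconj' : conjAut F hES (β gx) = αt * conjAut F hES gx * αt⁻¹ := by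
          refine Subtype.ext (MulEquiv.ext fun w => Subtype.ext ?_)
          obtain ⟨w, rfl⟩ := (αt : MulAut E).surjective w
          simp only [Subgroup.coe_mul, MulAut.mul_apply, Subgroup.coe_inv]
          rw [show (αt : MulAut E)⁻¹ ((αt : MulAut E) w) = w from MulEquiv.symm_apply_apply _ w,
            conjAut_apply]
          show ψ gx * (((αt : MulAut E) w : E) : Ω) * (ψ gx)⁻¹ = _
          have e1' := hψe' (w : Ω) w.2 (hEN w.2)
          have e2' := hψe' _ (((conjAut F hES gx : F.autGroup E) : MulAut E) w).2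
            (hEN (((conjAut F hES gx : F.autGroup E) : MulAut E) w).2)
          refine Eq.trans ?_ e2'
          rw [show ((αt : MulAut E) w : Ω) = _ from e1'.symm, ← map_inv, ← map_mul, ← map_mul]
          rfl
        have hπβ : π (β gx) = π (gx ^ n2) := by
          rw [map_pow, hgx, ← htx, ← hgx, hπ, MonoidHom.comp_apply, MonoidHom.comp_apply, hconj',
            map_mul, map_mul, map_inv]
        show β gx * (gx ^ n2)⁻¹ ∈ E0
        rw [← hker, MonoidHom.mem_ker, map_mul, map_inv, hπβ, mul_inv_cancel]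
    have hqx1 : qx ^ p = 1 := hB.x_pow_p hp hT
    have hexp : ∀ v : normalizerIn S E, v ^ p ∈ DN := fun v =>
      (QuotientGroup.eq_one_iff _).1 (hB.exp_p hp hqx1 (v : normalizerIn S E ⧸ DN))
    have hy' : ∀ w w' : E0, rho F E αy (f w) = f w' →
        CongMod (frattini E0) (MulAut.congr eq.symm (αy : MulAut E) w) w' := fun w w' h =>
      hcong _ _ (Eq.trans (by simp [hf, rho_mk, autCongr_apply]) h)
    refine ⟨⟨hE0n, hidx, hV⟩, Or.inr ⟨fun {_} => ⟨hexp, gx, hgx', w1, w2, w3, hsup,
      hcong _ _ (by rw [hact, hgx, hfw]; exact hx1),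
      hcong _ _ (by rw [hact, hgx, map_mul, hfw, hfw]; exact hx2),
      hcong _ _ (by rw [hact, hgx, hfw]; exact hx3), MulAut.congr eq.symm (αy : MulAut E),
      hy' _ _ (by rw [map_mul, hfw, hfw]; exact hy1), hy' _ _ (by rw [hfw]; exact hy2),
      hy' _ _ (by rw [hfw]; exact hy3)⟩, fun hbot => ?_⟩⟩
    have hDN0 : DN = ⊥ := by
      rw [hDN, Subgroup.map_eq_bot_iff_of_injective _ E0.subtype_injective,
        ← Subgroup.map_eq_bot_iff_of_injective _ eq.injective (f := eq.toMonoidHom), hfr, hbot]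
    have hinj : ∀ u v : normalizerIn S E,
        (u : normalizerIn S E ⧸ DN) = (v : normalizerIn S E ⧸ DN) → u = v := fun u v h => by
      have h' := QuotientGroup.eq.1 h
      rw [hDN0, Subgroup.mem_bot, inv_mul_eq_one] at h'
      exact h'
    refine ⟨(w1 : normalizerIn S E), (w3 : normalizerIn S E), β, a,
      ⟨?_, ?_, ?_, ?_, ?_, ?_, ?_, ?_, ?_, ?_, ?_, ?_⟩, toIso_mem_autGroup F hψ hr, ?_⟩
    · exact hinj _ _ hB.q1
    · exact hinj _ _ hB.q3
    · intro h
      obtain ⟨-, -, d⟩ := hB.ind 0 0 1 (by simp [q3, h])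
      exact hpp.ne_one (by exact_mod_cast Int.eq_one_of_dvd_one (by positivity) d)
    · intro i k hik
      have h' := congrArg (QuotientGroup.mk' DN) hik
      rw [map_mul, map_zpow, map_zpow, map_one] at h'
      obtain ⟨d1, -, d3⟩ := hB.ind i 0 k (by
        rw [zpow_zero, mul_one]; exact h')
      exact ⟨d1, d3⟩
    · exact Subgroup.mem_center_iff.2 fun n => hinj _ _ (hB.one_central (n : normalizerIn S E ⧸ DN)).eq.symm
    · exact Subgroup.mem_center_iff.2 fun n => hinj _ _ (hB.three_central (n : normalizerIn S E ⧸ DN)).eq.symm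
    · intro z hz
      have hzc : (z : normalizerIn S E ⧸ DN) ∈ Subgroup.center (normalizerIn S E ⧸ DN) :=
        Subgroup.mem_center_iff.2 fun q => by
          obtain ⟨n, rfl⟩ := QuotientGroup.mk'_surjective DN q
          show ((n * z : normalizerIn S E) : normalizerIn S E ⧸ DN) = ((z * n : _) : _ ⧸ DN)
          rw [Subgroup.mem_center_iff.1 hz n]
      obtain ⟨r, s, hrs⟩ := hB.co_zero_form hqx1 ((hB.co_eq_zero_iff hqx1).2 hzc)
      exact ⟨r, s, hinj _ _ hrs⟩
    · intro v w
      obtain ⟨m, hm⟩ := comm_mem hB (v : normalizerIn S E ⧸ DN) (w : normalizerIn S E ⧸ DN)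
      refine ⟨m, hinj _ _ ?_⟩
      exact hm
    · refine ⟨gx, (w2 : normalizerIn S E), hinj _ _ ?_⟩
      show qx * q2 * qx⁻¹ * q2⁻¹ = q1
      rw [hB.hxe, ← (hB.one_central q2).eq, mul_inv_cancel_right]
    · exact hinj _ _ hT.b1
    · exact hinj _ _ hT.b3
    · exact fun h => ha2 (by rw [h, one_pow])
    · -- the line is invariant
      have hfix : ∀ gg ∈ (rho F E).range, (gg * (x : MulAut (FQ E)) * gg⁻¹) v3 = v3 := fun gg hgg =>
        transv_line hp (FQ_pow hEp) (FQ_comm hEp) hVcard R hR x.2 (y := rho F E αy) (MonoidHom.mem_range.2 ⟨αy, rfl⟩) hgen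
          ⟨hx1, hx2, hx3⟩ ⟨hy1, hy2, hy3⟩ gg hgg
          (mul_mem (mul_mem hgg x.2) (inv_mem hgg))
      set y1 : (rho F E).range := ⟨rho F E αy, αy, rfl⟩
      have hyp : y1 ^ p = 1 := by
        refine Subtype.ext (MulEquiv.toMonoidHom_injective (MonoidHom.eq_of_eqOn_dense hgen ?_))
        have hpw : ∀ m : ℕ, (rho F E αy ^ m) v1 = v1 * v2 ^ m ∧ (rho F E αy ^ m) v2 = v2 ∧
            (rho F E αy ^ m) v3 = v3 := by
          intro m
          induction m with
          | zero => simp
          | succ m ih =>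
            obtain ⟨i1, i2, i3⟩ := ih
            refine ⟨?_, ?_, ?_⟩
            · rw [pow_succ', MulAut.mul_apply, i1, map_mul, map_pow, hy1, hy2, mul_assoc, ← pow_succ']
            · rw [pow_succ', MulAut.mul_apply, i2, hy2]
            · rw [pow_succ', MulAut.mul_apply, i3, hy3]
        obtain ⟨i1, i2, i3⟩ := hpw p
        rintro w (rfl | rfl | rfl)
        · show (rho F E αy ^ p) v1 = v1
          rw [i1, FQ_pow hEp, mul_one]
        · exact i2
        · exact i3
      have hzp : (R : Subgroup (rho F E).range) = Subgroup.zpowers x := by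
        refine (Subgroup.eq_of_le_of_card_ge (Subgroup.zpowers_le.2 hxR) ?_).symm
        have hd : orderOf x ∣ p := hR ▸ (Subgroup.orderOf_dvd_natCard _ hxR)
        rcases (Nat.dvd_prime hpp).1 hd with h | h
        · exact absurd (orderOf_eq_one_iff.1 h) hxne
        · rw [Nat.card_zpowers, h, hR]
      obtain ⟨h, m, hm⟩ : ∃ (h : (rho F E).range) (m : ℤ), h * x ^ m * h⁻¹ = y1 := by
        have hP : IsPGroup p (Subgroup.zpowers y1) := by
          rintro ⟨_, k, rfl⟩
          refine ⟨1, Subtype.ext ?_⟩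
          show (y1 ^ k) ^ p ^ 1 = 1
          rw [pow_one, ← zpow_natCast, ← zpow_mul, mul_comm, zpow_mul, zpow_natCast, hyp, one_zpow]
        obtain ⟨T, hT'⟩ := hP.exists_le_sylow
        obtain ⟨h, hh⟩ := MulAction.exists_smul_eq (rho F E).range R T
        have hmem := hT' (Subgroup.mem_zpowers y1)
        rw [← hh, Sylow.coe_subgroup_smul] at hmem
        obtain ⟨r, hr', hrr⟩ := Subgroup.mem_map.1 hmem
        rw [hzp] at hr'
        obtain ⟨m, rfl⟩ := hr'
        exact ⟨h, m, hrr⟩
      intro α hα w hw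
      obtain ⟨k, hk⟩ := hw
      have hwz : w = z3 ^ k := Subtype.ext (by
        rw [← hk, SubgroupClass.coe_zpow]
        rfl)
      set gg := rho F E ⟨α, hα⟩
      set u := gg v3 with hu
      have hggR : gg⁻¹ ∈ (rho F E).range := inv_mem ⟨_, rfl⟩
      have hux : (x : MulAut (FQ E)) u = u := by
        have := hfix _ hggR
        rw [inv_inv, MulAut.mul_apply, MulAut.mul_apply] at this
        exact ((MulEquiv.symm_apply_eq gg).1 this)
      have hux' : ∀ n : ℤ, (((h * x ^ n * h⁻¹ : (rho F E).range)) : MulAut (FQ E)) u = u := by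
        have h1 : ((h * x * h⁻¹ : (rho F E).range) : MulAut (FQ E)) u = u := by
          have := hfix _ (mul_mem hggR h.2)
          simp only [mul_inv_rev, inv_inv, MulAut.mul_apply] at this
          have h2 := (MulEquiv.symm_apply_eq gg).1 this
          simpa [MulAut.mul_apply] using h2
        intro n
        rw [← conj_zpow]
        induction n using Int.induction_on with
        | zero => simp
        | succ n ih => rw [zpow_add_one, Subgroup.coe_mul, MulAut.mul_apply, h1, ih]
        | pred n ih =>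
          rw [zpow_sub_one, Subgroup.coe_mul, MulAut.mul_apply, Subgroup.coe_inv,
            (show ((h * x * h⁻¹ : (rho F E).range) : MulAut (FQ E))⁻¹ u = u from
              (MulEquiv.symm_apply_eq _).2 h1.symm), ih]
      have huy : rho F E αy u = u := by
        have := hux' m
        rwa [hm] at this
      obtain ⟨i, j, l, hijl⟩ := exists_exp (FQ_comm hEp) hgen u
      have c := FQ_comm hEp
      have hj : (p : ℤ) ∣ j := by
        rw [hijl, map_mul, map_mul, map_zpow, map_zpow, map_zpow, hx1, hx2, hx3,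
          (show Commute v2 v1 from c _ _).mul_zpow, mul_left_inj, mul_right_inj, mul_eq_left] at hux
        exact (hind j 0 0 (by simpa using hux)).1
      have hi : (p : ℤ) ∣ i := by
        rw [hijl, map_mul, map_mul, map_zpow, map_zpow, map_zpow, hy1, hy2, hy3,
          (show Commute v1 v2 from c _ _).mul_zpow, mul_left_inj, mul_left_inj, mul_eq_left] at huy
        exact (hind 0 i 0 (by simpa using huy)).2.1
      have hu3 : u = v3 ^ l := by
        rw [hijl]
        obtain ⟨i', rfl⟩ := hi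
        obtain ⟨j', rfl⟩ := hj
        rw [zpow_mul, zpow_mul, zpow_natCast, zpow_natCast, FQ_pow hEp, FQ_pow hEp, one_zpow,
          one_zpow, one_mul, one_mul]
      have hαz : (α : MulAut E) z3 = z3 ^ l := by
        have h' : ((α z3 : E) : FQ E) = ((z3 ^ l : E) : FQ E) := hu3
        have h'' := QuotientGroup.eq.1 h'
        rw [hbot, Subgroup.mem_bot, inv_mul_eq_one] at h''
        exact h''
      refine ⟨l * k, ?_⟩
      show ((w3 : normalizerIn S E) : Ω) ^ (l * k) = ((α w : E) : Ω)
      rw [hwz, map_zpow, hαz, ← zpow_mul, SubgroupClass.coe_zpow]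
      rfl

end Cfsg.Agent.PearlExists
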