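import Cfsg.Agent.FusRankThree.JordanTools

/-!
# Powers in the single Jordan block case (S5182)
-/

set_option autoImplicit false

open Cfsg
open Cfsg.Agent.FusRankThree
open scoped commutatorElement

namespace Cfsg.Agent.PearlExists

universe u

section Block

variable {p : ℕ} [hp : Fact p.Prime] {G : Type u} [Group G] [Finite G]

/-- A single Jordan block of `T` on `G / Φ(G)`. -/
structure Block (T : G ≃* G) (e a c w : G) : Prop where
  te : T e = e * a
  ta : T a = a * c
  tc : T c = c * w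
  wmem : w ∈ frattini G
  cmem : c ∉ frattini G

theorem card_mul_le (hG : IsPGroup p G) {A B : Subgroup G} (h : A < B) :
    Nat.card A * p ≤ Nat.card B := by
  rw [← Subgroup.relIndex_bot_left, ← Subgroup.relIndex_bot_left,
    ← Subgroup.relIndex_mul_relIndex ⊥ A B bot_le h.le]
  exact Nat.mul_le_mul_left _ (Jordan.le_relIndex_of_lt hG h)

theorem frattini_map_auto (φ : G ≃* G) {d : G} (hd : d ∈ frattini G) : φ d ∈ frattini G :=
  (Subgroup.characteristic_iff_le_comap.mp (inferInstance : (frattini G).Characteristic)) φ hd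

/-- The chain and the generators. -/
theorem Block.gen {T : G ≃* G} {e a c w : G} (hB : Block T e a c w) (hG : IsPGroup p G)
    (hV : (frattini G).index = p ^ 3) :
    frattini G < frattini G ⊔ Subgroup.zpowers c ∧
    frattini G ⊔ Subgroup.zpowers c < frattini G ⊔ Subgroup.zpowers c ⊔ Subgroup.zpowers a ∧
    Subgroup.closure ((frattini G : Set G) ∪ {e, a, c}) = ⊤ := by
  set A2 := frattini G ⊔ Subgroup.zpowers c with hA2
  set A1 := A2 ⊔ Subgroup.zpowers a with hA1
  set f := QuotientGroup.mk' (frattini G) with hf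
  have hfm : ∀ q, f q = 1 ↔ q ∈ frattini G := fun q => QuotientGroup.eq_one_iff q
  have hcomm : ∀ u v : G ⧸ frattini G, u * v = v * u := by
    intro u v
    obtain ⟨u, rfl⟩ := QuotientGroup.mk'_surjective _ u
    obtain ⟨v, rfl⟩ := QuotientGroup.mk'_surjective _ v
    rw [← commutatorElement_eq_one_iff_mul_comm, ← map_commutatorElement, hfm]
    exact Cfsg.Agent.PGroup.commutatorElement_mem_frattini hG u v
  let δ : G →* G ⧸ frattini G :=
    { toFun := fun q => (f q)⁻¹ * f (T q)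
      map_one' := by simp
      map_mul' := fun u v => by
        rw [map_mul, map_mul, map_mul, mul_inv_rev, mul_assoc, ← mul_assoc _ (f (T u)),
          hcomm ((f u)⁻¹ * f (T u)) (f (T v)), ← mul_assoc, hcomm ((f v)⁻¹ * f (T v))] }
  have hδ : ∀ q, δ q = (f q)⁻¹ * f (T q) := fun q => rfl
  have hδΦ : frattini G ≤ δ.ker := fun d hd => by
    rw [MonoidHom.mem_ker, hδ, (hfm d).2 hd, (hfm _).2 (frattini_map_auto T hd), inv_one, one_mul]
  have hδc : δ c = 1 := by rw [hδ, hB.tc, map_mul, inv_mul_cancel_left, (hfm w).2 hB.wmem]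
  have hδa : δ a = f c := by rw [hδ, hB.ta, map_mul, inv_mul_cancel_left]
  have hδe : δ e = f a := by rw [hδ, hB.te, map_mul, inv_mul_cancel_left]
  have hk2 : A2 ≤ δ.ker := sup_le hδΦ (by rwa [Subgroup.zpowers_le])
  have hcA2 : c ∈ A2 := Subgroup.mem_sup_right (Subgroup.mem_zpowers c)
  have ha2 : a ∉ A2 := fun h => hB.cmem ((hfm c).1 (hδa ▸ hk2 h))
  have hk1 : A1 ≤ (A2.map f).comap δ := by
    refine sup_le (fun q hq => ?_) ?_
    · rw [Subgroup.mem_comap, MonoidHom.mem_ker.mp (hk2 hq)]; exact one_mem _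
    · rw [Subgroup.zpowers_le, Subgroup.mem_comap, hδa]; exact Subgroup.mem_map_of_mem f hcA2
  have he1 : e ∉ A1 := fun h => by
    have h1 : a ∈ (A2.map f).comap f := by
      rw [Subgroup.mem_comap, ← hδe]; exact hk1 h
    rw [Subgroup.comap_map_eq, QuotientGroup.ker_mk'] at h1
    exact ha2 ((sup_le le_rfl le_sup_left : A2 ⊔ frattini G ≤ A2) h1)
  have l2 : frattini G < A2 := lt_of_le_not_ge le_sup_left fun h => hB.cmem (h hcA2)
  have l1 : A2 < A1 := lt_of_le_not_ge le_sup_left fun h =>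
    ha2 (h (Subgroup.mem_sup_right (Subgroup.mem_zpowers a)))
  refine ⟨l2, l1, ?_⟩
  set A0 := A1 ⊔ Subgroup.zpowers e with hA0
  have l0 : A1 < A0 := lt_of_le_not_ge le_sup_left fun h =>
    he1 (h (Subgroup.mem_sup_right (Subgroup.mem_zpowers e)))
  have h0 : A0 = ⊤ := by
    refine Subgroup.eq_top_of_card_eq _ (le_antisymm (Subgroup.card_le_card_group _) ?_)
    have h1 := card_mul_le (p := p) hG l2
    have h2 := card_mul_le (p := p) hG l1
    have h3 := card_mul_le (p := p) hG l0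
    rw [← Subgroup.card_mul_index (frattini G), hV]
    calc Nat.card (frattini G) * p ^ 3 = Nat.card (frattini G) * p * p * p := by ring
      _ ≤ Nat.card A0 := le_trans (Nat.mul_le_mul_right p
          (le_trans (Nat.mul_le_mul_right p h1) h2)) h3
  rw [eq_top_iff, ← h0]
  have hs : ∀ s ∈ ({e, a, c} : Set G),
      Subgroup.zpowers s ≤ Subgroup.closure ((frattini G : Set G) ∪ {e, a, c}) := fun s hs => by
    rw [Subgroup.zpowers_le]; exact Subgroup.subset_closure (Or.inr hs)
  exact sup_le (sup_le (sup_le (fun d hd => Subgroup.subset_closure (Or.inl hd)) (hs c (by simp)))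
    (hs a (by simp))) (hs e (by simp))

variable {L : Subgroup G} [L.Normal]

/-- Class two quotients of `G`. -/
theorem quot_classTwo (hG : IsPGroup p G) (hL : ∀ d ∈ frattini G, ∀ v : G, ⁅v, d⁆ ∈ L) :
    commutator (G ⧸ L) ≤ Subgroup.center (G ⧸ L) ∧
      (∀ q : G ⧸ L, q ^ p ∈ Subgroup.center (G ⧸ L)) ∧
      ∀ d ∈ frattini G, QuotientGroup.mk' L d ∈ Subgroup.center (G ⧸ L) := by
  have hd : ∀ d ∈ frattini G, (QuotientGroup.mk' L d) ∈ Subgroup.center (G ⧸ L) := by
    intro d hd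
    rw [Subgroup.mem_center_iff]
    intro q
    obtain ⟨v, rfl⟩ := QuotientGroup.mk'_surjective L q
    rw [← commutatorElement_eq_one_iff_mul_comm, ← map_commutatorElement]
    exact (QuotientGroup.eq_one_iff _).2 (hL d hd v)
  refine ⟨?_, fun q => ?_, hd⟩
  · rw [commutator_eq_closure, Subgroup.closure_le]
    rintro _ ⟨a, b, rfl⟩
    obtain ⟨a, rfl⟩ := QuotientGroup.mk'_surjective L a
    obtain ⟨b, rfl⟩ := QuotientGroup.mk'_surjective L b
    rw [SetLike.mem_coe, ← map_commutatorElement]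
    exact hd _ (Cfsg.Agent.PGroup.commutatorElement_mem_frattini hG a b)
  · obtain ⟨v, rfl⟩ := QuotientGroup.mk'_surjective L q
    rw [← map_pow]; exact hd _ (Cfsg.Agent.PGroup.pow_mem_frattini hG v)

/-- The subgroup generated by the powers and by the commutators with the Frattini subgroup. -/
def powSub (p : ℕ) (G : Type u) [Group G] : Subgroup G :=
  Subgroup.closure ({v | ∃ a : G, v = a ^ p} ∪ {v | ∃ a : G, ∃ d ∈ frattini G, v = ⁅a, d⁆})

/-- The powers generate `Φ(G)` modulo `[G, Φ(G)]`. -/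
theorem Block.frattini_le_powSub {T : G ≃* G} {e a c w : G} (hB : Block T e a c w)
    (hG : IsPGroup p G) (h3 : RankThree p G) (hV : (frattini G).index = p ^ 3)
    (hirr : ∀ X : Subgroup G, X.Characteristic → frattini G ≤ X → X = frattini G ∨ X = ⊤) :
    frattini G ≤ powSub p G := by
  classical
  obtain ⟨l2, l1, hgen⟩ := hB.gen hG hV
  set L := powSub p G with hLdef
  haveI hLch : L.Characteristic := by
    rw [hLdef]
    refine Jordan.characteristic_closure _ fun φ => ?_
    rintro s (⟨a, rfl⟩ | ⟨a, d, hd, rfl⟩)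
    · exact Or.inl ⟨φ a, map_pow _ _ _⟩
    · exact Or.inr ⟨φ a, φ d, frattini_map_auto φ hd, map_commutatorElement _ _ _⟩
  have hLp : ∀ v : G, v ^ p ∈ L := fun v => Subgroup.subset_closure (Or.inl ⟨v, rfl⟩)
  have hLd : ∀ d ∈ frattini G, ∀ v : G, ⁅v, d⁆ ∈ L := fun d hd v =>
    Subgroup.subset_closure (Or.inr ⟨v, d, hd, rfl⟩)
  have hLΦ : L ≤ frattini G := by
    rw [hLdef, powSub, Subgroup.closure_le]
    rintro s (⟨v, rfl⟩ | ⟨v, d, hd, rfl⟩)
    · exact Cfsg.Agent.PGroup.pow_mem_frattini hG v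
    · exact Cfsg.Agent.PGroup.commutatorElement_mem_frattini hG v d
  obtain ⟨hcl, -, hπd⟩ := quot_classTwo hG hLd
  set π := QuotientGroup.mk' L with hπ
  have hπm : ∀ v, π v = 1 ↔ v ∈ L := fun v => QuotientGroup.eq_one_iff v
  have hπsurj : Function.Surjective π := QuotientGroup.mk'_surjective L
  have hQp : IsPGroup p (G ⧸ L) := hG.to_quotient L
  obtain ⟨T', hT⟩ : ∃ T' : G ⧸ L ≃* G ⧸ L, ∀ v, T' (π v) = π (T v) :=
    ⟨QuotientGroup.congr L L T (Subgroup.characteristic_iff_map_eq.mp hLch T), fun v => rfl⟩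
  have hd1 : ∀ (d : G) (q : G ⧸ L), d ∈ frattini G → ⁅π d, q⁆ = 1 ∧ ⁅q, π d⁆ = 1 := fun d q hd =>
    ⟨commutatorElement_eq_one_iff_mul_comm.2 (Subgroup.mem_center_iff.1 (hπd d hd) q).symm,
      commutatorElement_eq_one_iff_mul_comm.2 (Subgroup.mem_center_iff.1 (hπd d hd) q)⟩
  set A := ⁅π e, π a⁆ with hAdef
  set B := ⁅π e, π c⁆ with hBdef
  set C := ⁅π a, π c⁆ with hCdef
  have hm := Cfsg.Agent.PGroup.commutatorElement_mem_center hcl
  have hl : ∀ u v r : G ⧸ L, ⁅u * v, r⁆ = ⁅u, r⁆ * ⁅v, r⁆ := fun u v r =>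
    Cfsg.Agent.PGroup.commutatorElement_mul_left (hm v r)
  have hr : ∀ u v r : G ⧸ L, ⁅u, v * r⁆ = ⁅u, v⁆ * ⁅u, r⁆ := fun u v r =>
    Cfsg.Agent.PGroup.commutatorElement_mul_right (hm u r)
  have hTC : T' C = C := by
    rw [hCdef, map_commutatorElement, hT, hT, hB.ta, hB.tc, map_mul, map_mul]
    simp [hl, hr, (hd1 w _ hB.wmem).2]
  have hTB : T' B = C * B := by
    rw [hBdef, hCdef, map_commutatorElement, hT, hT, hB.te, hB.tc, map_mul, map_mul]
    simp [hl, hr, (hd1 w _ hB.wmem).2]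
    exact Subgroup.mem_center_iff.1 (hm (π a) (π c)) _
  have hTA : T' A = A * B * C := by
    rw [hAdef, hBdef, hCdef, map_commutatorElement, hT, hT, hB.te, hB.ta, map_mul, map_mul]
    simp [hl, hr, mul_assoc]
  set Φb := (frattini G).map π with hΦb
  have hmemΦ : ∀ u v : G, ⁅π u, π v⁆ ∈ Φb := fun u v =>
    ⟨⁅u, v⁆, Cfsg.Agent.PGroup.commutatorElement_mem_frattini hG u v, map_commutatorElement _ _ _⟩
  have hsec : ∀ (H : Subgroup G) (S : Set G), frattini G ≤ H → H ≤ Subgroup.closure S →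
      (∀ u ∈ S, ∀ v ∈ S, ⁅π u, π v⁆ = 1) → Nat.card Φb * (frattini G).relIndex H ≤ p ^ 3 := by
    intro H S hΦH hHS hS
    have hle := h3 H L (hLΦ.trans hΦH) (fun v _ => hLp v) fun u hu v hv => by
      rw [← hπm, ← commutatorElement_def, map_commutatorElement, ← Subgroup.mem_bot]
      refine Jordan.commutator_mem_of_closure hcl (S := π '' S) ?_ ?_ ?_
      · rintro _ ⟨u', hu', rfl⟩ _ ⟨v', hv', rfl⟩
        exact Subgroup.mem_bot.2 (hS u' hu' v' hv')
      all_goals rw [← MonoidHom.map_closure]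
      · exact ⟨u, hHS hu, rfl⟩
      · exact ⟨v, hHS hv, rfl⟩
    rw [← Subgroup.relIndex_mul_relIndex L (frattini G) H hLΦ hΦH] at hle
    rwa [hΦb, ← Subgroup.relIndex_ker, QuotientGroup.ker_mk']
  have hrel : ∀ H : Subgroup G, frattini G < H → p ≤ (frattini G).relIndex H := fun H h =>
    Jordan.le_relIndex_of_lt hG h
  have hp1 : 1 < p := hp.out.one_lt
  have hbot : ∀ q : G ⧸ L, q ≠ 1 → p ≤ Nat.card (Subgroup.zpowers q) := fun q hq => by
    have := card_mul_le (p := p) hQp (A := ⊥) (B := Subgroup.zpowers q)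
      (bot_lt_iff_ne_bot.2 (mt Subgroup.zpowers_eq_bot.1 hq))
    simpa using this
  have hC1 : C = 1 := by
    by_contra hC
    have hBn : B ∉ Subgroup.zpowers C := by
      rintro ⟨i, hi⟩
      have h1 : T' B = B := by rw [← hi, map_zpow, hTC]
      rw [hTB, mul_eq_right] at h1
      exact hC h1
    have hAn : A ∉ Subgroup.zpowers C ⊔ Subgroup.zpowers B := by
      intro h
      haveI : (Subgroup.zpowers C).Normal := ⟨fun q hq g => by
        obtain ⟨i, rfl⟩ := hq
        show g * C ^ i * g⁻¹ ∈ _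
        rw [Subgroup.mem_center_iff.1 (zpow_mem (hm _ _) i) g, mul_inv_cancel_right]
        exact Subgroup.zpow_mem_zpowers _ _⟩
      obtain ⟨g₁, ⟨i, rfl⟩, g₂, ⟨j, rfl⟩, hA⟩ := Subgroup.mem_sup_of_normal_left.mp h
      simp only at hA
      have hcC : ∀ q, Commute C q := fun q => (Subgroup.mem_center_iff.1 (hm _ _) q).symm
      have h1 : T' A = C ^ j * A := by
        rw [← hA, map_mul, map_zpow, map_zpow, hTC, hTB, (hcC B).mul_zpow, ← mul_assoc,
          ← mul_assoc, ← zpow_add, ← zpow_add, add_comm i j]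
      rw [hTA, ((hcC A).zpow_left j).eq, mul_assoc, mul_left_cancel_iff] at h1
      refine hBn ⟨j - 1, ?_⟩
      show C ^ (j - 1) = B
      rw [zpow_sub_one, ← h1, mul_inv_cancel_right]
    have k1 := card_mul_le (p := p) hQp (lt_of_le_not_ge (le_sup_left :
      Subgroup.zpowers C ≤ Subgroup.zpowers C ⊔ Subgroup.zpowers B)
      fun h => hBn (h (Subgroup.mem_sup_right (Subgroup.mem_zpowers B))))
    have k2 := card_mul_le (p := p) hQp (lt_of_le_not_ge (le_sup_left :
      Subgroup.zpowers C ⊔ Subgroup.zpowers B ≤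
        Subgroup.zpowers C ⊔ Subgroup.zpowers B ⊔ Subgroup.zpowers A)
      fun h => hAn (h (Subgroup.mem_sup_right (Subgroup.mem_zpowers A))))
    have k3 : Nat.card ↥(Subgroup.zpowers C ⊔ Subgroup.zpowers B ⊔ Subgroup.zpowers A) ≤
        Nat.card Φb := Subgroup.card_le_of_le (sup_le (sup_le
          (Subgroup.zpowers_le.2 (hmemΦ a c)) (Subgroup.zpowers_le.2 (hmemΦ e c)))
          (Subgroup.zpowers_le.2 (hmemΦ e a)))
    have k : p ^ 3 ≤ Nat.card Φb := by
      rw [pow_succ, pow_two]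
      exact le_trans (le_trans (Nat.mul_le_mul_right p
        (le_trans (Nat.mul_le_mul_right p (hbot C hC)) k1)) k2) k3
    have h := hsec (frattini G ⊔ Subgroup.zpowers c) ((frattini G : Set G) ∪ {c}) le_sup_left
      (sup_le (fun d hd => Subgroup.subset_closure (Or.inl hd))
        (Subgroup.zpowers_le.2 (Subgroup.subset_closure (Or.inr rfl)))) (by
        rintro u (hu | hu) v (hv | hv)
        · exact (hd1 u _ hu).1
        · exact (hd1 u _ hu).1
        · exact (hd1 v _ hv).2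
        · rw [Set.mem_singleton_iff.1 hu, Set.mem_singleton_iff.1 hv, commutatorElement_self])
    have h' := le_trans (Nat.mul_le_mul k (hrel _ l2)) h
    have : p ^ 3 * 1 < p ^ 3 * p := Nat.mul_lt_mul_of_pos_left hp1 (pow_pos hp.out.pos 3)
    omega
  have hac : ∀ u ∈ (frattini G : Set G) ∪ {a, c}, ∀ v ∈ (frattini G : Set G) ∪ {a, c},
      ⁅π u, π v⁆ = 1 := by
    rintro u (hu | hu | hu) v (hv | hv | hv)
    all_goals first
      | exact (hd1 u _ hu).1
      | exact (hd1 v _ hv).2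
      | (try simp only [Set.mem_singleton_iff] at hu
         try simp only [Set.mem_singleton_iff] at hv
         rw [hu, hv]
         first
           | exact commutatorElement_self _
           | exact hC1
           | (rw [← commutatorElement_inv, ← hCdef, hC1, inv_one]))
  have hB1 : B = 1 := by
    by_contra hB'
    have hTB' : T' B = B := by rw [hTB, hC1, one_mul]
    have hAn : A ∉ Subgroup.zpowers B := by
      rintro ⟨i, hi⟩
      have h1 : T' A = A := by rw [← hi, map_zpow, hTB']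
      rw [hTA, hC1, mul_one, mul_eq_left] at h1
      exact hB' h1
    have k1 := card_mul_le (p := p) hQp (lt_of_le_not_ge (le_sup_left :
      Subgroup.zpowers B ≤ Subgroup.zpowers B ⊔ Subgroup.zpowers A)
      fun h => hAn (h (Subgroup.mem_sup_right (Subgroup.mem_zpowers A))))
    have k : p ^ 2 ≤ Nat.card Φb := by
      rw [pow_two]
      exact le_trans (le_trans (Nat.mul_le_mul_right p (hbot B hB')) k1)
        (Subgroup.card_le_of_le (sup_le
          (Subgroup.zpowers_le.2 (hmemΦ e c)) (Subgroup.zpowers_le.2 (hmemΦ e a))))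
    have h := hsec (frattini G ⊔ Subgroup.zpowers c ⊔ Subgroup.zpowers a)
      ((frattini G : Set G) ∪ {a, c}) (le_sup_left.trans le_sup_left)
      (sup_le (sup_le (fun d hd => Subgroup.subset_closure (Or.inl hd))
        (Subgroup.zpowers_le.2 (Subgroup.subset_closure (Or.inr (by simp)))))
        (Subgroup.zpowers_le.2 (Subgroup.subset_closure (Or.inr (by simp))))) hac
    rw [← Subgroup.relIndex_mul_relIndex (frattini G) _ _ le_sup_left l1.le] at h
    have h' := le_trans (Nat.mul_le_mul k (Nat.mul_le_mul (hrel _ l2)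
      (Jordan.le_relIndex_of_lt hG l1))) h
    have : p ^ 3 * 1 < p ^ 3 * p := Nat.mul_lt_mul_of_pos_left hp1 (pow_pos hp.out.pos 3)
    have : p ^ 2 * (p * p) = p ^ 3 * p := by ring
    omega
  set X := (Subgroup.center (G ⧸ L)).comap π with hX
  have hXm : ∀ v : G, v ∈ X ↔ ∀ u : G, ⁅v, u⁆ ∈ L := fun v => by
    rw [hX, Subgroup.mem_comap, Subgroup.mem_center_iff]
    refine ⟨fun h u => (hπm _).1 ?_, fun h q => ?_⟩
    · rw [map_commutatorElement]
      exact commutatorElement_eq_one_iff_mul_comm.2 (h (π u)).symm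
    · obtain ⟨u, rfl⟩ := hπsurj q
      refine (commutatorElement_eq_one_iff_mul_comm.1 ?_).symm
      rw [← map_commutatorElement, hπm]; exact h u
  haveI hXch : X.Characteristic := by
    rw [Subgroup.characteristic_iff_le_comap]
    intro φ v hv
    rw [Subgroup.mem_comap]
    refine (hXm _).2 fun u => ?_
    obtain ⟨u, rfl⟩ := φ.surjective u
    show ⁅φ v, φ u⁆ ∈ L
    rw [← map_commutatorElement]
    exact Subgroup.characteristic_iff_le_comap.mp hLch φ ((hXm v).1 hv u)
  have hgenQ : ∀ q : G ⧸ L, q ∈ Subgroup.closure (π '' ((frattini G : Set G) ∪ {e, a, c})) := by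
    intro q
    obtain ⟨v, rfl⟩ := hπsurj q
    rw [← MonoidHom.map_closure, hgen]
    exact ⟨v, Subgroup.mem_top v, rfl⟩
  have hcX : c ∈ X := by
    rw [hX, Subgroup.mem_comap, Subgroup.mem_center_iff]
    intro q
    refine Subgroup.mem_centralizer_singleton_iff.1 ((Subgroup.closure_le _).2 ?_ (hgenQ q))
    rintro _ ⟨g, hg, rfl⟩
    rw [SetLike.mem_coe, Subgroup.mem_centralizer_singleton_iff,
      ← commutatorElement_eq_one_iff_mul_comm]
    rcases hg with hg | hg | hg | hg
    · exact (hd1 g _ hg).1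
    · rw [hg]; exact hB1
    · rw [hg]; exact hC1
    · rw [Set.mem_singleton_iff.1 hg, commutatorElement_self]
  rcases hirr X hXch (fun d hd => by rw [hX]; exact hπd d hd) with h | h
  · exact absurd (h ▸ hcX) hB.cmem
  · refine (Cfsg.Agent.PGroup.frattini_le_iff hG).2 ⟨?_, hLp⟩
    rw [commutator_eq_closure, Subgroup.closure_le]
    rintro _ ⟨u, v, rfl⟩
    exact (hXm u).1 (h.symm ▸ Subgroup.mem_top u) v

/-- The binomial expansion of the powers of a Jordan block of length six. -/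
theorem expand {Q : Type u} [Group Q] (T : Q ≃* Q) {e a c w y r v : Q}
    (he : T e = e * a) (ha : T a = a * c) (hc : T c = c * w) (hw : T w = w * y)
    (hy : T y = y * r) (hr : T r = r) (hv : T v = v) (hca : ⁅c, a⁆ = v)
    (zw : w ∈ Subgroup.center Q) (zy : y ∈ Subgroup.center Q) (zr : r ∈ Subgroup.center Q)
    (zv : v ∈ Subgroup.center Q) (n : ℕ) :
    (⇑T)^[n] e = e * a ^ n * c ^ n.choose 2 *
      ((w * v) ^ n.choose 3 * y ^ n.choose 4 * r ^ n.choose 5) := by
  induction n with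
  | zero => simp
  | succ n ih =>
    have cw : ∀ q, Commute w q := fun q => (Subgroup.mem_center_iff.1 zw q).symm
    have cy : ∀ q, Commute y q := fun q => (Subgroup.mem_center_iff.1 zy q).symm
    have cr : ∀ q, Commute r q := fun q => (Subgroup.mem_center_iff.1 zr q).symm
    have cv : ∀ q, Commute v q := fun q => (Subgroup.mem_center_iff.1 zv q).symm
    have hac : (a * c) ^ n = a ^ n * c ^ n * v ^ n.choose 2 := by
      rw [Cfsg.Agent.PGroup.mul_pow_of_commutatorElement (by rw [hca]; exact zv), hca]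
    rw [Function.iterate_succ_apply', ih]
    simp only [map_mul, map_pow, he, ha, hc, hw, hy, hr, hv, hac]
    rw [(cw c).symm.mul_pow, (cr y).symm.mul_pow, (cv (w * y)).symm.mul_pow,
      (cy w).symm.mul_pow, (cv w).symm.mul_pow]
    simp only [show (n + 1).choose 2 = n + n.choose 2 by
        rw [Nat.choose_succ_succ, Nat.choose_one_right],
      show (n + 1).choose 3 = n.choose 2 + n.choose 3 from Nat.choose_succ_succ n 2,
      show (n + 1).choose 4 = n.choose 3 + n.choose 4 from Nat.choose_succ_succ n 3,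
      show (n + 1).choose 5 = n.choose 4 + n.choose 5 from Nat.choose_succ_succ n 4,
      pow_add, pow_succ', mul_assoc]
    simp only [((cv (c ^ n.choose 2)).pow_left (n.choose 2)).left_comm,
      ((cw (v ^ n.choose 2)).pow_left (n.choose 2)).symm.left_comm,
      ((cv (w ^ n.choose 3)).pow_left (n.choose 2)).left_comm,
      ((cy (v ^ n.choose 3)).pow_left (n.choose 3)).left_comm,
      ((cr (y ^ n.choose 4)).pow_left (n.choose 4)).left_comm]

/-- The centre as the target of the power map: a block automorphism of order `p` is impossible. -/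
theorem Block.pow_false {T : G ≃* G} {e a c w : G} (hB : Block T e a c w)
    (hp5 : 5 ≤ p) (hG : IsPGroup p G) (hV : (frattini G).index = p ^ 3)
    (hirr : ∀ X : Subgroup G, X.Characteristic → frattini G ≤ X → X = frattini G ∨ X = ⊤)
    (hle : frattini G ≤ powSub p G) {K : Subgroup G} [K.Characteristic]
    (hKd : ∀ d ∈ frattini G, ∀ v : G, ⁅v, d⁆ ∈ K) (hKp : ∀ d ∈ frattini G, d ^ p ∈ K)
    (hne : ¬ frattini G ≤ K) (hT : (⇑T)^[p] e = e) : False := by
  have hodd : Odd p := hp.out.odd_of_ne_two (by omega)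
  obtain ⟨-, -, hgen⟩ := hB.gen hG hV
  obtain ⟨hcl, hpc, hπd⟩ := quot_classTwo hG hKd
  set π := QuotientGroup.mk' K with hπ
  have hπm : ∀ v, π v = 1 ↔ v ∈ K := fun v => QuotientGroup.eq_one_iff v
  have hπsurj : Function.Surjective π := QuotientGroup.mk'_surjective K
  obtain ⟨T', hT'⟩ : ∃ T' : G ⧸ K ≃* G ⧸ K, ∀ v, T' (π v) = π (T v) :=
    ⟨QuotientGroup.congr K K T (Subgroup.characteristic_iff_map_eq.mp inferInstance T),
      fun v => rfl⟩
  have hexp : ∀ d ∈ frattini G, π d ^ p = 1 := fun d hd => by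
    rw [← map_pow, hπm]; exact hKp d hd
  set Pe := π e ^ p with hPe
  set Pa := π a ^ p with hPa
  set Pc := π c ^ p with hPc
  set R := Subgroup.closure ({Pe, Pa, Pc} : Set (G ⧸ K)) with hR
  have hpowR : ∀ v : G, π v ^ p ∈ R := fun v => by
    refine Jordan.pow_mem_of_closure hcl hodd hpc
      (S := π '' ((frattini G : Set G) ∪ {e, a, c})) ?_ ?_
    · rintro _ ⟨g, hg, rfl⟩
      rcases hg with hg | hg | hg | hg
      · rw [hexp g hg]; exact one_mem _
      · rw [hg]; exact Subgroup.subset_closure (by simp [Pe])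
      · rw [hg]; exact Subgroup.subset_closure (by simp [Pa])
      · rw [Set.mem_singleton_iff.1 hg]; exact Subgroup.subset_closure (by simp [Pc])
    · rw [← MonoidHom.map_closure, hgen]
      exact ⟨v, Subgroup.mem_top v, rfl⟩
  have hΦR : ∀ d ∈ frattini G, π d ∈ R := by
    have h1 : powSub p G ≤ R.comap π := by
      rw [powSub, Subgroup.closure_le]
      rintro s (⟨v, rfl⟩ | ⟨v, d, hd, rfl⟩)
      · show π (v ^ p) ∈ R
        rw [map_pow]; exact hpowR v
      · show π ⁅v, d⁆ ∈ R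
        rw [(hπm _).2 (hKd d hd v)]; exact one_mem _
    exact fun d hd => h1 (hle hd)
  have hmulp : ∀ u v : G, π (u * v) ^ p = π u ^ p * π v ^ p := fun u v => by
    rw [map_mul, Cfsg.Agent.PGroup.mul_pow_of_classTwo hcl hodd (hpc _)]
  have tPe : T' Pe = Pe * Pa := by rw [hPe, map_pow, hT', hB.te, hmulp]
  have tPa : T' Pa = Pa * Pc := by rw [hPa, map_pow, hT', hB.ta, hmulp]
  have tPc : T' Pc = Pc := by
    rw [hPc, map_pow, hT', hB.tc, hmulp, hexp w hB.wmem, mul_one]
  -- `Pc ≠ 1`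
  have hcne : Pc ≠ 1 := by
    intro h1
    let X : Subgroup G :=
      { carrier := {v | π v ^ p = 1}
        mul_mem' := fun {u v} hu hv => by
          show π (u * v) ^ p = 1
          rw [hmulp, show π u ^ p = 1 from hu, show π v ^ p = 1 from hv, one_mul]
        one_mem' := by simp
        inv_mem' := fun {u} hu => by
          show π u⁻¹ ^ p = 1
          rw [map_inv, inv_pow, show π u ^ p = 1 from hu, inv_one] }
    haveI : X.Characteristic := by
      rw [Subgroup.characteristic_iff_le_comap]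
      intro φ v hv
      rw [Subgroup.mem_comap]
      show π (φ v) ^ p = 1
      rw [← map_pow, hπm, ← map_pow]
      exact Subgroup.characteristic_iff_le_comap.mp (inferInstance : K.Characteristic) φ
        ((hπm _).1 (by rw [map_pow]; exact hv))
    rcases hirr X inferInstance (fun d hd => hexp d hd) with h | h
    · exact hB.cmem (h ▸ (show c ∈ X from h1))
    · have hall : ∀ v : G, v ^ p ∈ K := fun v => by
        rw [← hπm, map_pow]; exact (h.symm ▸ Subgroup.mem_top v : v ∈ X)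
      refine hne (hle.trans ?_)
      rw [powSub, Subgroup.closure_le]
      rintro s (⟨v, rfl⟩ | ⟨v, d, hd, rfl⟩)
      · exact hall v
      · exact hKd d hd v
  -- the fixed line
  have hTc : ∀ {q : G ⧸ K}, q ∈ Subgroup.center (G ⧸ K) → T' q ∈ Subgroup.center (G ⧸ K) := by
    intro q hq
    rw [Subgroup.mem_center_iff]
    intro s
    obtain ⟨s, rfl⟩ := T'.surjective s
    rw [← map_mul, ← map_mul, Subgroup.mem_center_iff.1 hq s]
  let Z := Subgroup.center (G ⧸ K)
  let δ : Z →* Z :=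
    { toFun := fun q => ⟨T' q * (q : G ⧸ K)⁻¹, mul_mem (hTc q.2) (inv_mem q.2)⟩
      map_one' := Subtype.ext (by simp)
      map_mul' := fun u v => Subtype.ext (by
        show T' ((u : G ⧸ K) * v) * ((u : G ⧸ K) * v)⁻¹ =
          T' u * (u : G ⧸ K)⁻¹ * (T' v * (v : G ⧸ K)⁻¹)
        rw [map_mul, mul_inv_rev, mul_assoc (T' (u : G ⧸ K)), mul_assoc (T' (u : G ⧸ K)),
          Subgroup.mem_center_iff.1 (mul_mem (hTc v.2) (inv_mem v.2)) (u : G ⧸ K)⁻¹, mul_assoc]) }
  have hδ : ∀ q : Z, ((δ q : Z) : G ⧸ K) = T' q * (q : G ⧸ K)⁻¹ := fun q => rfl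
  have hch : ∀ q ∈ R, T' (T' q * q⁻¹) * (T' q * q⁻¹)⁻¹ ∈ Subgroup.zpowers Pc := by
    have hle' : R ≤ (((Subgroup.zpowers Pc).subgroupOf Z).comap (δ.comp δ)).map Z.subtype := by
      have hmk : ∀ q : G ⧸ K, q ∈ Subgroup.center (G ⧸ K) →
          T' (T' q * q⁻¹) * (T' q * q⁻¹)⁻¹ ∈ Subgroup.zpowers Pc →
          q ∈ (((Subgroup.zpowers Pc).subgroupOf Z).comap (δ.comp δ)).map Z.subtype :=
        fun q hq h => ⟨⟨q, hq⟩, h, rfl⟩
      have hcom : ∀ u v : G ⧸ K, u ∈ Subgroup.center (G ⧸ K) → u * v * u⁻¹ = v := fun u v hu => by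
        rw [← Subgroup.mem_center_iff.1 hu v, mul_inv_cancel_right]
      rw [hR, Subgroup.closure_le]
      rintro s (hs | hs | hs)
      · subst hs
        refine hmk _ (hpc _) ?_
        rw [tPe, hcom _ _ (hpc _), tPa, hcom _ _ (hpc _)]
        exact Subgroup.mem_zpowers _
      · subst hs
        refine hmk _ (hpc _) ?_
        rw [tPa, hcom _ _ (hpc _), tPc, mul_inv_cancel]
        exact one_mem _
      · rw [Set.mem_singleton_iff.1 hs]
        refine hmk _ (hpc _) ?_
        rw [tPc, mul_inv_cancel, map_one, inv_one, one_mul]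
        exact one_mem _
    intro q hq
    obtain ⟨u, hu, rfl⟩ := hle' hq
    exact hu
  set W := π w with hW
  set Y := T' W * W⁻¹ with hY
  set r := T' Y * Y⁻¹ with hr
  obtain ⟨i, hi⟩ := Subgroup.mem_zpowers_iff.1 (hch W (hΦR w hB.wmem))
  rw [← hY, ← hr] at hi
  have zW : W ∈ Subgroup.center (G ⧸ K) := hπd w hB.wmem
  obtain ⟨yG, hyΦ, hyE⟩ : ∃ y ∈ frattini G, π y = Y :=
    ⟨T w * w⁻¹, mul_mem (frattini_map_auto T hB.wmem) (inv_mem hB.wmem),
      by rw [hY, hW, hT', map_mul, map_inv]⟩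
  have zY : Y ∈ Subgroup.center (G ⧸ K) := hyE ▸ hπd yG hyΦ
  have zr : r ∈ Subgroup.center (G ⧸ K) := hi ▸ zpow_mem (hpc _) i
  have tr : T' r = r := by rw [← hi, map_zpow, tPc]
  have tW : T' W = W * Y := by
    rw [hY, ← Subgroup.mem_center_iff.1 zW, inv_mul_cancel_right]
  have tY : T' Y = Y * r := by
    rw [hr, ← Subgroup.mem_center_iff.1 zY, inv_mul_cancel_right]
  have zv : ⁅π c, π a⁆ ∈ Subgroup.center (G ⧸ K) :=
    Cfsg.Agent.PGroup.commutatorElement_mem_center hcl _ _
  have tv : T' ⁅π c, π a⁆ = ⁅π c, π a⁆ := by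
    have hw1 : ∀ q : G ⧸ K, ⁅W, q⁆ = 1 := fun q =>
      commutatorElement_eq_one_iff_mul_comm.2 (Subgroup.mem_center_iff.1 zW q).symm
    rw [map_commutatorElement, hT', hT', hB.tc, hB.ta, map_mul, map_mul, ← hW,
      Cfsg.Agent.PGroup.commutatorElement_mul_left (by rw [hw1]; exact one_mem _), hw1, mul_one,
      Cfsg.Agent.PGroup.commutatorElement_mul_right
        (by rw [commutatorElement_self]; exact one_mem _), commutatorElement_self, mul_one]
  have key := expand T' (e := π e) (a := π a) (c := π c) (w := W) (y := Y) (r := r)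
    (v := ⁅π c, π a⁆) (by rw [hT', hB.te, map_mul]) (by rw [hT', hB.ta, map_mul])
    (by rw [hT', hB.tc, map_mul]) tW tY tr tv rfl zW zY zr zv p
  have hit : ∀ n : ℕ, (⇑T')^[n] (π e) = π ((⇑T)^[n] e) := by
    intro n
    induction n with
    | zero => rfl
    | succ n ih => rw [Function.iterate_succ_apply', ih, hT', Function.iterate_succ_apply']
  rw [hit, hT] at key
  obtain ⟨k2, hk2⟩ := Cfsg.Agent.PGroup.dvd_choose_two_of_odd hodd
  obtain ⟨k3, hk3⟩ := hp.out.dvd_choose_self (k := 3) (by norm_num) (by omega)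
  obtain ⟨k4, hk4⟩ := hp.out.dvd_choose_self (k := 4) (by norm_num) (by omega)
  have hv1 : (W * ⁅π c, π a⁆) ^ p = 1 := by
    rw [← map_commutatorElement, hW, ← map_mul]
    exact hexp _ (mul_mem hB.wmem (Cfsg.Agent.PGroup.commutatorElement_mem_frattini hG c a))
  rw [hk2, hk3, hk4, pow_mul, pow_mul (W * _), pow_mul Y, hv1, ← hyE, hexp _ hyΦ, one_pow,
    one_pow, one_mul, one_mul, ← hPc, ← hi, ← hPa, mul_assoc, mul_assoc, left_eq_mul] at key
  have hfix : T' Pa = Pa := by
    have h1 : Pa = (Pc ^ k2 * (Pc ^ i) ^ p.choose 5)⁻¹ := eq_inv_of_mul_eq_one_left key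
    rw [h1, map_inv, map_mul, map_pow T' Pc k2, map_pow T' (Pc ^ i) (p.choose 5), map_zpow, tPc]
  rw [tPa, mul_eq_left] at hfix
  exact hcne hfix

end Block

variable {p : ℕ} [Fact p.Prime] {N : Type u} [Group N] [Finite N] {E : Subgroup N}

/-- The block carried by conjugation with an element outside `E`. -/
theorem exists_block (hN : IsPGroup p N) (hE : E.index = p) (hV : (frattini E).index = p ^ 3)
    {e : N} (he : e ∈ E) (hJ : ∀ x : N, x ∉ E → ⁅⁅e, x⁆, x⁆ ∉ (frattini E).map E.subtype)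
    [E.Normal] {x : N} (hx : x ∉ E) :
    ∃ a c w : E, Block (MulAut.conjNormal x : E ≃* E) ⟨e, he⟩ a c w := by
  obtain ⟨D, hD⟩ : ∃ D, D = (frattini E).map E.subtype := ⟨_, rfl⟩
  haveI : D.Normal := hD ▸ inferInstance
  have hDE : D ≤ E := hD ▸ Subgroup.map_subtype_le _
  have hDmem : ∀ v : E, (v : N) ∈ D ↔ v ∈ frattini E := fun v => by
    rw [hD, Subgroup.mem_map]
    exact ⟨fun ⟨u, hu, huv⟩ => by rwa [← Subtype.ext huv], fun hv => ⟨v, hv, rfl⟩⟩
  have hrel : D.relIndex E = p ^ 3 := by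
    have hsub : D.subgroupOf E = frattini E := by
      rw [hD]; exact Subgroup.comap_map_eq_self_of_injective E.subtype_injective _
    rw [Subgroup.relIndex, hsub, hV]
  have h2 := Jordan.relIndex_step hN hDE (k := 2) hrel.le
  have h1 := Jordan.relIndex_step hN (B := D) (le_sup_right :
    D ≤ ⁅E, (⊤ : Subgroup N)⁆ ⊔ D) (k := 1) h2
  have h0 := Jordan.commutator_le_of_relIndex hN (B := D) (le_sup_right :
    D ≤ ⁅⁅E, (⊤ : Subgroup N)⁆ ⊔ D, (⊤ : Subgroup N)⁆ ⊔ D) (by simpa using h1)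
  let T : E ≃* E := MulAut.conjNormal x
  have hTv : ∀ v : E, ((T v : E) : N) = x * v * x⁻¹ := fun v => rfl
  obtain ⟨eE, heE⟩ : ∃ v : E, v = ⟨e, he⟩ := ⟨_, rfl⟩
  obtain ⟨a, ha⟩ : ∃ a : E, a = eE⁻¹ * T eE := ⟨_, rfl⟩
  obtain ⟨c, hc⟩ : ∃ c : E, c = a⁻¹ * T a := ⟨_, rfl⟩
  obtain ⟨w, hw⟩ : ∃ w : E, w = c⁻¹ * T c := ⟨_, rfl⟩
  have hval : ∀ v : E, ((v⁻¹ * T v : E) : N) = ⁅(v : N)⁻¹, x⁆ := fun v => by
    rw [Subgroup.coe_mul, hTv, Subgroup.coe_inv, commutatorElement_def, inv_inv]; group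
  have haC : (a : N) ∈ ⁅E, (⊤ : Subgroup N)⁆ ⊔ D := by
    rw [ha, hval]
    exact Subgroup.mem_sup_left
      (Subgroup.commutator_mem_commutator (inv_mem eE.2) (Subgroup.mem_top x))
  have hcC : (c : N) ∈ ⁅⁅E, (⊤ : Subgroup N)⁆ ⊔ D, (⊤ : Subgroup N)⁆ ⊔ D := by
    rw [hc, hval]
    exact Subgroup.mem_sup_left
      (Subgroup.commutator_mem_commutator (inv_mem haC) (Subgroup.mem_top x))
  refine ⟨a, c, w, ?_, ?_, ?_, ?_, ?_⟩
  · rw [← heE]
    show T eE = eE * a
    rw [ha, mul_inv_cancel_left]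
  · show T a = a * c
    rw [hc, mul_inv_cancel_left]
  · show T c = c * w
    rw [hw, mul_inv_cancel_left]
  · rw [← hDmem, hw, hval]
    exact h0 (Subgroup.commutator_mem_commutator (inv_mem hcC) (Subgroup.mem_top x))
  · intro hcΦ
    refine hJ x hx ?_
    rw [← hD]
    have hq : ∀ q : N, QuotientGroup.mk' D q = 1 ↔ q ∈ D := fun q => QuotientGroup.eq_one_iff q
    have e1 : ⁅e, x⁆ = e * (a : N)⁻¹ * e⁻¹ := by
      rw [ha, hval, heE, commutatorElement_def, commutatorElement_def]; group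
    have e2 : QuotientGroup.mk' D ⁅e, x⁆ = (QuotientGroup.mk' D (a : N))⁻¹ := by
      rw [e1, ← map_inv, ← mul_inv_eq_one, ← map_inv, ← map_mul, hq, inv_inv]
      have h := (hDmem ⁅⟨e, he⟩, a⁻¹⁆).2
        (Cfsg.Agent.PGroup.commutatorElement_mem_frattini (hN.to_subgroup E) _ _)
      simpa [commutatorElement_def, mul_assoc] using h
    rw [← hq, map_commutatorElement, e2, ← map_inv, ← map_commutatorElement, hq]
    rw [← hDmem, hc, hval] at hcΦ
    exact hcΦ

theorem jordan_frattini_le (hp : 5 ≤ p) (hN : IsPGroup p N) (h3 : RankThree p N)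
    (hE : E.index = p) (hV : (frattini E).index = p ^ 3)
    (hirr : ∀ X : Subgroup E, X.Characteristic → frattini E ≤ X → X = frattini E ∨ X = ⊤)
    {e : N} (he : e ∈ E) (hJ : ∀ x : N, x ∉ E → ⁅⁅e, x⁆, x⁆ ∉ (frattini E).map E.subtype)
    {X : Subgroup N} [X.Normal] (hX : ∀ v ∈ E, v ^ p ∈ X) :
    (frattini E).map E.subtype ≤ X := by
  haveI : E.Normal := Subgroup.normal_of_index_eq_minFac_card (by
    obtain ⟨n, hn⟩ := hN.exists_card_eq
    rcases n with _ | n
    · have := hE ▸ Subgroup.index_dvd_card E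
      rw [hn, pow_zero, Nat.dvd_one] at this
      omega
    · rw [hE, hn, Nat.Prime.pow_minFac Fact.out n.succ_ne_zero])
  obtain ⟨x, hx⟩ : ∃ x, x ∉ E := by
    by_contra! h
    have := (eq_top_iff.mpr fun v _ => h v : E = ⊤)
    rw [this, Subgroup.index_top] at hE
    omega
  obtain ⟨a, c, w, hB⟩ := exists_block hN hE hV he hJ hx
  have hle := hB.frattini_le_powSub (hN.to_subgroup E) (rankThree_subgroup h3 E) hV hirr
  obtain ⟨D, hD⟩ : ∃ D, D = (frattini E).map E.subtype := ⟨_, rfl⟩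
  haveI : D.Normal := hD ▸ inferInstance
  rw [← hD]
  by_contra hnot
  haveI : (X ⊓ D).Normal := Subgroup.normal_inf_normal X D
  have hlt : X ⊓ D < D := lt_of_le_not_ge inf_le_right fun h => hnot (h.trans inf_le_left)
  refine (Jordan.commutator_sup_lt hN hlt).not_ge ?_
  conv_lhs => rw [hD]
  refine (Subgroup.map_mono hle).trans ?_
  rw [powSub, MonoidHom.map_closure, Subgroup.closure_le]
  rintro _ ⟨s, (⟨v, rfl⟩ | ⟨v, d, hd, rfl⟩), rfl⟩
  · refine Subgroup.mem_sup_right ⟨?_, ?_⟩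
    · simpa using hX v v.2
    · rw [SetLike.mem_coe, hD]
      exact ⟨_, Cfsg.Agent.PGroup.pow_mem_frattini (hN.to_subgroup E) v, rfl⟩
  · refine Subgroup.mem_sup_left ?_
    rw [Subgroup.commutator_comm, map_commutatorElement]
    exact Subgroup.commutator_mem_commutator (Subgroup.mem_top _) (hD ▸ ⟨d, hd, rfl⟩)

theorem jordan_pow_ne_one (hp : 5 ≤ p) (hN : IsPGroup p N) (h3 : RankThree p N)
    (hE : E.index = p) (hV : (frattini E).index = p ^ 3)
    (hirr : ∀ X : Subgroup E, X.Characteristic → frattini E ≤ X → X = frattini E ∨ X = ⊤)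
    {e : N} (he : e ∈ E) (hJ : ∀ x : N, x ∉ E → ⁅⁅e, x⁆, x⁆ ∉ (frattini E).map E.subtype)
    (hD : frattini E ≠ ⊥) {x : N} (hx : x ∉ E) : x ^ p ≠ 1 := by
  intro hxp
  haveI : E.Normal := Subgroup.normal_of_index_eq_minFac_card (by
    obtain ⟨n, hn⟩ := hN.exists_card_eq
    rcases n with _ | n
    · have := hE ▸ Subgroup.index_dvd_card E
      rw [hn, pow_zero, Nat.dvd_one] at this
      omega
    · rw [hE, hn, Nat.Prime.pow_minFac Fact.out n.succ_ne_zero])
  obtain ⟨a, c, w, hB⟩ := exists_block hN hE hV he hJ hx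
  have hle := hB.frattini_le_powSub (hN.to_subgroup E) (rankThree_subgroup h3 E) hV hirr
  obtain ⟨K, hKdef⟩ : ∃ K : Subgroup E, K = Subgroup.closure
      ({v | ∃ d ∈ frattini E, v = d ^ p} ∪ {v | ∃ a : E, ∃ d ∈ frattini E, v = ⁅a, d⁆}) :=
    ⟨_, rfl⟩
  haveI : K.Characteristic := by
    rw [hKdef]
    refine Jordan.characteristic_closure _ fun φ => ?_
    rintro s (⟨d, hd, rfl⟩ | ⟨a, d, hd, rfl⟩)
    · exact Or.inl ⟨φ d, frattini_map_auto φ hd, map_pow _ _ _⟩
    · exact Or.inr ⟨φ a, φ d, frattini_map_auto φ hd, map_commutatorElement _ _ _⟩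
  refine hB.pow_false (p := p) hp (hN.to_subgroup E) hV hirr hle (K := K)
    (fun d hd v => hKdef ▸ Subgroup.subset_closure (Or.inr ⟨v, d, hd, rfl⟩))
    (fun d hd => hKdef ▸ Subgroup.subset_closure (Or.inl ⟨d, hd, rfl⟩)) ?_ ?_
  · intro hK
    obtain ⟨D, hDdef⟩ : ∃ D, D = (frattini E).map E.subtype := ⟨_, rfl⟩
    haveI : D.Normal := hDdef ▸ inferInstance
    have hDne : D ≠ ⊥ := fun h => hD
      ((Subgroup.map_eq_bot_iff_of_injective _ E.subtype_injective).1 (hDdef ▸ h))
    refine (Cfsg.Agent.PGroup.commutator_top_lt hN hDne).ne (le_antisymm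
      (Subgroup.commutator_le_left D ⊤) ?_)
    have hsup : D ≤ ((frattini D).map D.subtype) ⊔ ⁅D, (⊤ : Subgroup N)⁆ := by
      conv_lhs => rw [hDdef]
      refine (Subgroup.map_mono hK).trans ?_
      rw [hKdef, MonoidHom.map_closure, Subgroup.closure_le]
      rintro _ ⟨s, (⟨d, hd, rfl⟩ | ⟨v, d, hd, rfl⟩), rfl⟩
      · refine Subgroup.mem_sup_left ?_
        have hdD : (d : N) ∈ D := hDdef ▸ ⟨d, hd, rfl⟩
        exact ⟨⟨(d : N), hdD⟩ ^ p,
          Cfsg.Agent.PGroup.pow_mem_frattini (hN.to_subgroup D) _, rfl⟩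
      · refine Subgroup.mem_sup_right ?_
        rw [Subgroup.commutator_comm, map_commutatorElement]
        exact Subgroup.commutator_mem_commutator (Subgroup.mem_top _) (hDdef ▸ ⟨d, hd, rfl⟩)
    have htop : (⁅D, (⊤ : Subgroup N)⁆.subgroupOf D) ⊔ frattini D = ⊤ := by
      apply Subgroup.map_injective D.subtype_injective
      rw [Subgroup.map_sup, Subgroup.map_subgroupOf_eq_of_le (Subgroup.commutator_le_left D ⊤),
        ← MonoidHom.range_eq_map, D.range_subtype]
      exact le_antisymm (sup_le (Subgroup.commutator_le_left D ⊤) (Subgroup.map_subtype_le _))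
        (hsup.trans (le_of_eq (sup_comm _ _)))
    exact Subgroup.subgroupOf_eq_top.mp (Cfsg.Agent.PGroup.eq_top_of_sup_frattini htop)
  · have h1 : ∀ n : ℕ, (((⇑(MulAut.conjNormal x : E ≃* E))^[n] ⟨e, he⟩ : E) : N) =
        x ^ n * e * (x ^ n)⁻¹ := by
      intro n
      induction n with
      | zero => simp
      | succ n ih =>
        rw [Function.iterate_succ_apply']
        show x * _ * x⁻¹ = _
        rw [ih, pow_succ']; group
    refine Subtype.ext ?_
    rw [h1, hxp]; simp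

end Cfsg.Agent.PearlExists
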