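import Cfsg.Agent.FusRankThree.JordanTools
import Cfsg.Agent.FusRankThree.Transv

/-!
# Tools for the layers of a two generated p-group (S5182)

For a characteristic subgroup `A` the commutator map `E × A → [A,E] / [A,E,E]` is bilinear, only
depends on the classes modulo `E'` and `[A,E]`, and commutes with all automorphisms.
-/

set_option autoImplicit false
set_option linter.style.haveILetI false
set_option linter.unusedSectionVars false
set_option linter.deprecated false

open scoped commutatorElement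

namespace Cfsg.Agent.PearlExists.Layer

universe u

variable {E : Type u} [Group E]

/-- The subgroup two steps below `A`. -/
abbrev lay (A : Subgroup E) : Subgroup E := ⁅⁅A, (⊤ : Subgroup E)⁆, (⊤ : Subgroup E)⁆

section Bracket

variable (A : Subgroup E) [A.Normal]

/-- The commutator map into `[A,E] / [A,E,E]`. -/
def br (v a : E) : E ⧸ lay A := QuotientGroup.mk' (lay A) ⁅v, a⁆

theorem br_eq (v a : E) :
    br A v a = ⁅QuotientGroup.mk' (lay A) v, QuotientGroup.mk' (lay A) a⁆ :=
  map_commutatorElement _ v a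

variable {A}

theorem mem_step {v a : E} (ha : a ∈ A) : ⁅v, a⁆ ∈ ⁅A, (⊤ : Subgroup E)⁆ := by
  rw [Subgroup.commutator_comm]
  exact Subgroup.commutator_mem_commutator (Subgroup.mem_top v) ha

theorem step_central {u : E} (hu : u ∈ ⁅A, (⊤ : Subgroup E)⁆) :
    QuotientGroup.mk' (lay A) u ∈ Subgroup.center (E ⧸ lay A) := by
  refine Subgroup.mem_center_iff.2 fun g => ?_
  obtain ⟨v, rfl⟩ := QuotientGroup.mk'_surjective (lay A) g
  rw [← commutatorElement_eq_one_iff_mul_comm, ← map_commutatorElement]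
  exact (QuotientGroup.eq_one_iff _).2 (mem_step (A := ⁅A, (⊤ : Subgroup E)⁆) hu)

theorem br_central {a : E} (ha : a ∈ A) (v : E) :
    br A v a ∈ Subgroup.center (E ⧸ lay A) := step_central (mem_step ha)

theorem br_mul_left {a : E} (ha : a ∈ A) (u v : E) : br A (u * v) a = br A u a * br A v a := by
  rw [br_eq, br_eq, br_eq, map_mul, PGroup.commutatorElement_mul_left]
  rw [← br_eq]; exact br_central ha v

theorem br_mul_right (v a : E) {b : E} (hb : b ∈ A) :
    br A v (a * b) = br A v a * br A v b := by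
  rw [br_eq, br_eq, br_eq, map_mul, PGroup.commutatorElement_mul_right]
  rw [← br_eq]; exact br_central hb v

theorem br_one_left (a : E) : br A 1 a = 1 := by
  rw [br, commutatorElement_one_left, map_one]

theorem br_one_right (v : E) : br A v 1 = 1 := by
  rw [br, commutatorElement_one_right, map_one]

theorem br_self (v : E) : br A v v = 1 := by rw [br, commutatorElement_self, map_one]

theorem br_swap (u v : E) : br A v u = (br A u v)⁻¹ := by
  rw [br, br, ← map_inv, commutatorElement_inv]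

/-- `br` as a homomorphism in its left argument. -/
def brL {a : E} (ha : a ∈ A) : E →* E ⧸ lay A :=
  MonoidHom.mk' (fun v => br A v a) (br_mul_left ha)

@[simp] theorem brL_apply {a : E} (ha : a ∈ A) (v : E) : brL ha v = br A v a := rfl

/-- `br` as a homomorphism in its right argument. -/
def brR (v : E) : A →* E ⧸ lay A :=
  MonoidHom.mk' (fun a => br A v a) fun a b => br_mul_right v a b.2

@[simp] theorem brR_apply (v : E) (a : A) : brR v a = br A v a := rfl

theorem br_pow_left {a : E} (ha : a ∈ A) (v : E) (n : ℕ) : br A (v ^ n) a = br A v a ^ n :=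
  map_pow (brL ha) v n

theorem br_inv_left {a : E} (ha : a ∈ A) (v : E) : br A v⁻¹ a = (br A v a)⁻¹ :=
  map_inv (brL ha) v

theorem br_inv_right (v : E) {a : E} (ha : a ∈ A) : br A v a⁻¹ = (br A v a)⁻¹ :=
  map_inv (brR (A := A) v) ⟨a, ha⟩

theorem br_zpow_right (v : E) {a : E} (ha : a ∈ A) (i : ℤ) : br A v (a ^ i) = br A v a ^ i :=
  map_zpow (brR (A := A) v) ⟨a, ha⟩ i

theorem br_right_step (v : E) {c : E} (hc : c ∈ ⁅A, (⊤ : Subgroup E)⁆) : br A v c = 1 :=
  (QuotientGroup.eq_one_iff _).2 (mem_step hc)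

/-- Three subgroups: `[E', A] ≤ [A,E,E]`. -/
theorem br_left_commutator {d a : E} (hd : d ∈ commutator E) (ha : a ∈ A) : br A d a = 1 := by
  set π := QuotientGroup.mk' (lay A) with hπ
  have h0 : (lay A).map π = ⊥ := QuotientGroup.map_mk'_self _
  rw [Subgroup.map_commutator, Subgroup.map_commutator] at h0
  have h2 : ⁅⁅(⊤ : Subgroup E).map π, A.map π⁆, (⊤ : Subgroup E).map π⁆ = ⊥ := by
    rw [Subgroup.commutator_comm ((⊤ : Subgroup E).map π)]; exact h0
  have h := Subgroup.commutator_commutator_eq_bot_of_rotate h2 h0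
  have hmem : ⁅π d, π a⁆ ∈ ⁅⁅(⊤ : Subgroup E).map π, (⊤ : Subgroup E).map π⁆, A.map π⁆ := by
    refine Subgroup.commutator_mem_commutator ?_ (Subgroup.mem_map_of_mem π ha)
    rw [← Subgroup.map_commutator]
    refine Subgroup.mem_map_of_mem π ?_
    rwa [commutator_def] at hd
  rw [h, Subgroup.mem_bot] at hmem
  rw [br_eq]; exact hmem

theorem br_cong {u v a b : E} (hb : b ∈ A) (huv : u⁻¹ * v ∈ commutator E)
    (hab : a⁻¹ * b ∈ ⁅A, (⊤ : Subgroup E)⁆) : br A u a = br A v b := by
  have hab' : (a⁻¹ * b)⁻¹ ∈ A := inv_mem (Subgroup.commutator_le_left A ⊤ hab)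
  rw [show u = v * (u⁻¹ * v)⁻¹ by group, show a = b * (a⁻¹ * b)⁻¹ by group,
    br_mul_left (mul_mem hb hab'), br_mul_right v b hab', br_right_step v (inv_mem hab),
    br_left_commutator (inv_mem huv) (mul_mem hb hab'), mul_one, mul_one]

theorem br_pow_eq_one {a v : E} (ha : a ∈ A) {n : ℕ} (hv : v ^ n ∈ commutator E) :
    br A v a ^ n = 1 := by
  rw [← br_pow_left ha, br_left_commutator hv ha]

/-- Generators of `[A,E]` modulo `[A,E,E]`. -/
theorem step_le {e1 e2 : E} (hgen : Subgroup.closure {e1, e2} = ⊤) {S T : Set E}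
    (hS : ∀ s ∈ S, s ∈ A) (hA : A ≤ Subgroup.closure S ⊔ ⁅A, (⊤ : Subgroup E)⁆)
    (h : ∀ s ∈ S, br A e1 s ∈ (Subgroup.closure T).map (QuotientGroup.mk' (lay A)) ∧
      br A e2 s ∈ (Subgroup.closure T).map (QuotientGroup.mk' (lay A))) :
    ⁅A, (⊤ : Subgroup E)⁆ ≤ Subgroup.closure T ⊔ lay A := by
  set R := (Subgroup.closure T).map (QuotientGroup.mk' (lay A)) with hR
  have key : ∀ a ∈ A, ∀ v : E, br A v a ∈ R := by
    have hl : ∀ s ∈ S, ∀ v, br A v s ∈ R := by
      intro s hs v
      have hle : Subgroup.closure {e1, e2} ≤ R.comap (brL (hS s hs)) := by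
        rw [Subgroup.closure_le]
        rintro z (rfl | rfl)
        exacts [(h s hs).1, (h s hs).2]
      rw [hgen] at hle
      exact hle (Subgroup.mem_top v)
    intro a ha v
    have hle : Subgroup.closure S ⊔ ⁅A, (⊤ : Subgroup E)⁆ ≤ (R.comap (brR v)).map A.subtype := by
      refine sup_le ((Subgroup.closure_le _).2 fun s hs => ?_) fun c hc => ?_
      · exact ⟨⟨s, hS s hs⟩, hl s hs v, rfl⟩
      · refine ⟨⟨c, Subgroup.commutator_le_left A ⊤ hc⟩, ?_, rfl⟩
        show br A v c ∈ R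
        rw [br_right_step v hc]; exact one_mem R
    obtain ⟨⟨a', ha'⟩, h', rfl⟩ := hle (hA ha)
    exact h'
  have hfin : ⁅A, (⊤ : Subgroup E)⁆ ≤ R.comap (QuotientGroup.mk' (lay A)) := by
    rw [Subgroup.commutator_le]
    intro a ha v _
    rw [Subgroup.mem_comap, ← commutatorElement_inv, map_inv]
    exact inv_mem (key a ha v)
  rwa [hR, Subgroup.comap_map_eq, QuotientGroup.ker_mk'] at hfin

end Bracket

section Aut

variable (A : Subgroup E) [A.Characteristic]

/-- The induced endomorphism of `E / [A,E,E]`. -/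
def autQ (β : MulAut E) : E ⧸ lay A →* E ⧸ lay A :=
  QuotientGroup.map (lay A) (lay A) β.toMonoidHom
    (Subgroup.characteristic_iff_le_comap.1 inferInstance β)

theorem autQ_mk (β : MulAut E) (v : E) :
    autQ A β (QuotientGroup.mk' (lay A) v) = QuotientGroup.mk' (lay A) (β v) := rfl

theorem autQ_br (β : MulAut E) (v a : E) : autQ A β (br A v a) = br A (β v) (β a) := by
  rw [br, autQ_mk, map_commutatorElement]; rfl

theorem autQ_br_cong (β : MulAut E) {v a v' a' : E} (ha' : a' ∈ A)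
    (hv : (β v)⁻¹ * v' ∈ commutator E) (ha : (β a)⁻¹ * a' ∈ ⁅A, (⊤ : Subgroup E)⁆) :
    autQ A β (br A v a) = br A v' a' := by
  rw [autQ_br, br_cong ha' hv ha]

end Aut

variable {p : ℕ} [hp : Fact p.Prime] [Finite E]

theorem eq_bot_of_le_step (hE : IsPGroup p E) {A : Subgroup E} [A.Normal]
    (h : A ≤ ⁅A, (⊤ : Subgroup E)⁆) : A = ⊥ := by
  by_contra hne
  exact (PGroup.commutator_top_lt hE hne).not_ge h

omit hp [Finite E] in
theorem eq_one_of_sq {M : Type*} [Group M] {a : M} (hodd : Odd p) (h2 : a * a = 1)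
    (hp' : a ^ p = 1) : a = 1 := by
  obtain ⟨m, rfl⟩ := hodd
  rw [pow_succ, pow_mul, sq, h2, one_pow, one_mul] at hp'
  exact hp'

/-- A non-commutative p-group: a central subgroup of index `p ^ 2` is the whole centre. -/
theorem center_eq_of_index (hE : IsPGroup p E) {K : Subgroup E} (hK : K ≤ Subgroup.center E)
    (hidx : K.index = p ^ 2) {a b : E} (hab : a * b ≠ b * a) : Subgroup.center E = K := by
  refine le_antisymm ?_ hK
  by_contra hne
  have hlt : K < Subgroup.center E := lt_of_le_not_ge hK hne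
  have h1 := FusRankThree.Jordan.le_relIndex_of_lt hE hlt
  have h2 := Subgroup.relIndex_mul_index hK
  rw [hidx] at h2
  have h3 : (Subgroup.center E).index ≤ p := by
    refine Nat.le_of_mul_le_mul_left ?_ hp.out.pos
    calc p * (Subgroup.center E).index
        ≤ K.relIndex (Subgroup.center E) * (Subgroup.center E).index := Nat.mul_le_mul_right _ h1
      _ = p * p := by rw [h2, sq]
  obtain ⟨k, hk⟩ := hE.index (Subgroup.center E)
  haveI : IsCyclic (E ⧸ Subgroup.center E) := by
    rcases k with _ | _ | k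
    · haveI : Subsingleton (E ⧸ Subgroup.center E) :=
        (Nat.card_eq_one_iff_unique.1 (by rw [← Subgroup.index_eq_card, hk, pow_zero])).1
      exact isCyclic_of_subsingleton
    · exact isCyclic_of_prime_card (p := p) (by rw [← Subgroup.index_eq_card, hk, pow_one])
    · rw [hk] at h3
      have := Nat.pow_lt_pow_right hp.out.one_lt (show 1 < k + 1 + 1 by omega)
      rw [pow_one] at this
      omega
  exact hab (commutative_of_cyclic_center_quotient (QuotientGroup.mk' (Subgroup.center E))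
    (by rw [QuotientGroup.ker_mk']) a b)

/-- A transvection of order dividing `p` on a homocyclic abelian group of exponent `p ^ 2`. -/
theorem pow_eq_one_of_transvection (hp5 : 5 ≤ p) {A : Type u} [CommGroup A]
    (hA : ∀ v : A, v ^ (p * p) = 1) {a : MulAut A} (ha : a ^ p = 1) {e1 e2 u1 u2 : A}
    (hgen : Subgroup.closure {e1, e2} = ⊤) (h1 : a e1 = e1 * u1 ^ p)
    (h2 : a e2 = e2 * (e1 * u2 ^ p)) : e1 ^ p = 1 := by
  obtain ⟨φ, hφ⟩ : ∃ φ : A →* A, ∀ v, φ v = v⁻¹ * a v :=
    ⟨MonoidHom.mk' (fun v => v⁻¹ * a v) fun v w => by rw [map_mul, mul_inv]; ac_rfl, fun _ => rfl⟩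
  have hap : ∀ v, a v = v * φ v := fun v => by rw [hφ, mul_inv_cancel_left]
  set D := (powMonoidHom p : A →* A).range with hD
  have hmem : ∀ {v}, v ∈ D ↔ ∃ u : A, u ^ p = v := fun {v} => Iff.rfl
  have hDp : ∀ v ∈ D, v ^ p = 1 := by
    rintro _ ⟨u, rfl⟩
    rw [powMonoidHom_apply, ← pow_mul, hA]
  have hφD : ∀ v ∈ D, φ v ∈ D := by
    rintro _ ⟨u, rfl⟩
    exact ⟨φ u, by rw [powMonoidHom_apply, powMonoidHom_apply, map_pow]⟩
  have hφe1 : φ e1 = u1 ^ p := by rw [hφ, h1, inv_mul_cancel_left]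
  have hφe2 : φ e2 = e1 * u2 ^ p := by rw [hφ, h2, inv_mul_cancel_left]
  have hsq : ∀ v, φ (φ v) ∈ D := by
    intro v
    have hle : Subgroup.closure {e1, e2} ≤ D.comap (φ.comp φ) := by
      rw [Subgroup.closure_le]
      rintro z (rfl | rfl)
      · show φ (φ z) ∈ D
        rw [hφe1]; exact hφD _ (hmem.2 ⟨u1, rfl⟩)
      · show φ (φ z) ∈ D
        rw [hφe2, map_mul, hφe1]
        exact mul_mem (hmem.2 ⟨u1, rfl⟩) (hφD _ (hmem.2 ⟨u2, rfl⟩))
    rw [hgen] at hle
    exact hle (Subgroup.mem_top v)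
  obtain ⟨u, hu⟩ := hmem.1 (hsq e2)
  obtain ⟨d, hd⟩ : ∃ d, d = φ e2 := ⟨_, rfl⟩
  obtain ⟨f, hf⟩ : ∃ f, f = φ d := ⟨_, rfl⟩
  obtain ⟨g, hg⟩ : ∃ g, g = φ f := ⟨_, rfl⟩
  have hfu : u ^ p = f := by rw [hu, hf, hd]
  have hfp : f ^ p = 1 := hDp _ (hmem.2 ⟨u, hfu⟩)
  have hgp : g ^ p = 1 := by rw [hg, ← map_pow, hfp, map_one]
  have hgf : a g = g := by
    rw [hap g, hg, ← hfu, map_pow, map_pow, hDp _ (hsq u), mul_one]
  have key : ∀ n : ℕ, (a ^ n) e2 = e2 * d ^ n * f ^ n.choose 2 * g ^ n.choose 3 := by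
    intro n
    induction n with
    | zero => simp
    | succ n ih =>
      have hc2 : (n + 1).choose 2 = n + n.choose 2 := by
        rw [Nat.choose_succ_succ', Nat.choose_one_right]
      have hc3 : (n + 1).choose 3 = n.choose 2 + n.choose 3 := Nat.choose_succ_succ' n 2
      rw [pow_succ', MulAut.mul_apply, ih, map_mul, map_mul, map_mul, map_pow, map_pow, map_pow,
        hgf, hap e2, ← hd, hap d, ← hf, hap f, ← hg, mul_pow, mul_pow, hc2, hc3, pow_succ' d,
        pow_add, pow_add]
      ac_rfl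
  have h := key p
  obtain ⟨m, hm⟩ := hp.out.dvd_choose_self (k := 2) (by omega) (by omega)
  obtain ⟨m', hm'⟩ := hp.out.dvd_choose_self (k := 3) (by omega) (by omega)
  rw [ha, MulAut.one_apply, hm, hm', pow_mul, pow_mul, hfp, hgp, one_pow, one_pow, mul_one,
    mul_one, left_eq_mul, hd, hφe2, mul_pow, ← pow_mul, hA, mul_one] at h
  exact h

end Cfsg.Agent.PearlExists.Layer
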