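import Cfsg.Agent.PearlExists.Defs
import Cfsg.Agent.PearlExists.NormalCrit
import Cfsg.Agent.FusRankThree.Main
import Cfsg.Agent.PGroup.Frattini

/-!
# A layered essential subgroup forces a normal subgroup (S5182)
-/

set_option autoImplicit false

open Cfsg Cfsg.FusionSystem Cfsg.Agent.FusionSys

namespace Cfsg.Agent.PearlExists

universe u

variable {p : ℕ} {Ω : Type u} [Group Ω] {S : Subgroup Ω}

/-- A subgroup of index `p` contains the Frattini subgroup. -/
theorem frattini_le_of_index_prime {G : Type u} [Group G] [Finite G] (hp : p.Prime)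
    {M : Subgroup G} (hM : M.index = p) : frattini G ≤ M := by
  refine frattini_le_coatom ⟨fun h => ?_, fun K hK => ?_⟩
  · rw [h, Subgroup.index_top] at hM
    exact hp.ne_one hM.symm
  · by_contra hne
    have h1 := Subgroup.index_strictAnti hK
    have h2 : K.index ∣ p := hM ▸ Subgroup.index_dvd_of_le hK.le
    rcases (Nat.dvd_prime hp).1 h2 with h | h
    · exact hne (Subgroup.index_eq_one.1 h)
    · rw [h, hM] at h1; exact lt_irrefl _ h1

/-- The Frattini subgroups of finite `p`-subgroups are monotone, in any ambient group. -/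
theorem frattini_map_le [Fact p.Prime] {H K : Subgroup Ω} [Finite K] (hK : IsPGroup p K)
    (hHK : H ≤ K) : (frattini ↥H).map H.subtype ≤ (frattini ↥K).map K.subtype := by
  haveI : Finite H := finite_of_le ‹_› hHK
  have h := PGroup.frattini_le_comap_of_pGroup (P := H) hK (Subgroup.inclusion hHK)
  rw [← Subgroup.map_le_iff_le_comap] at h
  have h2 := Subgroup.map_mono (f := K.subtype) h
  rwa [Subgroup.map_map, Subgroup.subtype_comp_inclusion] at h2

/-- In a layered configuration, every automorphism of `N_S(E)` fixes `L`. -/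
theorem layered_fixed [Finite S] [Fact p.Prime] (hS : IsPGroup p S) {E L : Subgroup Ω}
    (hES : E ≤ S) (hL : IsLayered p S E L) (α : MulAut (normalizerIn S E))
    (x : normalizerIn S E) (hx : (x : Ω) ∈ L) : (α x : Ω) ∈ L := by
  obtain ⟨hLE, hLc, -, hidx, hLΦ, hLZ, -, huniq⟩ := hL
  have hNS : normalizerIn S E ≤ S := normalizerIn_le E
  haveI : Finite (normalizerIn S E) := finite_of_le ‹_› hNS
  have hNp : IsPGroup p (normalizerIn S E) := hS.to_le hNS
  have hEN : E ≤ normalizerIn S E := le_normalizerIn hES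
  set L0 := L.subgroupOf (normalizerIn S E) with hL0
  haveI hL0n : L0.Normal := ⟨fun l hl g => by
    rw [Subgroup.mem_subgroupOf] at hl ⊢
    obtain ⟨hlE, hlc⟩ := (hLZ _).1 hl
    refine (hLZ _).2 ⟨(Subgroup.mem_normalizer_iff.1 g.2.2 _).1 hlE, fun v hv => ?_⟩
    have hv' : (g : Ω)⁻¹ * v * g ∈ E :=
      (Subgroup.mem_normalizer_iff.1 g.2.2 _).2 (by simpa [mul_assoc] using hv)
    have h := congrArg (fun t => (g : Ω) * t * (g : Ω)⁻¹) (hlc _ hv')
    simpa [mul_assoc] using h⟩
  have hLfr : L0 ≤ frattini ↥(normalizerIn S E) := by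
    intro l hl
    rw [hL0, Subgroup.mem_subgroupOf] at hl
    obtain ⟨z, hz, hzl⟩ := hLΦ hl
    obtain ⟨d, hd, hdz⟩ := frattini_map_le hNp hEN (H := E)
      ⟨z, hz, rfl⟩
    have : d = l := Subtype.ext (hdz.trans hzl)
    exact this ▸ hd
  set X := (L0.map α.toMonoidHom).map (normalizerIn S E).subtype with hX
  haveI : (L0.map α.toMonoidHom).Normal := hL0n.map _ α.surjective
  have hXE : X ≤ E := by
    rintro _ ⟨_, ⟨l, hl, rfl⟩, rfl⟩
    have h1 : α l ∈ frattini ↥(normalizerIn S E) :=
      (Subgroup.characteristic_iff_map_eq.1 (inferInstance :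
        (frattini ↥(normalizerIn S E)).Characteristic) α).le ⟨l, hLfr hl, rfl⟩
    exact Subgroup.mem_subgroupOf.1
      (frattini_le_of_index_prime (Fact.out : p.Prime) hidx h1)
  have hXc : Nat.card X = p ^ 2 := by
    rw [hX, Subgroup.card_map_of_injective (Subgroup.subtype_injective _),
      Subgroup.card_map_of_injective (f := α.toMonoidHom) α.injective, hL0,
      Nat.card_congr (Subgroup.subgroupOfEquivOfLe (hLE.trans hEN)).toEquiv, hLc]
  have hXn : normalizerIn S E ≤ Subgroup.normalizer (X : Set Ω) := by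
    haveI : Finite E := finite_of_le ‹_› hES
    haveI : Finite X := finite_of_le (‹Finite E› : Finite E) hXE
    intro g hg
    refine Subgroup.mem_normalizer_fintype (S := (X : Set Ω)) fun z hz => ?_
    obtain ⟨w, hw, rfl⟩ := hz
    exact ⟨⟨g, hg⟩ * w * ⟨g, hg⟩⁻¹, Subgroup.Normal.conj_mem inferInstance _ hw _, rfl⟩
  rw [← huniq X hXE hXc hXn]
  exact ⟨α x, ⟨x, hx, rfl⟩, rfl⟩

/-- In a layered configuration, `N_S(E) = S`. -/
theorem layered_normal [Finite S] [Fact p.Prime] (hS : IsPGroup p S) {E L : Subgroup Ω}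
    (hES : E ≤ S) (hL : IsLayered p S E L) : normalizerIn S E = S := by
  by_contra hne
  obtain ⟨g, hg, hgN⟩ := SetLike.exists_of_lt
    (FusionAux.lt_normalizerIn hS (normalizerIn_le E) hne)
  have hfix := layered_fixed hS hES hL ((normalizerIn S E).normalizerMonoidHom ⟨g, hg.2⟩)
  obtain ⟨hLE, -, -, hidx, -, hLZ, ⟨g0, hg0, l0, hl0, hne0⟩, -⟩ := hL
  haveI : Finite (normalizerIn S E) := finite_of_le ‹_› (normalizerIn_le E)
  haveI : Finite E := finite_of_le ‹_› hES
  have hEN : E ≤ normalizerIn S E := le_normalizerIn hES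
  -- the centraliser of `L` in `N_S(E)` is `E`
  have hcent : ∀ c ∈ normalizerIn S E, (∀ l ∈ L, c * l = l * c) → c ∈ E := by
    intro c hc hcl
    by_contra hcE
    set C := (Subgroup.centralizer (L : Set Ω)).subgroupOf (normalizerIn S E) with hC
    have hEC : E.subgroupOf (normalizerIn S E) < C := by
      refine SetLike.lt_iff_le_and_exists.2 ⟨fun e he => ?_, ⟨c, hc⟩, ?_, hcE⟩
      · rw [hC, Subgroup.mem_subgroupOf, Subgroup.mem_centralizer_iff]
        intro l hl
        exact (((hLZ l).1 hl).2 _ (Subgroup.mem_subgroupOf.1 he)).symm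
      · rw [hC, Subgroup.mem_subgroupOf, Subgroup.mem_centralizer_iff]
        exact fun l hl => (hcl l hl).symm
    have htop : C = ⊤ := by
      have h2 : C.index ∣ p := hidx ▸ Subgroup.index_dvd_of_le hEC.le
      rcases (Nat.dvd_prime (Fact.out : p.Prime)).1 h2 with h | h
      · exact Subgroup.index_eq_one.1 h
      · have h1 := Subgroup.index_strictAnti hEC
        rw [h, hidx] at h1
        exact absurd h1 (lt_irrefl _)
    have h3 : (⟨g0, hg0⟩ : normalizerIn S E) ∈ C := htop ▸ Subgroup.mem_top _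
    rw [hC, Subgroup.mem_subgroupOf, Subgroup.mem_centralizer_iff] at h3
    exact hne0 (by rw [← h3 l0 hl0, mul_inv_cancel_right])
  refine hgN ⟨hg.1, Subgroup.mem_normalizer_fintype (S := (E : Set Ω)) fun z hz => ?_⟩
  have hgz : g * z * g⁻¹ ∈ normalizerIn S E := (Subgroup.mem_normalizer_iff.1 hg.2 z).1 (hEN hz)
  refine hcent _ hgz fun l hl => ?_
  haveI : Finite L := finite_of_le (‹Finite E› : Finite E) hLE
  have hgL : g ∈ Subgroup.normalizer (L : Set Ω) :=
    Subgroup.mem_normalizer_fintype (S := (L : Set Ω)) fun m hm => hfix ⟨m, hEN (hLE hm)⟩ hm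
  obtain ⟨m, hm, rfl⟩ : ∃ m ∈ L, g * m * g⁻¹ = l :=
    ⟨g⁻¹ * l * g, (Subgroup.mem_normalizer_iff.1 hgL _).2 (by simpa [mul_assoc] using hl),
      by simp [mul_assoc]⟩
  have h := congrArg (fun t => g * t * g⁻¹) (((hLZ m).1 hm).2 z hz)
  simpa [mul_assoc] using h

/-- An essential subgroup of rank three is of index `p` in its normaliser. -/
theorem essential_index [Finite S] [Fact p.Prime] (hp : 5 ≤ p) (hS : IsPGroup p S)
    {F : FusionSystem S} (hF : F.IsSaturated p) {E : Subgroup Ω}
    (hE : F.IsEssential p E) (hrk : (frattini ↥E).index = p ^ 3) :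
    (E.subgroupOf (normalizerIn S E)).index = p := by
  have hES : E ≤ S := hE.1.1
  haveI : Finite E := finite_of_le ‹_› hES
  have hEp : IsPGroup p E := hS.to_le hES
  haveI : Finite (normalizerIn S E) := finite_of_le ‹_› (normalizerIn_le E)
  obtain ⟨R, Y, hRne, hY, hN, hmem⟩ := FusRankThree.exists_lin_data hS hF hE
  have hVcard : Nat.card (FusRankThree.FQ E) = p ^ 3 := by rw [← hrk, Subgroup.index_eq_card]
  have hR := FusRankThree.lin_sylow_card hp (FusRankThree.FQ_pow hEp) (FusRankThree.FQ_comm hEp)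
    hVcard R hRne hY hN
  set π : normalizerIn S E →* (FusRankThree.rho F E).range :=
    (FusRankThree.rho F E).rangeRestrict.comp (FusRankThree.conjAut F hES) with hπ
  have hπR : π.range = (R : Subgroup (FusRankThree.rho F E).range) := by
    ext r
    constructor
    · rintro ⟨g, rfl⟩
      exact (hmem _).2 (mem_autInducedBy.2 ⟨g, g.2.1, fun _ => rfl⟩)
    · intro hr
      obtain ⟨α, rfl⟩ := MonoidHom.rangeRestrict_surjective (FusRankThree.rho F E) r
      obtain ⟨g, hg, hge⟩ := mem_autInducedBy.1 ((hmem α).1 hr)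
      refine ⟨⟨g, hg, mem_normalizer_of_conj_eq (α : MulAut E) hge⟩, ?_⟩
      rw [hπ, MonoidHom.comp_apply]
      congr 1
      exact Subtype.ext (MulEquiv.ext fun z => Subtype.ext (hge z).symm)
  have hker : π.ker = E.subgroupOf (normalizerIn S E) := by
    ext g
    rw [MonoidHom.mem_ker, Subgroup.mem_subgroupOf, hπ, MonoidHom.comp_apply,
      ← FusRankThree.rho_conjAut_eq_one hS hE g, Subtype.ext_iff]
    rfl
  rw [← hker, Subgroup.index_ker, hπR, hR]

theorem layered_core_ne_bot [Finite S] [Fact p.Prime] (hp : 5 ≤ p) (hS : IsPGroup p S)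
    (h3 : FusRankThree.RankThree p S) {F : FusionSystem S} (hF : F.IsSaturated p)
    {E L : Subgroup Ω} (hE : F.IsEssential p E) (hL : IsLayered p S E L)
    (hall : ∀ E2 : Subgroup Ω, F.IsEssential p E2 →
      (frattini ↥E2).index = p ^ 3 ∨ ∃ L2 : Subgroup Ω, IsLayered p S E2 L2) :
    F.core ≠ ⊥ := by
  have hpp : p.Prime := Fact.out
  have hES : E ≤ S := hE.1.1
  have hNS : normalizerIn S E = S := layered_normal hS hES hL
  have hfixN := layered_fixed hS hES hL
  obtain ⟨hLE, hLc, hEc, hidx, -, -, -, huniq⟩ := hL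
  rw [hNS] at huniq hidx
  -- automorphisms of `S` fix `L`
  have hfix : ∀ α : MulAut S, ∀ x : S, (x : Ω) ∈ L → (α x : Ω) ∈ L := by
    have key : ∀ T : Subgroup Ω, T = normalizerIn S E →
        ∀ α : MulAut T, ∀ x : T, (x : Ω) ∈ L → (α x : Ω) ∈ L := by
      rintro T rfl
      exact hfixN
    exact key S hNS.symm
  -- `Φ(S) ≤ E`
  have hΦS : ∀ {X : Subgroup Ω}, X ≤ S → (frattini ↥X).map X.subtype ≤ E := by
    intro X hX
    refine (frattini_map_le hS hX).trans ?_
    rintro _ ⟨s, hs, rfl⟩
    exact Subgroup.mem_subgroupOf.1 (frattini_le_of_index_prime hpp hidx hs)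
  have hcardS : Nat.card S = p ^ 6 := by
    rw [← Subgroup.card_mul_index (E.subgroupOf S), hidx,
      Nat.card_congr (Subgroup.subgroupOfEquivOfLe hES).toEquiv, hEc]
    ring
  refine fun hcore => ?_
  have hnormal : F.IsNormal L := by
    refine isNormal_of_essentials hS hF (hLE.trans hES) (fun α _ => hfix α) fun P hP => ?_
    have hPS : P ≤ S := hP.1.1
    haveI : Finite P := finite_of_le ‹_› hPS
    rcases hall P hP with hrk | ⟨L2, hL2⟩
    · -- rank three
      have hPn : normalizerIn S P = S :=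
        inf_eq_left.2 (FusRankThree.essential_normal hp hS h3 hF hP hrk)
      have hPidx := essential_index hp hS hF hP hrk
      rw [hPn] at hPidx
      have hPc : Nat.card P = p ^ 5 := by
        have h := Subgroup.card_mul_index (P.subgroupOf S)
        rw [hPidx, hcardS, Nat.card_congr (Subgroup.subgroupOfEquivOfLe hPS).toEquiv,
          pow_succ p 5] at h
        exact Nat.eq_of_mul_eq_mul_right hpp.pos h
      have hΦc : Nat.card (frattini ↥P) = p ^ 2 := by
        have h := Subgroup.card_mul_index (frattini ↥P)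
        rw [hrk, hPc, show p ^ 5 = p ^ 2 * p ^ 3 by ring] at h
        exact Nat.eq_of_mul_eq_mul_right (pow_pos hpp.pos 3) h
      have hXS : S ≤ Subgroup.normalizer (((frattini ↥P).map P.subtype : Subgroup Ω) : Set Ω) := by
        intro g hg
        haveI : Finite ((frattini ↥P).map P.subtype) := finite_of_le (‹Finite P› : Finite P)
          (Subgroup.map_subtype_le _)
        refine Subgroup.mem_normalizer_fintype
          (S := (((frattini ↥P).map P.subtype : Subgroup Ω) : Set Ω)) fun z hz => ?_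
        obtain ⟨w, hw, rfl⟩ := hz
        have hgP : g ∈ Subgroup.normalizer (P : Set Ω) :=
          FusRankThree.essential_normal hp hS h3 hF hP hrk hg
        refine ⟨P.normalizerMonoidHom ⟨g, hgP⟩ w, ?_, rfl⟩
        exact (Subgroup.characteristic_iff_map_eq.1 (inferInstance :
          (frattini ↥P).Characteristic) (P.normalizerMonoidHom ⟨g, hgP⟩)).le ⟨w, hw, rfl⟩
      have hXL : (frattini ↥P).map P.subtype = L :=
        huniq _ (hΦS hPS) (by
          rw [Subgroup.card_map_of_injective (Subgroup.subtype_injective _), hΦc]) hXS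
      subst hXL
      refine ⟨Subgroup.map_subtype_le _, fun α _ x hx => ?_⟩
      obtain ⟨w, hw, hwx⟩ := hx
      have hwx' : w = x := Subtype.ext hwx
      subst hwx'
      exact ⟨α w, (Subgroup.characteristic_iff_map_eq.1 (inferInstance :
        (frattini ↥P).Characteristic) α).le ⟨w, hw, rfl⟩, rfl⟩
    · -- layered
      have hPn := layered_normal hS hPS hL2
      obtain ⟨hL2P, hL2c, -, -, hL2Φ, hL2Z, -, -⟩ := hL2
      have hL2S : S ≤ Subgroup.normalizer (L2 : Set Ω) := by
        intro g hg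
        haveI : Finite L2 := finite_of_le (‹Finite P› : Finite P) hL2P
        have hgP : g ∈ Subgroup.normalizer (P : Set Ω) :=
          (hPn.symm ▸ hg : g ∈ normalizerIn S P).2
        refine Subgroup.mem_normalizer_fintype (S := (L2 : Set Ω)) fun z hz => ?_
        obtain ⟨hzP, hzc⟩ := (hL2Z _).1 hz
        refine (hL2Z _).2 ⟨(Subgroup.mem_normalizer_iff.1 hgP _).1 hzP, fun v hv => ?_⟩
        have hv' : g⁻¹ * v * g ∈ P :=
          (Subgroup.mem_normalizer_iff.1 hgP _).2 (by simpa [mul_assoc] using hv)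
        have h := congrArg (fun t => g * t * g⁻¹) (hzc _ hv')
        simpa [mul_assoc] using h
      have hLL : L2 = L := huniq _ (hL2Φ.trans (hΦS hPS)) hL2c hL2S
      subst hLL
      refine ⟨hL2P, fun α _ x hx => ?_⟩
      obtain ⟨-, hxc⟩ := (hL2Z _).1 hx
      refine (hL2Z _).2 ⟨(α x).2, fun v hv => ?_⟩
      obtain ⟨w, hw⟩ := α.surjective ⟨v, hv⟩
      have h1 : w * x = x * w := Subtype.ext (hxc _ w.2)
      have h2 := congrArg (fun t => ((α t : P) : Ω)) h1
      simp only [map_mul, Subgroup.coe_mul, hw] at h2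
      exact h2
  have hLbot : L = ⊥ := eq_bot_iff.2 (hcore ▸ le_sSup hnormal)
  rw [hLbot, Subgroup.card_bot] at hLc
  exact hpp.ne_one (Nat.pow_eq_one.1 hLc.symm |>.resolve_right (by norm_num))

end Cfsg.Agent.PearlExists
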