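import Cfsg.Agent.PearlExists.Defs
import Cfsg.Agent.PearlExists.LayerTools
import Cfsg.Agent.PGroup.Extraspecial

/-!
# The layers of a two generated essential subgroup (S5182)

Let `E` be of index `p` in `N`, two generated, with a pair of opposite transvections and minus one
on `E / Φ(E)`. Either `E` is a pearl group, or `E` has class three and order `p ^ 5`.
-/

set_option autoImplicit false
set_option linter.style.haveILetI false
set_option linter.unusedSectionVars false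

open Cfsg
open Cfsg.Agent.FusRankThree
open scoped commutatorElement

namespace Cfsg.Agent.PearlExists

universe u

namespace Layer

/-- The derived subgroup. -/
abbrev g2 (E : Type u) [Group E] : Subgroup E := ⁅(⊤ : Subgroup E), (⊤ : Subgroup E)⁆

/-- The third term of the lower central series. -/
abbrev g3 (E : Type u) [Group E] : Subgroup E := ⁅g2 E, (⊤ : Subgroup E)⁆

/-- The fourth term of the lower central series. -/
abbrev g4 (E : Type u) [Group E] : Subgroup E := ⁅g3 E, (⊤ : Subgroup E)⁆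

/-- The fifth term of the lower central series. -/
abbrev g5 (E : Type u) [Group E] : Subgroup E := ⁅g4 E, (⊤ : Subgroup E)⁆

section

variable {p : ℕ} [Fact p.Prime]

theorem pow_eq_one_of_gen {E Q : Type u} [Group E] [Group Q] (f : E →* Q) {A M : Subgroup E}
    {T : Set E} (hA : A ≤ Subgroup.closure T ⊔ M) (hTA : ∀ t ∈ T, t ∈ A) (hMA : M ≤ A)
    (hc : ∀ a ∈ A, ∀ b ∈ A, Commute (f a) (f b)) (hT : ∀ t ∈ T, f t ^ p = 1)
    (hM : ∀ m ∈ M, f m ^ p = 1) : ∀ a ∈ A, f a ^ p = 1 := by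
  let K : Subgroup E :=
    { carrier := {a | a ∈ A ∧ f a ^ p = 1}
      one_mem' := ⟨A.one_mem, by rw [map_one, one_pow]⟩
      mul_mem' := fun {a b} ha hb => ⟨A.mul_mem ha.1 hb.1, by
        rw [map_mul, (hc a ha.1 b hb.1).mul_pow, ha.2, hb.2, one_mul]⟩
      inv_mem' := fun {a} ha => ⟨A.inv_mem ha.1, by rw [map_inv, inv_pow, ha.2, inv_one]⟩ }
  intro a ha
  have hle : Subgroup.closure T ⊔ M ≤ K :=
    sup_le ((Subgroup.closure_le _).2 fun t ht => ⟨hTA t ht, hT t ht⟩) fun m hm => ⟨hMA hm, hM m hm⟩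
  exact (hle (hA ha)).2

theorem normal_between {E : Type u} [Group E] {A M : Subgroup E} [A.Normal] (h1 : lay A ≤ M)
    (h2 : M ≤ ⁅A, (⊤ : Subgroup E)⁆) : M.Normal := by
  refine ⟨fun a ha v => ?_⟩
  rw [show v * a * v⁻¹ = ⁅v, a⁆ * a by simp [commutatorElement_def]]
  exact mul_mem (h1 (mem_step (A := ⁅A, (⊤ : Subgroup E)⁆) (h2 ha))) ha

variable {N : Type u} [Group N] [Finite N] {E : Subgroup N} [E.Normal] {x : N} {e1 e2 : E}
  {y τ : MulAut E}

theorem TwoGen.closure_eq (H : TwoGen p E x e1 e2 y τ) : Subgroup.closure {e1, e2} = ⊤ :=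
  PGroup.eq_top_of_sup_frattini H.gen

/-- `E / E'` is elementary abelian. -/
theorem TwoGen.frattini_eq (hp : 5 ≤ p) (hN : IsPGroup p N) (H : TwoGen p E x e1 e2 y τ) :
    frattini E = commutator E := by
  have hpr : p.Prime := Fact.out
  have hPE : IsPGroup p E := hN.to_subgroup E
  have hgen := TwoGen.closure_eq H
  set L := commutator E ⊔ Subgroup.closure (Set.range fun v : E => v ^ (p * p)) with hL
  haveI hLn : L.Normal := PGroup.normal_of_commutator_le le_sup_left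
  haveI hLc : L.Characteristic := by
    refine Subgroup.characteristic_iff_le_comap.2 fun β => sup_le ?_ ((Subgroup.closure_le _).2 ?_)
    · exact le_trans (Subgroup.characteristic_iff_le_comap.1 inferInstance β)
        (Subgroup.comap_mono le_sup_left)
    · rintro _ ⟨v, rfl⟩
      refine Subgroup.mem_sup_right (Subgroup.subset_closure ⟨β v, ?_⟩)
      exact (map_pow β v _).symm
  set π := QuotientGroup.mk' L with hπ
  letI : CommGroup (E ⧸ L) :=
    { (inferInstance : Group (E ⧸ L)) with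
      mul_comm := fun a b => by
        obtain ⟨a, rfl⟩ := QuotientGroup.mk'_surjective L a
        obtain ⟨b, rfl⟩ := QuotientGroup.mk'_surjective L b
        show π a * π b = π b * π a
        rw [← commutatorElement_eq_one_iff_mul_comm, ← map_commutatorElement]
        refine (QuotientGroup.eq_one_iff _).2 (Subgroup.mem_sup_left ?_)
        rw [commutator_def]
        exact Subgroup.commutator_mem_commutator (Subgroup.mem_top a) (Subgroup.mem_top b) }
  have hA : ∀ v : E ⧸ L, v ^ (p * p) = 1 := by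
    intro v
    obtain ⟨v, rfl⟩ := QuotientGroup.mk'_surjective L v
    rw [← map_pow]
    exact (QuotientGroup.eq_one_iff _).2 (Subgroup.mem_sup_right (Subgroup.subset_closure ⟨v, rfl⟩))
  have hD : ∀ d ∈ frattini E, ∃ u : E ⧸ L, u ^ p = π d := by
    intro d hd
    have hle : frattini E ≤ (powMonoidHom p : (E ⧸ L) →* E ⧸ L).range.comap π := by
      refine PGroup.frattini_le_of_commutator_le_of_pow_mem hpr (fun c hc => ⟨1, ?_⟩)
        fun v => ⟨π v, ?_⟩
      · rw [powMonoidHom_apply, one_pow]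
        exact ((QuotientGroup.eq_one_iff c).2 (Subgroup.mem_sup_left hc)).symm
      · rw [powMonoidHom_apply, map_pow]
    exact hle hd
  have hcong : ∀ {a b : E}, CongMod (frattini E) a b → ∃ u : E ⧸ L, π a = π b * u ^ p := by
    intro a b h
    obtain ⟨u, hu⟩ := hD _ (Subgroup.inv_mem _ h)
    refine ⟨u, ?_⟩
    rw [hu, ← map_mul]
    congr 1
    group
  -- the induced automorphism
  set α : MulAut E := MulAut.conjNormal x with hα
  set a : MulAut (E ⧸ L) :=
    QuotientGroup.congr L L α (Subgroup.characteristic_iff_map_eq.1 hLc α) with ha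
  have haπ : ∀ v, a (π v) = π (α v) := fun v => rfl
  have hapow : a ^ p = 1 := by
    have hn : ∀ (n : ℕ) (v : E), (a ^ n) (π v) = π ((α ^ n) v) := by
      intro n
      induction n with
      | zero => intro v; simp
      | succ n ih => intro v; rw [pow_succ, MulAut.mul_apply, haπ, ih, pow_succ, MulAut.mul_apply]
    have hxp : x ^ p ∈ E := H.index ▸ E.pow_index_mem x
    refine MulEquiv.ext fun v => ?_
    obtain ⟨v, rfl⟩ := QuotientGroup.mk'_surjective L v
    rw [hn, MulAut.one_apply, hα, ← map_pow,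
      show MulAut.conjNormal (x ^ p) v = (⟨x ^ p, hxp⟩ : E) * v * (⟨x ^ p, hxp⟩ : E)⁻¹ from
        Subtype.ext (MulAut.conjNormal_apply (x ^ p) v), map_mul, map_mul, map_inv,
      mul_inv_cancel_comm]
  obtain ⟨u1, hu1⟩ := hcong H.x1
  obtain ⟨u2, hu2⟩ := hcong H.x2
  have he1 : π e1 ^ p = 1 := by
    refine pow_eq_one_of_transvection hp hA hapow (e1 := π e1) (e2 := π e2) (u1 := u1) (u2 := u2)
      ?_ ?_ ?_
    · rw [show ({π e1, π e2} : Set (E ⧸ L)) = π '' {e1, e2} from (Set.image_pair _ _ _).symm,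
        ← MonoidHom.map_closure, hgen, Subgroup.map_top_of_surjective _
          (QuotientGroup.mk'_surjective L)]
    · rw [haπ]; exact hu1
    · rw [haπ, hu2, map_mul, mul_assoc]
  have he2 : π e2 ^ p = 1 := by
    obtain ⟨u, hu⟩ := hcong H.y1
    have h1 : π (y (e1 ^ p)) = 1 := by
      refine (QuotientGroup.eq_one_iff _).2 (Subgroup.characteristic_iff_le_comap.1 hLc y ?_)
      exact (QuotientGroup.eq_one_iff _).1 ((map_pow π e1 p).trans he1)
    rw [map_pow, map_pow, hu, map_mul, mul_pow, mul_pow, he1, one_mul, ← pow_mul, hA,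
      mul_one] at h1
    exact h1
  have hall : ∀ v : E, v ^ p ∈ L := by
    intro v
    have hle : Subgroup.closure {e1, e2} ≤ ((powMonoidHom p).comp π).ker := by
      rw [Subgroup.closure_le]
      rintro z (rfl | rfl)
      exacts [he1, he2]
    rw [hgen] at hle
    exact (QuotientGroup.eq_one_iff _).1 ((map_pow π v p).trans (hle (Subgroup.mem_top v)))
  -- every p-th power in the abelianization is trivial
  have hroot : ∀ b : Abelianization E, ∃ c : Abelianization E, b ^ p = c ^ (p * p) := by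
    intro b
    obtain ⟨v, rfl⟩ := QuotientGroup.mk'_surjective (commutator E) b
    have hle : L ≤ (powMonoidHom (p * p) : Abelianization E →* _).range.comap Abelianization.of := by
      refine sup_le (fun c hc => ⟨1, ?_⟩) ((Subgroup.closure_le _).2 ?_)
      · rw [powMonoidHom_apply, one_pow]
        exact ((QuotientGroup.eq_one_iff c).2 hc).symm
      · rintro _ ⟨w, rfl⟩
        exact ⟨Abelianization.of w, (map_pow Abelianization.of w _).symm⟩
    obtain ⟨c, hc⟩ := hle (hall v)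
    exact ⟨c, ((map_pow Abelianization.of v p).symm.trans hc.symm)⟩
  have hiter : ∀ (k : ℕ) (b : Abelianization E), ∃ c : Abelianization E, b ^ p = c ^ p ^ (k + 1) := by
    intro k
    induction k with
    | zero => exact fun b => ⟨b, by simp⟩
    | succ k ih =>
      intro b
      obtain ⟨c, hc⟩ := ih b
      obtain ⟨d, hd⟩ := hroot c
      refine ⟨d, ?_⟩
      rw [hc, pow_succ', pow_mul, hd, ← pow_mul]
      ring_nf
  refine le_antisymm ?_ (PGroup.commutator_le_frattini hPE)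
  refine PGroup.frattini_le_of_commutator_le_of_pow_mem hpr le_rfl fun v => ?_
  obtain ⟨k, hk⟩ := IsPGroup.iff_card.1 (hPE.to_quotient (commutator E))
  obtain ⟨c, hc⟩ := hiter k (Abelianization.of v)
  have h1 : c ^ p ^ (k + 1) = 1 := by
    rw [pow_succ, pow_mul, ← hk]
    show (c ^ Nat.card (Abelianization E)) ^ p = 1
    rw [pow_card_eq_one', one_pow]
  exact (QuotientGroup.eq_one_iff _).1 ((map_pow Abelianization.of v p).trans (hc.trans h1))

/-- The images of `[e1,e2]` under an automorphism given modulo the Frattini subgroup. -/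
theorem z_cong {β : MulAut E} {f1 f2 : E} (hD : frattini E = commutator E)
    (h1 : CongMod (frattini E) (β e1) f1) (h2 : CongMod (frattini E) (β e2) f2)
    (hz : br (⊤ : Subgroup E) f1 f2 = br (⊤ : Subgroup E) e1 e2) :
    (β ⁅e1, e2⁆)⁻¹ * ⁅e1, e2⁆ ∈ g3 E := by
  have h := autQ_br_cong (⊤ : Subgroup E) β (v := e1) (a := e2) (Subgroup.mem_top f2)
    (show _ ∈ commutator E from hD ▸ h1)
    (show _ ∈ ⁅(⊤ : Subgroup E), (⊤ : Subgroup E)⁆ from commutator_def (G := E) ▸ hD ▸ h2)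
  rw [hz] at h
  exact QuotientGroup.eq.1 h

/-- The class two case. -/
theorem pearl_of_central (hp : 5 ≤ p) (hN : IsPGroup p N) (H : TwoGen p E x e1 e2 y τ)
    (hD : frattini E = commutator E) (hne : ⁅e1, e2⁆ ≠ 1) (h3 : g3 E = ⊥)
    (hg2 : g2 E ≤ Subgroup.closure {⁅e1, e2⁆}) (hzp : ⁅e1, e2⁆ ^ p = 1)
    (hαz : MulAut.conjNormal x ⁅e1, e2⁆ = ⁅e1, e2⁆) : IsPearlGroup p E := by
  have hpr : p.Prime := Fact.out
  have hodd : Odd p := hpr.odd_of_ne_two (by omega)
  have hPE : IsPGroup p E := hN.to_subgroup E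
  have hgen := TwoGen.closure_eq H
  have hD2 : frattini E = g2 E := hD.trans (commutator_def (G := E))
  have hz2 : ⁅e1, e2⁆ ∈ g2 E :=
    Subgroup.commutator_mem_commutator (Subgroup.mem_top _) (Subgroup.mem_top _)
  have hcz : g2 E = Subgroup.zpowers ⁅e1, e2⁆ :=
    le_antisymm (hg2.trans (le_of_eq (Subgroup.zpowers_eq_closure _).symm))
      (Subgroup.zpowers_le.2 hz2)
  have hcard2 : Nat.card (g2 E) = p := by
    rw [hcz, Nat.card_zpowers, orderOf_eq_prime hzp hne]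
  have hcent : g2 E ≤ Subgroup.center E :=
    Subgroup.commutator_top_right_eq_bot_iff_le_center.1 h3
  have hidx : (g2 E).index = p ^ 2 := hD2 ▸ H.rank
  have hab : e1 * e2 ≠ e2 * e1 := fun h => hne (commutatorElement_eq_one_iff_mul_comm.2 h)
  have hcenter : Subgroup.center E = g2 E := center_eq_of_index hPE hcent hidx hab
  have hcomm : commutator E ≤ Subgroup.center E := commutator_def (G := E) ▸ hcent
  have hpow : ∀ v : E, v ^ p ∈ g2 E := fun v => hD2 ▸ PGroup.pow_mem_frattini hPE v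
  have hpc : ∀ v : E, v ^ p ∈ Subgroup.center E := fun v => hcent (hpow v)
  have hαD : ∀ d ∈ g2 E, MulAut.conjNormal x d = d := by
    intro d hd
    rw [hcz] at hd
    obtain ⟨i, rfl⟩ := Subgroup.mem_zpowers_iff.1 hd
    rw [map_zpow, hαz]
  have hDp : ∀ d ∈ g2 E, d ^ p = 1 := by
    intro d hd
    rw [hcz] at hd
    obtain ⟨i, rfl⟩ := Subgroup.mem_zpowers_iff.1 hd
    rw [← zpow_natCast, ← zpow_mul, mul_comm, zpow_mul, zpow_natCast, hzp, one_zpow]
  have hmul : ∀ a b : E, (a * b) ^ p = a ^ p * b ^ p := fun a b =>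
    PGroup.mul_pow_of_classTwo hcomm hodd (hpc a)
  have hcongp : ∀ a b : E, CongMod (frattini E) a b → a ^ p = b ^ p := by
    intro a b h
    rw [show a = b * (a⁻¹ * b)⁻¹ by group, hmul,
      hDp _ (Subgroup.inv_mem _ (hD2 ▸ h)), mul_one]
  have he1 : e1 ^ p = 1 := by
    have h := hcongp _ _ H.x2
    rw [← map_pow, hαD _ (hpow e2), hmul, left_eq_mul] at h
    exact h
  have he2 : e2 ^ p = 1 := by
    have h := hcongp _ _ H.y1
    rw [← map_pow, he1, map_one, hmul, he1, one_mul] at h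
    exact h.symm
  have hexp : ∀ v : E, v ^ p = 1 := fun v =>
    PGroup.pow_eq_one_of_mem_closure hcomm hodd
      (S := {e1, e2}) (by rintro s (rfl | rfl); exacts [he1, he2]) (hgen ▸ Subgroup.mem_top v)
  refine Or.inr ⟨PGroup.isExtraspecial_of_center hPE (hcenter ▸ hcard2)
    (fun h => hab (h.is_comm.comm e1 e2)) hcomm hpc, ?_, hexp⟩
  rw [← (g2 E).card_mul_index, hcard2, hidx]
  ring

set_option maxHeartbeats 1000000 in
/-- The class three case. -/
theorem layered (hp : 5 ≤ p) (hN : IsPGroup p N) (h3 : RankThree p N)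
    (H : TwoGen p E x e1 e2 y τ) (hD : frattini E = commutator E) (hz3 : ⁅e1, e2⁆ ∉ g3 E)
    (hg2 : g2 E ≤ Subgroup.closure {⁅e1, e2⁆} ⊔ g3 E)
    (hg3 : g3 E ≤ Subgroup.closure {⁅e1, ⁅e1, e2⁆⁆, ⁅e2, ⁅e1, e2⁆⁆} ⊔ g4 E)
    (hW1 : br (g2 E) e1 ⁅e1, e2⁆ ≠ 1) :
    ∃ L : Subgroup E, L ≤ frattini E ∧ L = Subgroup.center E ∧ Nat.card L = p ^ 2 ∧
      Nat.card E = p ^ 5 ∧ (∃ l ∈ L, x * (l : N) * x⁻¹ ≠ (l : N)) ∧
      ∀ X : Subgroup N, X.Normal → X ≤ E → Nat.card X = p ^ 2 → X = L.map E.subtype := by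
  classical
  have hpr : p.Prime := Fact.out
  have hodd : Odd p := hpr.odd_of_ne_two (by omega)
  have hPE : IsPGroup p E := hN.to_subgroup E
  have hD2 : frattini E = g2 E := hD.trans (commutator_def (G := E))
  have hidx : (g2 E).index = p ^ 2 := hD2 ▸ H.rank
  have hgen := TwoGen.closure_eq H
  have hpowc : ∀ v : E, v ^ p ∈ commutator E := fun v => hD ▸ PGroup.pow_mem_frattini hPE v
  obtain ⟨z, hz⟩ : ∃ z, z = ⁅e1, e2⁆ := ⟨_, rfl⟩
  rw [← hz] at hz3 hg2 hg3 hW1
  obtain ⟨w, hw⟩ : ∃ w, w = ⁅e1, z⁆ := ⟨_, rfl⟩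
  obtain ⟨w', hw'⟩ : ∃ w', w' = ⁅e2, z⁆ := ⟨_, rfl⟩
  rw [← hw, ← hw'] at hg3
  have hz2 : z ∈ g2 E :=
    hz ▸ Subgroup.commutator_mem_commutator (Subgroup.mem_top _) (Subgroup.mem_top _)
  have hw3 : w ∈ g3 E := hw ▸ mem_step hz2
  have hw'3 : w' ∈ g3 E := hw' ▸ mem_step hz2
  have hle32 : g3 E ≤ g2 E := Subgroup.commutator_le_left _ _
  have hle43 : g4 E ≤ g3 E := Subgroup.commutator_le_left _ _
  have hle54 : g5 E ≤ g4 E := Subgroup.commutator_le_left _ _
  set α : MulAut E := MulAut.conjNormal x with hα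
  -- congruences of the images of `z`
  have hzα : (α z)⁻¹ * z ∈ g3 E := by
    subst hz
    refine z_cong hD H.x1 H.x2 ?_
    rw [br_mul_right _ _ (Subgroup.mem_top e1), br_self, mul_one]
  have hzy : (y z)⁻¹ * z ∈ g3 E := by
    subst hz
    refine z_cong hD H.y1 H.y2 ?_
    rw [br_mul_left (Subgroup.mem_top e2), br_self, mul_one]
  have hzτ : (τ z)⁻¹ * z ∈ g3 E := by
    subst hz
    refine z_cong hD H.τ1 H.τ2 ?_
    rw [br_inv_left (Subgroup.mem_top _), br_inv_right _ (Subgroup.mem_top e2), inv_inv]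
  -- the layer `g3 / g4`
  obtain ⟨π4, hπ4⟩ : ∃ π : E →* E ⧸ lay (g2 E), π = QuotientGroup.mk' (lay (g2 E)) := ⟨_, rfl⟩
  have hbw : br (g2 E) e1 z = π4 w := by rw [hπ4, hw]; rfl
  have hbw' : br (g2 E) e2 z = π4 w' := by rw [hπ4, hw']; rfl
  have hπ4eq : ∀ {a b : E}, π4 a = π4 b → a⁻¹ * b ∈ g4 E := fun h =>
    QuotientGroup.eq.1 (by rw [hπ4] at h; exact h)
  have hπ41 : ∀ {a : E}, a ∈ g4 E ↔ π4 a = 1 := fun {a} => by
    rw [hπ4]; exact (QuotientGroup.eq_one_iff a).symm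
  have h4 : ∀ (β : MulAut E) {e f : E}, CongMod (frattini E) (β e) f → (β z)⁻¹ * z ∈ g3 E →
      π4 (β ⁅e, z⁆) = br (g2 E) f z := by
    intro β e f he hβ
    rw [hπ4, ← autQ_mk (g2 E) β ⁅e, z⁆]
    exact autQ_br_cong (g2 E) β (v := e) (a := z) hz2 (show _ ∈ commutator E from hD ▸ he) hβ
  have hαw : π4 (α w) = π4 w := by rw [hw, h4 α H.x1 hzα, hbw, hw]
  have hαw' : π4 (α w') = π4 (w' * w) := by
    rw [hw', h4 α H.x2 hzα, br_mul_left hz2, hbw', hbw, map_mul, hw']
  have hyw : π4 (y w) = π4 (w * w') := by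
    rw [hw, h4 y H.y1 hzy, br_mul_left hz2, hbw', hbw, map_mul, hw]
  have hyw' : π4 (y w') = π4 w' := by rw [hw', h4 y H.y2 hzy, hbw', hw']
  have hτw : π4 (τ w) = π4 w⁻¹ := by
    rw [hw, h4 τ H.τ1 hzτ, br_inv_left hz2, hbw, map_inv, hw]
  have hτw' : π4 (τ w') = π4 w'⁻¹ := by
    rw [hw', h4 τ H.τ2 hzτ, br_inv_left hz2, hbw', map_inv, hw']
  have hwp : w ^ p ∈ g4 E := by
    rw [hπ41, map_pow, ← hbw]; exact br_pow_eq_one hz2 (hpowc e1)
  have hw'p : w' ^ p ∈ g4 E := by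
    rw [hπ41, map_pow, ← hbw']; exact br_pow_eq_one hz2 (hpowc e2)
  have hw4 : w ∉ g4 E := fun h => hW1 (by rw [hbw]; exact hπ41.1 h)
  -- orders of the layers
  set M := g4 E ⊔ Subgroup.zpowers w with hM
  have hM3 : M ≤ g3 E := sup_le hle43 (Subgroup.zpowers_le.2 hw3)
  haveI hMn : M.Normal := normal_between (A := g2 E) le_sup_left hM3
  have hw'M : w' ∉ M := by
    intro h
    rw [hM, Subgroup.mem_sup_of_normal_left] at h
    obtain ⟨g, hg, _, ⟨i, rfl⟩, he⟩ := h
    have e1' : π4 w' = π4 w ^ i := by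
      rw [← he, map_mul, hπ41.1 hg, one_mul, map_zpow]
    have h' := hαw'
    rw [hπ4, ← autQ_mk (g2 E) α w', ← hπ4, e1', map_zpow, hπ4, autQ_mk (g2 E) α w, ← hπ4, hαw,
      map_mul, e1', left_eq_mul] at h'
    exact hw4 (hπ41.2 h')
  have hg3M : g3 E ≤ M ⊔ Subgroup.zpowers w' := by
    refine hg3.trans (sup_le ((Subgroup.closure_le _).2 ?_) (le_sup_left.trans le_sup_left))
    rintro a (rfl | rfl)
    · exact Subgroup.mem_sup_left (Subgroup.mem_sup_right (Subgroup.mem_zpowers _))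
    · exact Subgroup.mem_sup_right (Subgroup.mem_zpowers _)
  have h43 : (g4 E).relIndex (g3 E) = p ^ 2 := by
    have hm := Subgroup.relIndex_mul_relIndex (g4 E) M (g3 E) le_sup_left hM3
    have h1 : p ≤ (g4 E).relIndex M := Jordan.le_relIndex_of_lt hPE
      (lt_of_le_of_ne le_sup_left fun h => hw4 (h ▸ Subgroup.mem_sup_right (Subgroup.mem_zpowers w)))
    have h2 : p ≤ M.relIndex (g3 E) := Jordan.le_relIndex_of_lt hPE
      (lt_of_le_of_ne hM3 fun h => hw'M (h ▸ hw'3))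
    refine le_antisymm ?_ (by rw [← hm, sq]; exact Nat.mul_le_mul h1 h2)
    have hc : Nat.card (g3 E) ≤ Nat.card (g4 E) * p * p :=
      calc Nat.card (g3 E) ≤ Nat.card ↥(M ⊔ Subgroup.zpowers w') := Subgroup.card_le_of_le hg3M
        _ ≤ Nat.card M * p := PGroup.card_sup_zpowers_le hpr.pos (le_sup_left (a := g4 E) hw'p)
        _ ≤ _ := Nat.mul_le_mul_right p (PGroup.card_sup_zpowers_le hpr.pos hwp)
    have h := Subgroup.relIndex_mul_relIndex ⊥ (g4 E) (g3 E) bot_le hle43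
    rw [Subgroup.relIndex_bot_left, Subgroup.relIndex_bot_left] at h
    rw [← h, mul_assoc, ← sq] at hc
    exact Nat.le_of_mul_le_mul_left hc Nat.card_pos
  -- the layer `g4 / g5` is trivial
  obtain ⟨π5, hπ5⟩ : ∃ π : E →* E ⧸ lay (g3 E), π = QuotientGroup.mk' (lay (g3 E)) := ⟨_, rfl⟩
  have hπ51 : ∀ {a : E}, a ∈ g5 E ↔ π5 a = 1 := fun {a} => by
    rw [hπ5]; exact (QuotientGroup.eq_one_iff a).symm
  have hbr5 : ∀ a b : E, br (g3 E) a b = π5 ⁅a, b⁆ := fun a b => by rw [hπ5]; rfl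
  set T : Set E := {⁅e1, w⁆, ⁅e1, w'⁆, ⁅e2, w⁆, ⁅e2, w'⁆} with hT
  have hS3 : ∀ s ∈ ({w, w'} : Set E), s ∈ g3 E := by rintro s (rfl | rfl); exacts [hw3, hw'3]
  have hg4 : g4 E ≤ Subgroup.closure T ⊔ g5 E := by
    refine step_le (A := g3 E) hgen hS3 hg3 ?_
    rintro s (rfl | rfl) <;> exact ⟨Subgroup.mem_map_of_mem _ (Subgroup.subset_closure (by simp [hT])),
      Subgroup.mem_map_of_mem _ (Subgroup.subset_closure (by simp [hT]))⟩
  have hTbr : ∀ t ∈ T, ∃ e ∈ ({e1, e2} : Set E), ∃ v ∈ ({w, w'} : Set E), t = ⁅e, v⁆ := by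
    rintro t (rfl | rfl | rfl | rfl)
    exacts [⟨e1, by simp, w, by simp, rfl⟩, ⟨e1, by simp, w', by simp, rfl⟩,
      ⟨e2, by simp, w, by simp, rfl⟩, ⟨e2, by simp, w', by simp, rfl⟩]
  have hT4 : ∀ t ∈ T, t ∈ g4 E := fun t ht => by
    obtain ⟨e, -, v, hv, rfl⟩ := hTbr t ht
    exact mem_step (hS3 v hv)
  have h4exp : ∀ a ∈ g4 E, π5 a ^ p = 1 := by
    refine pow_eq_one_of_gen π5 hg4 hT4 hle54 (fun a ha b _ => ?_) (fun t ht => ?_) fun m hm => ?_
    · rw [hπ5]; exact (Subgroup.mem_center_iff.1 (step_central ha) _).symm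
    · obtain ⟨e, -, v, hv, rfl⟩ := hTbr t ht
      rw [← hbr5]; exact br_pow_eq_one (hS3 v hv) (hpowc e)
    · rw [hπ51.1 hm, one_pow]
  have hc5 : ∀ a ∈ g3 E, ∀ b ∈ g2 E, Commute (π5 b) (π5 a) := by
    intro a ha b hb
    refine commutatorElement_eq_one_iff_mul_comm.1 ?_
    rw [← map_commutatorElement, ← hbr5]
    exact br_left_commutator (commutator_def (G := E) ▸ hb) ha
  have hτ4 : ∀ a ∈ g4 E, autQ (g3 E) τ (π5 a) = π5 a := by
    have hle : g4 E ≤ ((autQ (g3 E) τ).comp π5).eqLocus π5 := by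
      refine hg4.trans (sup_le ((Subgroup.closure_le _).2 fun t ht => ?_) fun m hm => ?_)
      · obtain ⟨e, he, v, hv, rfl⟩ := hTbr t ht
        show autQ (g3 E) τ (π5 ⁅e, v⁆) = π5 ⁅e, v⁆
        rw [← hbr5]
        have h1 : CongMod (frattini E) (τ e) e⁻¹ := by
          rcases he with rfl | rfl; exacts [H.τ1, H.τ2]
        have h2 : (τ v)⁻¹ * v⁻¹ ∈ g4 E := by
          rcases hv with rfl | rfl; exacts [hπ4eq hτw, hπ4eq hτw']
        rw [autQ_br_cong (g3 E) τ (inv_mem (hS3 v hv)) (show _ ∈ commutator E from hD ▸ h1) h2,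
          br_inv_left (inv_mem (hS3 v hv)), br_inv_right _ (hS3 v hv), inv_inv]
      · show autQ (g3 E) τ (π5 m) = π5 m
        rw [hπ51.1 hm, map_one]
    exact fun a ha => hle ha
  have h3exp : ∀ a ∈ g3 E, π5 a ^ p = 1 := by
    refine pow_eq_one_of_gen π5 hg3 hS3 hle43 (fun a ha b hb => hc5 b hb a (hle32 ha)) ?_ h4exp
    intro v hv
    have hvp : v ^ p ∈ g4 E := by rcases hv with rfl | rfl; exacts [hwp, hw'p]
    have h2 : (τ v)⁻¹ * v⁻¹ ∈ g4 E := by
      rcases hv with rfl | rfl; exacts [hπ4eq hτw, hπ4eq hτw']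
    have hc : Commute (π5 v⁻¹) (π5 ((τ v)⁻¹ * v⁻¹)⁻¹) :=
      hc5 _ (hle43 (inv_mem h2)) _ (hle32 (inv_mem (hS3 v hv)))
    have e : π5 (τ v) = π5 v⁻¹ * π5 ((τ v)⁻¹ * v⁻¹)⁻¹ := by
      rw [← map_mul]; congr 1; group
    have h5 := hτ4 _ hvp
    rw [map_pow, map_pow, hπ5, autQ_mk, ← hπ5, e, hc.mul_pow, h4exp _ (inv_mem h2), mul_one,
      map_inv, inv_pow, inv_eq_iff_mul_eq_one] at h5
    exact eq_one_of_sq hodd h5 (by rw [← map_pow]; exact h4exp _ hvp)
  have h54 : (g5 E).relIndex (g4 E) ≤ p := by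
    have h := rankThree_subgroup h3 E (g3 E) (g5 E) (hle54.trans hle43)
      (fun a ha => hπ51.2 (by rw [map_pow]; exact h3exp a ha))
      (fun a ha b hb => hπ51.2 (by
        rw [← commutatorElement_def, map_commutatorElement, commutatorElement_eq_one_iff_mul_comm]
        exact hc5 b hb a (hle32 ha)))
    rw [← Subgroup.relIndex_mul_relIndex (g5 E) (g4 E) (g3 E) hle54 hle43, h43] at h
    exact Nat.le_of_mul_le_mul_right (by rw [← pow_succ']; exact h) (pow_pos hpr.pos 2)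
  have hα5 : ∀ g ∈ g4 E, π5 (α g) = π5 g := by
    intro g hg
    haveI hAn : ((g4 E).map E.subtype).Normal := inferInstance
    haveI hBn : ((g5 E).map E.subtype).Normal := inferInstance
    have hle := Jordan.commutator_le_of_relIndex hN
      (Subgroup.map_mono (f := E.subtype) hle54)
      (by rw [Subgroup.relIndex_map_map_of_injective _ _ E.subtype_injective]; exact h54)
    obtain ⟨b, hb, hbe⟩ := hle (Subgroup.commutator_mem_commutator
      (Subgroup.mem_map_of_mem E.subtype hg) (Subgroup.mem_top x))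
    have hbb : b = g * (α g)⁻¹ := by
      refine E.subtype_injective (hbe.trans ?_)
      rw [hα, Subgroup.coe_subtype, Subgroup.coe_mul, Subgroup.coe_inv, MulAut.conjNormal_apply,
        commutatorElement_def]
      group
    have := hπ51.1 (hbb ▸ hb)
    rw [map_mul, map_inv, mul_inv_eq_one] at this
    exact this.symm
  have h5 : ∀ (β : MulAut E) {e f v v' : E}, CongMod (frattini E) (β e) f → v' ∈ g3 E →
      π4 (β v) = π4 v' → π5 (β ⁅e, v⁆) = br (g3 E) f v' := by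
    intro β e f v v' he hv' hv
    rw [hπ5, ← autQ_mk (g3 E) β ⁅e, v⁆]
    exact autQ_br_cong (g3 E) β hv' (show _ ∈ commutator E from hD ▸ he) (hπ4eq hv)
  have hww' : w' * w ∈ g3 E := mul_mem hw'3 hw3
  have b11 : br (g3 E) e1 w = 1 := by
    have h := h5 α H.x1 hww' hαw'
    rw [hα5 _ (mem_step hw'3), br_mul_right _ _ hw3, ← hbr5, left_eq_mul] at h
    exact h
  have bsum : br (g3 E) e2 w * br (g3 E) e1 w' = 1 := by
    have h := h5 α H.x2 hww' hαw'
    rw [hα5 _ (mem_step hw'3), br_mul_right _ _ hw3, br_mul_left hw'3, br_mul_left hw3, b11,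
      mul_one, ← hbr5, mul_assoc, left_eq_mul] at h
    rw [(Subgroup.mem_center_iff.1 (br_central hw'3 e1) _)]
    exact h
  have bsymm : br (g3 E) e1 w' = br (g3 E) e2 w := by
    have cj : ∀ a b : E, π5 a * π5 b * (π5 a)⁻¹ = π5 ⁅a, b⁆ * π5 b := fun a b => by
      rw [map_commutatorElement, commutatorElement_def]; group
    have hAB : π5 e1 * π5 e2 = π5 z * (π5 e2 * π5 e1) := by
      rw [hz, map_commutatorElement, commutatorElement_def]; group
    have l1 : π5 e1 * (π5 e2 * π5 z * (π5 e2)⁻¹) * (π5 e1)⁻¹ =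
        π5 ⁅e1, w'⁆ * π5 w' * (π5 w * π5 z) := by
      rw [cj e2 z, ← hw']
      calc π5 e1 * (π5 w' * π5 z) * (π5 e1)⁻¹
          = (π5 e1 * π5 w' * (π5 e1)⁻¹) * (π5 e1 * π5 z * (π5 e1)⁻¹) := by group
        _ = _ := by rw [cj e1 w', cj e1 z, ← hw]
    have l2 : π5 e2 * (π5 e1 * π5 z * (π5 e1)⁻¹) * (π5 e2)⁻¹ =
        π5 ⁅e2, w⁆ * π5 w * (π5 w' * π5 z) := by
      rw [cj e1 z, ← hw]
      calc π5 e2 * (π5 w * π5 z) * (π5 e2)⁻¹
          = (π5 e2 * π5 w * (π5 e2)⁻¹) * (π5 e2 * π5 z * (π5 e2)⁻¹) := by group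
        _ = _ := by rw [cj e2 w, cj e2 z, ← hw']
    have hcz : ∀ g ∈ g3 E, Commute (π5 z) (π5 g) := fun g hg => hc5 g hg z hz2
    have hzc : Commute (π5 z) (π5 ⁅e2, w⁆ * π5 w * (π5 w' * π5 z)) :=
      ((hcz _ (hle43 (mem_step hw3))).mul_right (hcz _ hw3)).mul_right
        ((hcz _ hw'3).mul_right (Commute.refl _))
    have hfin : π5 ⁅e1, w'⁆ * π5 w' * (π5 w * π5 z) = π5 ⁅e2, w⁆ * π5 w * (π5 w' * π5 z) := by
      rw [← l1, show π5 e1 * (π5 e2 * π5 z * (π5 e2)⁻¹) * (π5 e1)⁻¹ =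
        (π5 e1 * π5 e2) * π5 z * (π5 e1 * π5 e2)⁻¹ by group, hAB,
        show π5 z * (π5 e2 * π5 e1) * π5 z * (π5 z * (π5 e2 * π5 e1))⁻¹ =
        π5 z * (π5 e2 * (π5 e1 * π5 z * (π5 e1)⁻¹) * (π5 e2)⁻¹) * (π5 z)⁻¹ by group, l2,
        hzc.eq, mul_inv_cancel_right]
    have hcw : Commute (π5 w) (π5 w') := hc5 _ hw'3 _ (hle32 hw3)
    have h2 : π5 ⁅e1, w'⁆ * (π5 w' * π5 w) * π5 z = π5 ⁅e2, w⁆ * (π5 w' * π5 w) * π5 z :=
      calc π5 ⁅e1, w'⁆ * (π5 w' * π5 w) * π5 z = π5 ⁅e1, w'⁆ * π5 w' * (π5 w * π5 z) := by group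
        _ = π5 ⁅e2, w⁆ * π5 w * (π5 w' * π5 z) := hfin
        _ = π5 ⁅e2, w⁆ * (π5 w * π5 w') * π5 z := by group
        _ = _ := by rw [hcw.eq]
    rw [hbr5, hbr5]
    exact mul_right_cancel (mul_right_cancel h2)
  have b12 : br (g3 E) e1 w' = 1 := by
    rw [← bsymm] at bsum
    exact eq_one_of_sq hodd bsum (br_pow_eq_one hw'3 (hpowc e1))
  have b21 : br (g3 E) e2 w = 1 := bsymm ▸ b12
  have b22 : br (g3 E) e2 w' = 1 := by
    have h := h5 y H.y1 (mul_mem hw3 hw'3) hyw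
    rw [hπ5, ← autQ_mk (g3 E) y, ← hπ5, ← hbr5, b11, map_one, br_mul_right _ _ hw'3,
      br_mul_left hw3, br_mul_left hw'3, b11, b21, b12, one_mul, one_mul, one_mul] at h
    exact h.symm
  have hg45 : g4 E ≤ g5 E := by
    refine hg4.trans (sup_le ((Subgroup.closure_le _).2 ?_) le_rfl)
    rintro t (rfl | rfl | rfl | rfl) <;> rw [SetLike.mem_coe, hπ51, ← hbr5]
    exacts [b11, b12, b21, b22]
  have hg4bot : g4 E = ⊥ := eq_bot_of_le_step hPE hg45
  -- now `g4 = ⊥`
  have heq4 : ∀ {a b : E}, π4 a = π4 b → a = b := fun h => by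
    have := hπ4eq h
    rw [hg4bot, Subgroup.mem_bot, inv_mul_eq_one] at this
    exact this
  have hcardL : Nat.card (g3 E) = p ^ 2 := by
    rw [← Subgroup.relIndex_bot_left (g3 E), ← hg4bot, h43]
  have hLc : g3 E ≤ Subgroup.center E :=
    Subgroup.commutator_top_right_eq_bot_iff_le_center.1 hg4bot
  have hcent2 : Subgroup.center E ≤ g2 E := by
    intro c hc
    have hker : g2 E ≤ (brL (A := g2 E) hz2).ker := fun d hd =>
      br_left_commutator (commutator_def (G := E) ▸ hd) hz2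
    have hrange : (g3 E).map π4 ≤ (brL (A := g2 E) hz2).range := by
      refine (Subgroup.map_mono hg3).trans ?_
      rw [Subgroup.map_sup, sup_le_iff, MonoidHom.map_closure, Subgroup.closure_le]
      refine ⟨?_, ?_⟩
      · rintro _ ⟨v, (rfl | rfl), rfl⟩
        exacts [⟨e1, hbw⟩, ⟨e2, hbw'⟩]
      · rintro _ ⟨m, hm, rfl⟩
        rw [hπ41.1 hm]; exact one_mem _
    have hcard : Nat.card ((g3 E).map π4) = p ^ 2 := by
      rw [← Subgroup.relIndex_ker, hπ4, QuotientGroup.ker_mk']; exact h43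
    have hidx2 : p ^ 2 ≤ (brL (A := g2 E) hz2).ker.index := by
      rw [Subgroup.index_ker, ← hcard]; exact Subgroup.card_le_of_le hrange
    have hkeq : g2 E = (brL (A := g2 E) hz2).ker := by
      refine Jordan.eq_of_relIndex_one hker (le_antisymm ?_ (Nat.one_le_iff_ne_zero.2
        Subgroup.index_ne_zero_of_finite))
      have := Subgroup.relIndex_mul_index hker
      refine Nat.le_of_mul_le_mul_right ?_ (lt_of_lt_of_le (pow_pos hpr.pos 2) hidx2)
      rw [this, hidx, one_mul]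
      exact hidx2
    rw [hkeq, MonoidHom.mem_ker, brL_apply, br,
      commutatorElement_eq_one_iff_mul_comm.2 (Subgroup.mem_center_iff.1 hc z).symm, map_one]
  have hzsplit : ∀ d ∈ g2 E, ∃ i : ℤ, ∃ u ∈ g3 E, d = u * z ^ i := by
    intro d hd
    have h := hg2 hd
    rw [← Subgroup.zpowers_eq_closure, sup_comm, Subgroup.mem_sup_of_normal_left] at h
    obtain ⟨u, hu, _, ⟨i, rfl⟩, he⟩ := h
    exact ⟨i, u, hu, he.symm⟩
  have hzp : z ^ p ∈ g3 E := by
    have h := br_pow_eq_one (A := (⊤ : Subgroup E)) (Subgroup.mem_top e2) (hpowc e1)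
    rw [br, ← map_pow, ← hz] at h
    exact (QuotientGroup.eq_one_iff _).1 h
  have hW : π4 w ≠ 1 := fun h => hw4 (hπ41.2 h)
  have hkey : ∀ {i : ℤ} {v : E}, v ∈ g3 E → π4 w ^ i = 1 → v * z ^ i ∈ g3 E := by
    intro i v hv h
    refine mul_mem hv ?_
    have hdvd : (p : ℤ) ∣ i := by
      by_contra hn
      exact hW (Jordan.eq_one_of_zpow hn (by rw [← map_pow]; exact hπ41.1 hwp) h)
    obtain ⟨j, rfl⟩ := hdvd
    rw [zpow_mul, zpow_natCast]
    exact zpow_mem hzp j
  have hcenter : Subgroup.center E = g3 E := by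
    refine le_antisymm (fun c hc => ?_) hLc
    obtain ⟨i, u, hu, rfl⟩ := hzsplit c (hcent2 hc)
    refine hkey hu ?_
    have h1 : br (g2 E) e1 (u * z ^ i) = 1 := by
      rw [br, commutatorElement_eq_one_iff_mul_comm.2 (Subgroup.mem_center_iff.1 hc e1), map_one]
    rwa [br_mul_right _ _ (zpow_mem hz2 i), br_right_step _ hu, one_mul, br_zpow_right _ hz2,
      hbw] at h1
  have hcard2 : (g3 E).relIndex (g2 E) = p := by
    refine le_antisymm ?_ (Jordan.le_relIndex_of_lt hPE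
      (lt_of_le_of_ne hle32 fun h => hz3 (h ▸ hz2)))
    have hc : Nat.card (g2 E) ≤ Nat.card (g3 E) * p := by
      refine le_trans (Subgroup.card_le_of_le (hg2.trans ?_)) (PGroup.card_sup_zpowers_le hpr.pos hzp)
      rw [← Subgroup.zpowers_eq_closure, sup_comm]
    have h := Subgroup.relIndex_mul_relIndex ⊥ (g3 E) (g2 E) bot_le hle32
    rw [Subgroup.relIndex_bot_left, Subgroup.relIndex_bot_left] at h
    rw [← h] at hc
    exact Nat.le_of_mul_le_mul_left hc Nat.card_pos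
  have hcardE : Nat.card E = p ^ 5 := by
    rw [← (g3 E).card_mul_index, ← Subgroup.relIndex_mul_index hle32, hcard2, hidx, hcardL]
    ring
  have hαw'ex : α w' = w' * w := heq4 hαw'
  refine ⟨g3 E, hD2 ▸ hle32, hcenter.symm, hcardL, hcardE, ⟨w', hw'3, ?_⟩, ?_⟩
  · intro h
    have h' : α w' = w' := Subtype.ext (by rw [hα, MulAut.conjNormal_apply]; exact h)
    rw [hαw'ex, mul_eq_left] at h'
    exact hw4 (h' ▸ one_mem _)
  · intro X hXn hXE hXc
    haveI := hXn
    refine Subgroup.eq_of_le_of_card_ge ?_ (by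
      rw [hXc, Subgroup.card_map_of_injective E.subtype_injective, hcardL])
    -- `[X, N]` is central
    have hXne : X ≠ ⊥ := fun h => by
      rw [h, Subgroup.card_bot] at hXc
      exact (Nat.one_lt_pow (by norm_num) hpr.one_lt).ne hXc
    have hT2 : ⁅X, (⊤ : Subgroup N)⁆ ≤ Subgroup.center N := by
      have hlt := PGroup.commutator_top_lt hN hXne
      obtain ⟨k, hk⟩ := (hN.to_subgroup ⁅X, (⊤ : Subgroup N)⁆).exists_card_eq
      have hk2 : k < 2 := by
        by_contra hk2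
        refine hlt.ne (Subgroup.eq_of_le_of_card_ge hlt.le ?_)
        rw [hXc, hk]
        exact Nat.pow_le_pow_right hpr.pos (not_lt.1 hk2)
      interval_cases k
      · rw [pow_zero] at hk
        rw [Subgroup.eq_bot_of_card_eq _ hk]
        exact bot_le
      · exact PGroup.le_center_of_card_eq hN (by rw [hk, pow_one])
    intro d0 hd0
    obtain ⟨d, rfl⟩ : ∃ d : E, (d : N) = d0 := ⟨⟨d0, hXE hd0⟩, rfl⟩
    refine ⟨d, ?_, rfl⟩
    have hfix : ∀ v : E, ⁅v, d⁆ ∈ g3 E ∧ α ⁅v, d⁆ = ⁅v, d⁆ := by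
      intro v
      have hmem : ((⁅v, d⁆ : E) : N) ∈ Subgroup.center N := by
        refine hT2 ?_
        rw [Subgroup.commutator_comm, show ((⁅v, d⁆ : E) : N) = ⁅(v : N), (d : N)⁆ from
          map_commutatorElement E.subtype v d]
        exact Subgroup.commutator_mem_commutator (Subgroup.mem_top _) hd0
      refine ⟨hcenter ▸ Subgroup.mem_center_iff.2 fun g =>
        Subtype.ext (Subgroup.mem_center_iff.1 hmem g), Subtype.ext ?_⟩
      rw [hα, MulAut.conjNormal_apply, Subgroup.mem_center_iff.1 hmem x, mul_inv_cancel_right]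
    have hd2 : d ∈ g2 E := by
      set π3 := QuotientGroup.mk' (lay (⊤ : Subgroup E)) with hπ3
      have hK : (g2 E).map π3 ≤ Subgroup.center (E ⧸ lay (⊤ : Subgroup E)) := by
        rintro _ ⟨u, hu, rfl⟩
        exact step_central hu
      have hKi : ((g2 E).map π3).index = p ^ 2 := by
        rw [Subgroup.index_map_eq _ (QuotientGroup.mk'_surjective _)
          (by rw [QuotientGroup.ker_mk']; exact hle32), hidx]
      have hne : π3 e1 * π3 e2 ≠ π3 e2 * π3 e1 := fun h => hz3 (by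
        rw [← commutatorElement_eq_one_iff_mul_comm, ← map_commutatorElement, ← hz] at h
        exact (QuotientGroup.eq_one_iff _).1 h)
      have hceq := center_eq_of_index (hPE.to_quotient _) hK hKi hne
      have hdc : π3 d ∈ Subgroup.center (E ⧸ lay (⊤ : Subgroup E)) := by
        refine Subgroup.mem_center_iff.2 fun g => ?_
        obtain ⟨v, rfl⟩ := QuotientGroup.mk'_surjective _ g
        rw [← commutatorElement_eq_one_iff_mul_comm, ← map_commutatorElement]
        exact (QuotientGroup.eq_one_iff _).2 (hfix v).1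
      rw [hceq, ← Subgroup.mem_comap, Subgroup.comap_map_eq, QuotientGroup.ker_mk',
        sup_eq_left.2 (show lay (⊤ : Subgroup E) ≤ g2 E from hle32)] at hdc
      exact hdc
    obtain ⟨i, u, hu, rfl⟩ := hzsplit d hd2
    refine hkey hu ?_
    have h1 := congrArg π4 (hfix e2).2
    have hb : π4 ⁅e2, u * z ^ i⁆ = π4 w' ^ i := by
      show _ = _
      rw [show π4 ⁅e2, u * z ^ i⁆ = br (g2 E) e2 (u * z ^ i) by rw [hπ4]; rfl,
        br_mul_right _ _ (zpow_mem hz2 i), br_right_step _ hu, one_mul, br_zpow_right _ hz2, hbw']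
    rw [hπ4, ← autQ_mk (g2 E) α, ← hπ4, hb, map_zpow, hπ4, autQ_mk (g2 E) α, ← hπ4, hαw',
      map_mul] at h1
    have hcw : Commute (π4 w') (π4 w) := by
      rw [← hbw]; exact Subgroup.mem_center_iff.1 (br_central hz2 e1) _
    rwa [hcw.mul_zpow, mul_eq_left] at h1

end

end Layer

open Layer in
theorem two_gen_layers {p : ℕ} [Fact p.Prime] (hp : 5 ≤ p) {N : Type u} [Group N] [Finite N]
    (hN : IsPGroup p N) (h3 : RankThree p N) {E : Subgroup N} [E.Normal] {x : N} {e1 e2 : E}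
    {y τ : MulAut E} (H : TwoGen p E x e1 e2 y τ) :
    IsPearlGroup p E ∨
      ∃ L : Subgroup E, L ≤ frattini E ∧ L = Subgroup.center E ∧ Nat.card L = p ^ 2 ∧
        Nat.card E = p ^ 5 ∧ (∃ l ∈ L, x * (l : N) * x⁻¹ ≠ (l : N)) ∧
        ∀ X : Subgroup N, X.Normal → X ≤ E → Nat.card X = p ^ 2 → X = L.map E.subtype := by
  have hPE : IsPGroup p E := hN.to_subgroup E
  have hgen := TwoGen.closure_eq H
  have hD := TwoGen.frattini_eq hp hN H
  have hD2 : frattini E = g2 E := hD.trans (commutator_def (G := E))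
  have hzmem : ⁅e1, e2⁆ ∈ g2 E :=
    Subgroup.commutator_mem_commutator (Subgroup.mem_top _) (Subgroup.mem_top _)
  have hg2 : g2 E ≤ Subgroup.closure {⁅e1, e2⁆} ⊔ g3 E := by
    refine step_le (A := (⊤ : Subgroup E)) hgen (S := {e1, e2}) (fun s _ => Subgroup.mem_top s)
      (le_sup_of_le_left hgen.ge) ?_
    have hz : br (⊤ : Subgroup E) e1 e2 ∈
        (Subgroup.closure {⁅e1, e2⁆}).map (QuotientGroup.mk' (lay (⊤ : Subgroup E))) :=
      Subgroup.mem_map_of_mem _ (Subgroup.subset_closure rfl)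
    rintro s (rfl | rfl)
    · exact ⟨by rw [br_self]; exact one_mem _, by rw [br_swap]; exact inv_mem hz⟩
    · exact ⟨hz, by rw [br_self]; exact one_mem _⟩
  by_cases hz3 : ⁅e1, e2⁆ ∈ g3 E
  · have h2 : g2 E = ⊥ := eq_bot_of_le_step hPE
      (hg2.trans (sup_le ((Subgroup.closure_le _).2 (by rintro _ rfl; exact hz3)) le_rfl))
    refine Or.inl (Or.inl ⟨fun a b => ?_, fun a => ?_, ?_⟩)
    · rw [← commutatorElement_eq_one_iff_mul_comm, ← Subgroup.mem_bot, ← h2]
      exact Subgroup.commutator_mem_commutator (Subgroup.mem_top _) (Subgroup.mem_top _)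
    · rw [← Subgroup.mem_bot, ← h2, ← hD2]
      exact PGroup.pow_mem_frattini hPE a
    · rw [← Subgroup.index_bot, ← h2, ← hD2, H.rank]
  have hg3 : g3 E ≤ Subgroup.closure {⁅e1, ⁅e1, e2⁆⁆, ⁅e2, ⁅e1, e2⁆⁆} ⊔ g4 E := by
    refine step_le (A := g2 E) hgen (by rintro _ rfl; exact hzmem) hg2 ?_
    rintro _ rfl
    exact ⟨Subgroup.mem_map_of_mem _ (Subgroup.subset_closure (by simp)),
      Subgroup.mem_map_of_mem _ (Subgroup.subset_closure (by simp))⟩
  by_cases hW : br (g2 E) e1 ⁅e1, e2⁆ = 1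
  · have hyz : (y ⁅e1, e2⁆)⁻¹ * ⁅e1, e2⁆ ∈ g3 E := by
      refine z_cong hD H.y1 H.y2 ?_
      rw [br_mul_left (Subgroup.mem_top e2), br_self, mul_one]
    have hW' : br (g2 E) e2 ⁅e1, e2⁆ = 1 := by
      have h := autQ_br_cong (g2 E) y (v := e1) (a := ⁅e1, e2⁆) hzmem
        (show _ ∈ commutator E from hD ▸ H.y1) hyz
      rwa [hW, map_one, br_mul_left hzmem, hW, one_mul, eq_comm] at h
    have hg34 : g3 E ≤ g4 E := by
      refine hg3.trans (sup_le ((Subgroup.closure_le _).2 ?_) le_rfl)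
      rintro t (rfl | rfl)
      exacts [(QuotientGroup.eq_one_iff _).1 hW, (QuotientGroup.eq_one_iff _).1 hW']
    have h3b : g3 E = ⊥ := eq_bot_of_le_step hPE hg34
    refine Or.inl (pearl_of_central hp hN H hD ?_ h3b ?_ ?_ ?_)
    · intro h; exact hz3 (h ▸ one_mem _)
    · simpa [h3b] using hg2
    · have h := br_pow_eq_one (A := (⊤ : Subgroup E)) (v := e1) (n := p) (Subgroup.mem_top e2)
        (hD ▸ PGroup.pow_mem_frattini hPE e1)
      rw [br, ← map_pow] at h
      have h' : ⁅e1, e2⁆ ^ p ∈ g3 E := (QuotientGroup.eq_one_iff _).1 h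
      rwa [h3b, Subgroup.mem_bot] at h'
    · have h : (MulAut.conjNormal x ⁅e1, e2⁆)⁻¹ * ⁅e1, e2⁆ ∈ g3 E := by
        refine z_cong hD H.x1 H.x2 ?_
        rw [br_mul_right _ _ (Subgroup.mem_top e1), br_self, mul_one]
      rwa [h3b, Subgroup.mem_bot, inv_mul_eq_one] at h
  exact Or.inr (layered hp hN h3 H hD hz3 hg2 hg3 hW)

end Cfsg.Agent.PearlExists
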