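import Cfsg.Agent.PearlExists.EssentialFrame

/-!
# The line fixed by the tori (S5182)
-/

set_option autoImplicit false

open Cfsg
open scoped commutatorElement

namespace Cfsg.Agent.PearlExists

universe u

variable {p : ℕ} [hp : Fact p.Prime] {N : Type u} [Group N] {e1 e3 : N} {β : MulAut N} {a : ℕ}

theorem LineData.e1_ne (L : LineData p e1 e3 β a) : e1 ≠ 1 := fun h => by
  obtain ⟨d, -⟩ := L.ind 1 0 (by simp [h])
  exact hp.out.ne_one (by exact_mod_cast Int.eq_one_of_dvd_one (by positivity) d)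

theorem LineData.map_e1 (L : LineData p e1 e3 β a) (φ : MulAut N) :
    ∃ m : ℤ, φ e1 = e1 ^ m := by
  obtain ⟨v, w, hvw⟩ := L.isComm
  obtain ⟨m, hm⟩ := L.comm (φ v) (φ w)
  refine ⟨m, ?_⟩
  rw [← hvw, map_commutatorElement, hvw]
  exact hm.symm

/-- An automorphism whose twist by the torus has order prime to `p` on the centre fixes the line. -/
theorem LineData.fixed (L : LineData p e1 e3 β a) (φ : MulAut N)
    (hκ : ∃ n : ℕ, ¬ p ∣ n ∧
      ∀ z ∈ Subgroup.center N, ((β * φ * β⁻¹ * φ⁻¹) ^ n) z = z) :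
    ∃ s : ℕ, φ e3 = e3 ^ s := by
  obtain ⟨n, hn, hfix⟩ := hκ
  set κ := β * φ * β⁻¹ * φ⁻¹ with hκ'
  have hcen : φ e3 ∈ Subgroup.center N := Subgroup.mem_center_iff.2 fun g => by
    obtain ⟨g, rfl⟩ := φ.surjective g
    rw [← map_mul, ← map_mul, Subgroup.mem_center_iff.1 L.cent3 g]
  obtain ⟨s, t, hst⟩ := L.center _ hcen
  have hκφ : ∀ v, κ (φ (β v)) = β (φ v) := fun v => by
    simp [hκ', MulAut.mul_apply]
  obtain ⟨m, hm⟩ := L.map_e1 φ
  have hf : φ (β e1) = β (φ e1) := by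
    rw [L.b1, map_pow, hm, map_zpow, L.b1, ← zpow_natCast, ← zpow_natCast, ← zpow_mul, ← zpow_mul,
      mul_comm]
  set f := φ (β e1) with hfdef
  have hκf : κ f = f := by rw [hfdef, hκφ, ← hf]
  have hf1 : f ≠ 1 := fun h => L.e1_ne (β.injective (φ.injective
    (show φ (β e1) = φ (β 1) by rw [map_one, map_one]; exact h)))
  have hfz : f ∈ Subgroup.zpowers e1 := ⟨(a : ℤ) * m, by
    show e1 ^ ((a : ℤ) * m) = f
    rw [hf, hm, map_zpow, L.b1, ← zpow_natCast, ← zpow_mul]⟩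
  have hz : Subgroup.zpowers f = Subgroup.zpowers e1 := by
    haveI : Finite (Subgroup.zpowers e1) := Nat.finite_of_card_ne_zero (by
      rw [Nat.card_zpowers, orderOf_eq_prime L.q1 L.e1_ne]; exact hp.out.ne_zero)
    refine Subgroup.eq_of_le_of_card_ge (Subgroup.zpowers_le.2 hfz) ?_
    rw [Nat.card_zpowers, Nat.card_zpowers, orderOf_eq_prime L.q1 L.e1_ne,
      orderOf_eq_prime (p := p) _ hf1]
    obtain ⟨k, hk⟩ := hfz
    show f ^ p = 1
    rw [← hk]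
    show (e1 ^ k) ^ p = 1
    rw [← zpow_natCast, ← zpow_mul, mul_comm, zpow_mul, zpow_natCast, L.q1, one_zpow]
  have hκ1 : κ e1 = e1 := by
    obtain ⟨k, hk⟩ : e1 ∈ Subgroup.zpowers f := hz ▸ Subgroup.mem_zpowers e1
    rw [← hk, map_zpow, hκf]
  set d := e1 ^ (((a : ℤ) - 1) * t) with hd
  have hstep : κ (φ e3) = φ e3 * d := by
    have h := hκφ e3
    rw [L.b3] at h
    rw [h, hst, map_mul, map_pow, map_pow, L.b3, L.b1, hd, mul_assoc, ← pow_mul, ← zpow_natCast,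
      ← zpow_natCast e1 t, ← zpow_add]
    congr 1
    rw [← zpow_natCast e1 (a * t)]
    congr 1
    push_cast
    ring
  have hκd : κ d = d := by rw [hd, map_zpow, hκ1]
  have hpow : ∀ k : ℕ, (κ ^ k) (φ e3) = φ e3 * d ^ k := by
    intro k
    induction k with
    | zero => simp
    | succ k ih =>
      rw [pow_succ', MulAut.mul_apply, ih, map_mul, map_pow, hκd, hstep, pow_succ', mul_assoc]
  have h1 := hfix _ hcen
  rw [hpow, mul_eq_left, hd, ← zpow_natCast, ← zpow_mul] at h1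
  obtain ⟨h2, -⟩ := L.ind _ 0 (by rw [h1, zpow_zero, mul_one] : _ * e3 ^ (0 : ℤ) = 1)
  have hp' : Prime (p : ℤ) := Nat.prime_iff_prime_int.1 hp.out
  rcases hp'.dvd_or_dvd h2 with h3 | h3
  · rcases hp'.dvd_or_dvd h3 with h4 | h4
    · refine absurd ?_ L.ha
      have := (ZMod.intCast_zmod_eq_zero_iff_dvd ((a : ℤ) - 1) p).2 h4
      push_cast at this
      exact sub_eq_zero.1 this
    · refine ⟨s, ?_⟩
      obtain ⟨c, hc⟩ := h4
      rw [hst, ← zpow_natCast e1 t, hc, zpow_mul, zpow_natCast, L.q1, one_zpow, mul_one]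
  · exact absurd (Int.natCast_dvd_natCast.1 h3) hn

/-- Two lines coincide if one torus fixes the other line. -/
theorem LineData.unique {f1 f3 : N} {β' : MulAut N} {a' : ℕ} (L : LineData p e1 e3 β a)
    (L' : LineData p f1 f3 β' a') (h : ∃ k : ℕ, β' e3 = e3 ^ k) :
    Subgroup.zpowers e3 = Subgroup.zpowers f3 := by
  obtain ⟨k, hk⟩ := h
  obtain ⟨r, s, hrs⟩ := L'.center _ L.cent3
  have c : Commute (f3 ^ r) (f1 ^ s) :=
    ((Subgroup.mem_center_iff.1 (pow_mem L'.cent1 s) (f3 ^ r)))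
  rw [hrs, map_mul, map_pow, map_pow, L'.b3, L'.b1, c.mul_pow, ← pow_mul, ← pow_mul, ← pow_mul] at hk
  have c2 : ∀ i j : ℕ, f3 ^ i * f1 ^ j = f1 ^ (j : ℤ) * f3 ^ (i : ℤ) := fun i j => by
    rw [zpow_natCast, zpow_natCast]
    exact Subgroup.mem_center_iff.1 (pow_mem L'.cent1 j) (f3 ^ i)
  rw [c2, c2] at hk
  obtain ⟨d1, d3⟩ := L'.ind (((a' * s : ℕ) : ℤ) - (s * k : ℕ)) ((r : ℤ) - (r * k : ℕ)) (by
    have hc : Commute (f1 ^ ((s * k : ℕ) : ℤ))⁻¹ (f3 ^ (r : ℤ)) :=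
      ((Subgroup.mem_center_iff.1 (inv_mem (zpow_mem L'.cent1 _)) (f3 ^ (r : ℤ))).symm)
    rw [zpow_sub, zpow_sub]
    calc f1 ^ ((a' * s : ℕ) : ℤ) * (f1 ^ ((s * k : ℕ) : ℤ))⁻¹ *
          (f3 ^ (r : ℤ) * (f3 ^ ((r * k : ℕ) : ℤ))⁻¹)
        = f1 ^ ((a' * s : ℕ) : ℤ) * ((f1 ^ ((s * k : ℕ) : ℤ))⁻¹ * f3 ^ (r : ℤ)) *
            (f3 ^ ((r * k : ℕ) : ℤ))⁻¹ := by simp only [mul_assoc]
      _ = (f1 ^ ((a' * s : ℕ) : ℤ) * f3 ^ (r : ℤ)) *
            ((f1 ^ ((s * k : ℕ) : ℤ))⁻¹ * (f3 ^ ((r * k : ℕ) : ℤ))⁻¹) := by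
          rw [hc.eq]; simp only [mul_assoc]
      _ = 1 := by
          rw [hk]
          have hc' : Commute (f1 ^ ((s * k : ℕ) : ℤ)) (f3 ^ ((r * k : ℕ) : ℤ)) :=
            (Subgroup.mem_center_iff.1 (zpow_mem L'.cent1 _) (f3 ^ ((r * k : ℕ) : ℤ))).symm
          rw [← mul_inv_rev, ← hc'.eq, mul_inv_cancel])
  rw [← ZMod.intCast_zmod_eq_zero_iff_dvd] at d1 d3
  push_cast at d1 d3
  by_cases hr : (r : ZMod p) = 0
  · exfalso
    have he3 : e3 = f1 ^ s := by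
      obtain ⟨c, rfl⟩ := (ZMod.natCast_eq_zero_iff r p).1 hr
      rw [hrs, pow_mul, L'.q3, one_pow, one_mul]
    obtain ⟨v, w, hvw⟩ := L.isComm
    obtain ⟨m, hm⟩ := L'.comm v w
    have he1 : e1 = f1 ^ m := by rw [← hvw]; exact hm.symm
    obtain ⟨d, -⟩ := L.ind (s : ℤ) (-m) (by
      rw [he1, he3, ← zpow_natCast f1 s, ← zpow_mul, ← zpow_mul, ← zpow_add, show
        m * (s : ℤ) + (s : ℤ) * -m = 0 by ring, zpow_zero])
    obtain ⟨c, rfl⟩ := Int.natCast_dvd_natCast.1 d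
    exact L.ne3 (by rw [he3, pow_mul, L'.q1, one_pow])
  · have hk1 : (k : ZMod p) = 1 := by
      rcases mul_eq_zero.1 (show (r : ZMod p) * (1 - k) = 0 by linear_combination d3) with h | h
      · exact absurd h hr
      · exact (sub_eq_zero.1 h).symm
    have hs : (s : ZMod p) = 0 := by
      rcases mul_eq_zero.1 (show ((a' : ZMod p) - 1) * s = 0 by
        rw [hk1] at d1; linear_combination d1) with h | h
      · exact absurd (sub_eq_zero.1 h) L'.ha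
      · exact h
    have he3 : e3 = f3 ^ r := by
      obtain ⟨c, rfl⟩ := (ZMod.natCast_eq_zero_iff s p).1 hs
      rw [hrs, pow_mul f1, L'.q1, one_pow, mul_one]
    haveI : Finite (Subgroup.zpowers f3) := Nat.finite_of_card_ne_zero (by
      rw [Nat.card_zpowers, orderOf_eq_prime L'.q3 L'.ne3]; exact hp.out.ne_zero)
    refine Subgroup.eq_of_le_of_card_ge (Subgroup.zpowers_le.2 ⟨r, ?_⟩) ?_
    · show f3 ^ (r : ℤ) = e3
      rw [zpow_natCast, he3]
    · rw [Nat.card_zpowers, Nat.card_zpowers, orderOf_eq_prime L'.q3 L'.ne3,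
        orderOf_eq_prime L.q3 L.ne3]

end Cfsg.Agent.PearlExists
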