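import Cfsg.Agent.FusRankThree.Transv

/-!
# Two maximal subgroups in the transvection case (S5182)
-/

set_option autoImplicit false
set_option linter.style.haveILetI false

open Cfsg
open Cfsg.Agent.FusRankThree
open scoped commutatorElement

namespace Cfsg.Agent.PearlExists

universe u

set_option maxHeartbeats 1000000 in
theorem transv_pair {p : ℕ} [Fact p.Prime] (hp : 5 ≤ p) {N : Type u} [Group N] [Finite N]
    (hN : IsPGroup p N) (h3 : RankThree p N) {E : Subgroup N} [E.Normal] (hE : E.index = p)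
    (hV : (frattini E).index = p ^ 3)
    (hexp : ∀ v : N, v ^ p ∈ (frattini E).map E.subtype)
    {x : N} (hx : x ∉ E) (e1 e2 e3 : E)
    (hgen : Subgroup.closure {e1, e2, e3} ⊔ frattini E = ⊤)
    (hx1 : CongMod (frattini E) (MulAut.conjNormal x e1) e1)
    (hx2 : CongMod (frattini E) (MulAut.conjNormal x e2) (e2 * e1))
    (hx3 : CongMod (frattini E) (MulAut.conjNormal x e3) e3)
    (y : MulAut E) (hy1 : CongMod (frattini E) (y e1) (e1 * e2))
    (hy2 : CongMod (frattini E) (y e2) e2) (hy3 : CongMod (frattini E) (y e3) e3)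
    {E' : Subgroup N} [E'.Normal] (hE' : E'.index = p) (hV' : (frattini E').index = p ^ 3)
    (hexp' : ∀ v : N, v ^ p ∈ (frattini E').map E'.subtype) (hne : E' ≠ E) :
    (frattini E').map E'.subtype = (frattini E).map E.subtype := by
  classical
  have hpr : p.Prime := Fact.out
  have hPE : IsPGroup p E := hN.to_subgroup E
  by_contra hγD
  set DN := (frattini E).map E.subtype with hDN
  haveI hDNn : DN.Normal := by rw [hDN]; infer_instance
  set D' := (frattini E').map E'.subtype with hD'
  haveI hD'n : D'.Normal := by rw [hD']; infer_instance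
  have hcardE : Nat.card E' = Nat.card E := by
    have h1 := E'.card_mul_index
    rw [hE', ← E.card_mul_index, hE] at h1
    exact Nat.eq_of_mul_eq_mul_right hpr.pos h1
  have hcardD' : Nat.card D' = Nat.card DN := by
    rw [hD', hDN, Subgroup.card_map_of_injective E'.subtype_injective,
      Subgroup.card_map_of_injective E.subtype_injective]
    have h1 := (frattini E').card_mul_index
    rw [hV', hcardE, ← (frattini E).card_mul_index, hV] at h1
    exact Nat.eq_of_mul_eq_mul_right (pow_pos hpr.pos 3) h1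
  have hD'le : ¬ DN ≤ D' := fun h => hγD (Subgroup.eq_of_le_of_card_ge h hcardD'.le).symm
  have hD'le2 : ¬ D' ≤ DN := fun h => hγD (Subgroup.eq_of_le_of_card_ge h hcardD'.ge)
  have hpowD' : ∀ v : N, v ^ p ∈ D' := hexp'
  -- the maximal subgroups
  have hmax : ∀ (M : Subgroup N) [M.Normal], M.index = p → frattini N ≤ M := by
    intro M _ hM
    refine PGroup.frattini_le_of_commutator_le_of_pow_mem hpr ?_ fun v => hM ▸ M.pow_index_mem v
    haveI := isCyclic_of_prime_card (α := N ⧸ M) (p := p) (by rw [← Subgroup.index_eq_card, hM])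
    rw [← Subgroup.Normal.quotient_commutative_iff_commutator_le]
    infer_instance
  have hE'idx : E'.index = p := hE'
  have hDU : DN ≤ frattini N := PGroup.map_subtype_frattini_le hN E
  have hD'U : D' ≤ frattini N := PGroup.map_subtype_frattini_le hN E'
  -- generation of `N`
  have hxtop : E ⊔ Subgroup.zpowers x = ⊤ := by
    refine eq_top_iff.2 fun n _ => ?_
    have hc : Nat.card (N ⧸ E) = p := by rw [← Subgroup.index_eq_card, hE]
    have hne : QuotientGroup.mk' E x ≠ 1 := fun h => hx ((QuotientGroup.eq_one_iff x).1 h)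
    have hz := zpowers_eq_top_of_prime_card hc hne
    obtain ⟨i, hi⟩ := Subgroup.mem_zpowers_iff.1 (hz ▸ Subgroup.mem_top (QuotientGroup.mk' E n))
    rw [← map_zpow, QuotientGroup.mk'_apply, QuotientGroup.mk'_apply, eq_comm,
      QuotientGroup.eq] at hi
    have h' : n = (n * (x ^ i)⁻¹) * x ^ i := by group
    rw [h']
    refine Subgroup.mul_mem_sup ?_ (Subgroup.zpow_mem _ (Subgroup.mem_zpowers x) i)
    have := Subgroup.Normal.conj_mem inferInstance _ (E.inv_mem hi) (x ^ i)
    rw [show x ^ i * (n⁻¹ * x ^ i)⁻¹ * (x ^ i)⁻¹ = x ^ i * (x ^ i)⁻¹ * (n * (x ^ i)⁻¹) by group,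
      mul_inv_cancel, one_mul] at this
    exact this
  -- the quotient by `DN`
  set π := QuotientGroup.mk' DN with hπ
  have hπD : ∀ d : E, d ∈ frattini E → π d = 1 := fun d hd =>
    (QuotientGroup.eq_one_iff _).2 (Subgroup.mem_map_of_mem E.subtype hd)
  have hcong : ∀ a b : E, CongMod (frattini E) a b → π a = π b := fun a b h => by
    have := hπD _ h
    rw [Subgroup.coe_mul, Subgroup.coe_inv, map_mul, map_inv, inv_mul_eq_one] at this
    exact this
  have hEab : ∀ a b : E, π a * π b = π b * π a := fun a b => by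
    have := hπD _ (PGroup.commutatorElement_mem_frattini hPE a b)
    rwa [← commutatorElement_eq_one_iff_mul_comm, ← map_commutatorElement]
  have hconj1 : π x * π e1 * (π x)⁻¹ = π e1 := by
    have h := hcong _ _ hx1
    rwa [MulAut.conjNormal_apply, map_mul, map_mul, map_inv] at h
  have hconj3 : π x * π e3 * (π x)⁻¹ = π e3 := by
    have h := hcong _ _ hx3
    rwa [MulAut.conjNormal_apply, map_mul, map_mul, map_inv] at h
  have hconj2 : π x * π e2 * (π x)⁻¹ = π e2 * π e1 := by
    have h := hcong _ _ hx2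
    rwa [MulAut.conjNormal_apply, Subgroup.coe_mul, map_mul, map_mul, map_inv, map_mul] at h
  have hcentral : ∀ e : E, π x * π e * (π x)⁻¹ = π e → π e ∈ Subgroup.center (N ⧸ DN) := by
    intro e he
    have hle : E ⊔ Subgroup.zpowers x ≤ (Subgroup.centralizer {π e}).comap π := by
      refine sup_le (fun a ha => ?_) ((Subgroup.zpowers_le).2 ?_)
      · exact Subgroup.mem_centralizer_singleton_iff.2 (hEab ⟨a, ha⟩ e)
      · exact Subgroup.mem_centralizer_singleton_iff.2 (mul_inv_eq_iff_eq_mul.1 he)
    rw [hxtop] at hle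
    refine Subgroup.mem_center_iff.2 fun g => ?_
    obtain ⟨n, rfl⟩ := QuotientGroup.mk'_surjective DN g
    exact Subgroup.mem_centralizer_singleton_iff.1 (hle (Subgroup.mem_top n))
  have hz1 := hcentral e1 hconj1
  have hz3 := hcentral e3 hconj3
  -- `e1` is in the Frattini subgroup of `N`
  have he1U : (e1 : N) ∈ frattini N := by
    have h2 : π ⁅x, (e2 : N)⁆ = π e1 := by
      rw [map_commutatorElement, commutatorElement_def, hconj2, Subgroup.mem_center_iff.1 hz1]
      group
    have h3' : (e1 : N) = ⁅x, (e2 : N)⁆ * (⁅x, (e2 : N)⁆⁻¹ * e1) := by group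
    rw [h3']
    refine mul_mem (PGroup.commutatorElement_mem_frattini hN _ _) (hDU ?_)
    exact (QuotientGroup.eq).1 h2
  -- `|frattini N : DN| ≤ p`
  have hU : Nat.card (frattini N : Subgroup N) ≤ p * Nat.card DN := by
    set Z := Subgroup.zpowers (π e1) with hZ
    have hZc : Z ≤ Subgroup.center (N ⧸ DN) := Subgroup.zpowers_le.2 hz1
    haveI hZn : Z.Normal := ⟨fun a ha g => by
      rw [Subgroup.mem_center_iff.1 (hZc ha) g, mul_inv_cancel_right]; exact ha⟩
    have hle : frattini N ≤ Z.comap π := by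
      refine PGroup.frattini_le_of_commutator_le_of_pow_mem hpr ?_ fun v => ?_
      · rw [commutator_eq_closure, Subgroup.closure_le]
        rintro _ ⟨a, b, rfl⟩
        rw [SetLike.mem_coe, Subgroup.mem_comap, map_commutatorElement,
          ← QuotientGroup.eq_one_iff, ← QuotientGroup.mk'_apply Z, map_commutatorElement,
          commutatorElement_eq_one_iff_mul_comm]
        refine commute_of_gen ((QuotientGroup.mk' Z).comp π) ⊤
          ({x} ∪ (E.subtype '' {e1, e2, e3})) DN (le_of_eq ?_) (fun m hm => ?_) ?_ a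
          (Subgroup.mem_top a) b (Subgroup.mem_top b)
        · rw [Subgroup.closure_union, sup_assoc, ← MonoidHom.map_closure, ← Subgroup.map_sup, hgen,
            ← MonoidHom.range_eq_map, Subgroup.range_subtype, ← Subgroup.zpowers_eq_closure,
            sup_comm, hxtop]
        · rw [MonoidHom.comp_apply, show π m = 1 from (QuotientGroup.eq_one_iff m).2 hm, map_one]
          exact Subgroup.one_mem _
        · have hE2 : ∀ a b : E, ((QuotientGroup.mk' Z).comp π) a * ((QuotientGroup.mk' Z).comp π) b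
              = ((QuotientGroup.mk' Z).comp π) b * ((QuotientGroup.mk' Z).comp π) a := fun a b => by
            simp only [MonoidHom.comp_apply, ← map_mul]
            exact congrArg _ (by simpa only [map_mul] using hEab a b)
          have h1 : (QuotientGroup.mk' Z) (π e1) = 1 :=
            (QuotientGroup.eq_one_iff _).2 (Subgroup.mem_zpowers _)
          have hxe : ∀ e : E, e ∈ ({e1, e2, e3} : Set E) →
              ((QuotientGroup.mk' Z).comp π) x * ((QuotientGroup.mk' Z).comp π) e =
                ((QuotientGroup.mk' Z).comp π) e * ((QuotientGroup.mk' Z).comp π) x := by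
            intro e he
            rw [← mul_inv_eq_iff_eq_mul]
            simp only [MonoidHom.comp_apply]
            rw [← map_inv, ← map_mul, ← map_mul]
            rcases he with rfl | rfl | rfl
            · rw [hconj1]
            · rw [hconj2, map_mul, h1, mul_one]
            · rw [hconj3]
          rintro a (rfl | ⟨a, ha, rfl⟩) b (rfl | ⟨b, hb, rfl⟩)
          · rfl
          · exact hxe b hb
          · exact (hxe a ha).symm
          · exact hE2 a b
      · rw [Subgroup.mem_comap, show π (v ^ p) = 1 from (QuotientGroup.eq_one_iff _).2 (hexp v)]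
        exact Subgroup.one_mem _
    have hker : π.ker = DN := QuotientGroup.ker_mk' DN
    have hcard : Nat.card (Z.comap π) = Nat.card DN * Nat.card Z := by
      have h := Subgroup.relIndex_mul_relIndex ⊥ DN (Z.comap π) bot_le
        (by intro a ha; rw [Subgroup.mem_comap, show π a = 1 from (QuotientGroup.eq_one_iff a).2 ha]
            exact one_mem _)
      rw [Subgroup.relIndex_bot_left, Subgroup.relIndex_bot_left] at h
      rw [← h]
      congr 1
      rw [show DN.relIndex (Z.comap π) = π.ker.relIndex (Z.comap π) by rw [hker],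
        Subgroup.relIndex_ker, Subgroup.map_comap_eq_self_of_surjective
          (QuotientGroup.mk'_surjective DN)]
    calc Nat.card (frattini N : Subgroup N) ≤ Nat.card (Z.comap π) :=
          Nat.le_of_dvd Nat.card_pos (Subgroup.card_dvd_of_le hle)
      _ = Nat.card DN * Nat.card Z := hcard
      _ ≤ Nat.card DN * p := Nat.mul_le_mul_left _ (by
          rw [hZ, Nat.card_zpowers]
          exact Nat.le_of_dvd hpr.pos (orderOf_dvd_of_pow_eq_one (by
            rw [← map_pow]; exact (QuotientGroup.eq_one_iff _).2 (hexp _))))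
      _ = p * Nat.card DN := mul_comm _ _
  -- `|DN : DN ⊓ D'| = p`
  set D0N := DN ⊓ D' with hD0N
  have hrelp : D0N.relIndex DN = p := by
    rw [hD0N, Subgroup.inf_relIndex_left]
    have hle : D'.relIndex DN ≤ p := by
      refine (Subgroup.relIndex_le_of_le_right hDU (by
        rw [Subgroup.relIndex]; exact Subgroup.index_ne_zero_of_finite)).trans ?_
      have h := Subgroup.relIndex_mul_relIndex ⊥ D' (frattini N) bot_le hD'U
      rw [Subgroup.relIndex_bot_left, Subgroup.relIndex_bot_left, hcardD'] at h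
      rw [← h, mul_comm p] at hU
      exact Nat.le_of_mul_le_mul_left hU Nat.card_pos
    obtain ⟨k, hk⟩ := (hN.to_subgroup DN).index (D'.subgroupOf DN)
    change D'.relIndex DN = p ^ k at hk
    rw [hk] at hle ⊢
    have hk0 : k ≠ 0 := fun h => hD'le (Subgroup.relIndex_eq_one.1 (by rw [hk, h, pow_zero]))
    have hk1 : k ≤ 1 := by
      by_contra h
      exact absurd (lt_of_lt_of_le (Nat.pow_lt_pow_right hpr.one_lt (not_le.1 h)) hle) (by simp)
    rw [show k = 1 by omega, pow_one]
  -- the quotient by `DN ⊓ D'`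
  haveI hD0n : D0N.Normal := by rw [hD0N]; infer_instance
  set ρ := QuotientGroup.mk' D0N with hρ
  have hρc : ∀ d : E, d ∈ frattini E → ρ d ∈ Subgroup.center (N ⧸ D0N) := by
    intro d hd
    haveI : (DN.map ρ).Normal := Subgroup.Normal.map hDNn _ (QuotientGroup.mk'_surjective _)
    refine PGroup.le_center_of_card_eq (hN.to_quotient D0N) (N := DN.map ρ) ?_
      (Subgroup.mem_map_of_mem ρ (Subgroup.mem_map_of_mem E.subtype hd))
    rw [← Subgroup.relIndex_ker, QuotientGroup.ker_mk', hrelp]
  have hρpow : ∀ v : N, ρ v ^ p = 1 := fun v => by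
    rw [← map_pow]; exact (QuotientGroup.eq_one_iff _).2 ⟨hexp v, hpowD' v⟩
  have hρE' : ∀ a b : E, (a : N) ∈ E' → (b : N) ∈ E' → ρ a * ρ b = ρ b * ρ a := by
    intro a b ha hb
    rw [← commutatorElement_eq_one_iff_mul_comm, ← map_commutatorElement]
    refine (QuotientGroup.eq_one_iff _).2 ⟨?_, ?_⟩
    · exact ⟨⁅a, b⁆, PGroup.commutatorElement_mem_frattini hPE a b,
        map_commutatorElement E.subtype a b⟩
    · exact ⟨⁅(⟨a, ha⟩ : E'), ⟨b, hb⟩⁆,
        PGroup.commutatorElement_mem_frattini (hN.to_subgroup E') _ _,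
        map_commutatorElement E'.subtype _ _⟩
  -- `e3` is not in `E'`
  have he1E' : (e1 : N) ∈ E' := hmax E' hE'idx he1U
  have he3E' : (e3 : N) ∉ E' := by
    intro h3'
    set S := frattini E ⊔ Subgroup.closure {e1, e3} with hS
    haveI : S.Normal := PGroup.normal_of_commutator_le
      ((PGroup.commutator_le_frattini hPE).trans le_sup_left)
    have hSidx : S.index ≤ p := by
      refine index_le_of_gen S e2 (le_sup_left (a := frattini E) (PGroup.pow_mem_frattini hPE e2)) ?_
      rw [eq_top_iff, ← hgen]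
      refine sup_le ((Subgroup.closure_le _).2 ?_) (le_sup_left.trans le_sup_left)
      rintro z (rfl | rfl | rfl)
      · exact Subgroup.mem_sup_left (Subgroup.mem_sup_right (Subgroup.subset_closure (by simp)))
      · exact Subgroup.mem_sup_right (Subgroup.mem_zpowers _)
      · exact Subgroup.mem_sup_left (Subgroup.mem_sup_right (Subgroup.subset_closure (by simp)))
    have hSW : S ≤ E'.subgroupOf E := by
      refine sup_le (fun d hd => ?_) ((Subgroup.closure_le _).2 ?_)
      · exact hmax E' hE'idx (hDU (Subgroup.mem_map_of_mem E.subtype hd))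
      · rintro z (rfl | rfl)
        exacts [he1E', h3']
    have hWne : (E'.subgroupOf E).index ≠ 1 := fun h => by
      rw [Subgroup.index_eq_one, Subgroup.subgroupOf_eq_top] at h
      exact hne (Subgroup.eq_of_le_of_card_ge h hcardE.le).symm
    have hWS : E'.subgroupOf E ≤ S := by
      have hmul : S.relIndex (E'.subgroupOf E) * (E'.subgroupOf E).index = S.index :=
        Subgroup.relIndex_mul_index hSW
      obtain ⟨k, hk⟩ := hPE.index (E'.subgroupOf E)
      have hk0 : k ≠ 0 := fun h => hWne (by rw [hk, h, pow_zero])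
      have hge : p ≤ (E'.subgroupOf E).index := hk ▸ Nat.le_self_pow hk0 p
      rw [← Subgroup.relIndex_eq_one]
      have hne : S.relIndex (E'.subgroupOf E) ≠ 0 := by
        rw [Subgroup.relIndex]; exact Subgroup.index_ne_zero_of_finite
      rcases Nat.lt_or_ge (S.relIndex (E'.subgroupOf E)) 2 with h | h
      · omega
      · have := Nat.mul_le_mul h hge
        have := hpr.pos
        omega
    -- so `E'` is abelian modulo `DN`
    obtain ⟨w, hw', hw⟩ : ∃ w ∈ E', w ∉ E := SetLike.not_le_iff_exists.1 fun h =>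
      hne (Subgroup.eq_of_le_of_card_ge h hcardE.ge)
    have hE'le : E' ≤ Subgroup.closure {w} ⊔ S.map E.subtype := by
      intro v hv
      have hc : Nat.card (N ⧸ E) = p := by rw [← Subgroup.index_eq_card, hE]
      have hnw : QuotientGroup.mk' E w ≠ 1 := fun h => hw ((QuotientGroup.eq_one_iff w).1 h)
      obtain ⟨i, hi⟩ := Subgroup.mem_zpowers_iff.1
        ((zpowers_eq_top_of_prime_card hc hnw) ▸ Subgroup.mem_top (QuotientGroup.mk' E v))
      rw [← map_zpow, QuotientGroup.mk'_apply, QuotientGroup.mk'_apply, QuotientGroup.eq] at hi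
      have hmem : (⟨_, hi⟩ : E) ∈ S := hWS (E'.mul_mem (E'.inv_mem (E'.zpow_mem hw' i)) hv)
      have h' : v = w ^ i * ((w ^ i)⁻¹ * v) := by group
      rw [h']
      exact Subgroup.mul_mem_sup (Subgroup.zpow_mem _ (Subgroup.mem_closure_singleton_self w) i)
        ⟨⟨_, hi⟩, hmem, rfl⟩
    have hScent : ∀ m ∈ S.map E.subtype, π m ∈ Subgroup.center (N ⧸ DN) := by
      have : S ≤ (Subgroup.center (N ⧸ DN)).comap (π.comp E.subtype) := by
        refine sup_le (fun d hd => ?_) ((Subgroup.closure_le _).2 ?_)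
        · rw [Subgroup.mem_comap, MonoidHom.comp_apply, Subgroup.coe_subtype, hπD d hd]
          exact Subgroup.one_mem _
        · rintro z (rfl | rfl)
          exacts [hz1, hz3]
      rintro _ ⟨m, hm, rfl⟩
      exact this hm
    have hab := commute_of_gen π E' {w} (S.map E.subtype) hE'le hScent
      (by rintro a rfl b rfl; rfl)
    refine hD'le2 ?_
    rw [hD', Subgroup.map_le_iff_le_comap]
    refine PGroup.frattini_le_of_commutator_le_of_pow_mem hpr ?_ fun v => ?_
    · rw [commutator_eq_closure, Subgroup.closure_le]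
      rintro _ ⟨a, b, rfl⟩
      rw [SetLike.mem_coe, Subgroup.mem_comap, map_commutatorElement]
      refine (QuotientGroup.eq_one_iff (N := DN) _).1 ?_
      show π _ = 1
      rw [map_commutatorElement, commutatorElement_eq_one_iff_mul_comm]
      exact hab _ a.2 _ b.2
    · rw [Subgroup.mem_comap, map_pow]
      exact hexp _
  -- commutation in the second quotient
  have hcongρ : ∀ a b : E, CongMod (frattini E) a b →
      ∃ d ∈ Subgroup.center (N ⧸ D0N), ρ a = ρ b * d := fun a b h =>
    ⟨_, Subgroup.inv_mem _ (hρc _ h), by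
      rw [Subgroup.coe_mul, Subgroup.coe_inv, map_mul, map_inv]; group⟩
  have hc31 : ρ e3 * ρ e1 = ρ e1 * ρ e3 := by
    rw [← commutatorElement_eq_one_iff_mul_comm]
    have hmemc : ∀ a b : E, ⁅ρ a, ρ b⁆ ∈ Subgroup.center (N ⧸ D0N) := fun a b => by
      rw [← map_commutatorElement]
      have := hρc _ (PGroup.commutatorElement_mem_frattini hPE a b)
      rwa [show ((⁅a, b⁆ : E) : N) = ⁅(a : N), (b : N)⁆ from map_commutatorElement E.subtype a b]
        at this
    obtain ⟨d3, hd3, hx3'⟩ := hcongρ _ _ hx3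
    obtain ⟨d2, hd2, hx2'⟩ := hcongρ _ _ hx2
    rw [MulAut.conjNormal_apply, map_mul, map_mul, map_inv] at hx3' hx2'
    rw [Subgroup.coe_mul, map_mul] at hx2'
    have h1 : ρ x * ⁅ρ e3, ρ e2⁆ * (ρ x)⁻¹ = ⁅ρ e3, ρ e2⁆ := by
      rw [Subgroup.mem_center_iff.1 (hmemc e3 e2) (ρ x), mul_inv_cancel_right]
    have h2 : ρ x * ⁅ρ e3, ρ e2⁆ * (ρ x)⁻¹ =
        ⁅ρ x * ρ e3 * (ρ x)⁻¹, ρ x * ρ e2 * (ρ x)⁻¹⁆ := by
      simp only [commutatorElement_def]; group
    rw [h1, hx3', hx2', commutator_mul_central hd3 hd2] at h2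
    have h3' : ⁅ρ e3, ρ e2 * ρ e1⁆ = ⁅ρ e3, ρ e2⁆ * (ρ e2 * ⁅ρ e3, ρ e1⁆ * (ρ e2)⁻¹) := by
      simp only [commutatorElement_def]; group
    rw [h3', eq_comm, mul_eq_left] at h2
    rwa [Subgroup.mem_center_iff.1 (hmemc e3 e1) (ρ e2), mul_inv_cancel_right] at h2
  have hc12 : ρ e1 * ρ e2 = ρ e2 * ρ e1 := by
    have hc : Nat.card (N ⧸ E') = p := by rw [← Subgroup.index_eq_card, hE'idx]
    have hne : QuotientGroup.mk' E' (e3 : N) ≠ 1 := fun h =>
      he3E' ((QuotientGroup.eq_one_iff _).1 h)
    obtain ⟨j, hj⟩ := Subgroup.mem_zpowers_iff.1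
      ((zpowers_eq_top_of_prime_card hc hne) ▸ Subgroup.mem_top (QuotientGroup.mk' E' (e2 : N)))
    rw [← map_zpow, QuotientGroup.mk'_apply, QuotientGroup.mk'_apply, QuotientGroup.eq] at hj
    have h := hρE' e1 ((e3 ^ j)⁻¹ * e2) he1E' (by simpa using hj)
    rw [Subgroup.coe_mul, Subgroup.coe_inv, Subgroup.coe_zpow, map_mul, map_inv, map_zpow] at h
    have hcj : Commute (ρ e1) ((ρ e3) ^ j)⁻¹ :=
      ((show Commute (ρ e1) (ρ e3) from hc31.symm).zpow_right j).inv_right
    rw [← mul_assoc, hcj.eq, mul_assoc, mul_assoc] at h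
    exact mul_left_cancel h
  -- invariance of `DN ⊓ D'` under `y`
  set D0 := D0N.subgroupOf E with hD0
  have hD0eq : ∀ a b : E, ⁅a, b⁆ ∈ D0 ↔ ρ a * ρ b = ρ b * ρ a := fun a b => by
    rw [← commutatorElement_eq_one_iff_mul_comm, ← map_commutatorElement, hD0,
      Subgroup.mem_subgroupOf, hρ, QuotientGroup.mk'_apply, QuotientGroup.eq_one_iff,
      show ((⁅a, b⁆ : E) : N) = ⁅(a : N), (b : N)⁆ from map_commutatorElement E.subtype a b]
  set W0 := frattini E ⊔ Subgroup.closure {e1, e2} with hW0
  have hW0y : W0 ≤ W0.comap y.toMonoidHom := by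
    refine sup_le ?_ ((Subgroup.closure_le _).2 ?_)
    · rw [show frattini E = (frattini E).comap y.toMonoidHom from
        (Subgroup.characteristic_iff_comap_eq.1 inferInstance y).symm]
      exact Subgroup.comap_mono le_sup_left
    · have hm1 : e1 ∈ W0 := Subgroup.mem_sup_right (Subgroup.subset_closure (by simp))
      have hm2 : e2 ∈ W0 := Subgroup.mem_sup_right (Subgroup.subset_closure (by simp))
      have hm : ∀ a b : E, CongMod (frattini E) a b → b ∈ W0 → a ∈ W0 := fun a b h hb => by
        rw [show a = b * (a⁻¹ * b)⁻¹ by group]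
        exact W0.mul_mem hb (W0.inv_mem (Subgroup.mem_sup_left h))
      rintro z (rfl | rfl)
      · exact hm _ _ hy1 (W0.mul_mem hm1 hm2)
      · exact hm _ _ hy2 hm2
  have hW0ab : ∀ a ∈ W0, ∀ b ∈ W0, ⁅a, b⁆ ∈ D0 := by
    intro a ha b hb
    rw [hD0eq]
    refine commute_of_gen (ρ.comp E.subtype) W0 {e1, e2} (frattini E) (sup_comm _ _).le
      (fun m hm => hρc m hm) ?_ a ha b hb
    rintro a (rfl | rfl) b (rfl | rfl)
    exacts [rfl, hc12, hc12.symm, rfl]
  have hW0k : ∀ (k : ℕ) (a : E), a ∈ W0 → (y ^ k) a ∈ W0 := by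
    intro k
    induction k with
    | zero => intro a ha; simpa using ha
    | succ k ih =>
      intro a ha
      rw [pow_succ, MulAut.mul_apply]
      exact ih _ (hW0y ha)
  set Kt : Subgroup E := ⨅ k : ℕ, D0.comap (y ^ k).toMonoidHom with hKt
  have hmemKt : ∀ d : E, d ∈ Kt ↔ ∀ k : ℕ, (y ^ k) d ∈ D0 := fun d => by
    rw [hKt, Subgroup.mem_iInf]; rfl
  have hKtD0 : Kt ≤ D0 := fun d hd => by simpa using (hmemKt d).1 hd 0
  have hD0D : D0 ≤ frattini E := fun d hd => by
    obtain ⟨d', hd', he⟩ := (Subgroup.mem_subgroupOf.1 hd).1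
    rwa [← E.subtype_injective he]
  have h3E := rankThree_subgroup h3 E W0 Kt ((hKtD0.trans hD0D).trans le_sup_left)
    (fun a _ => (hmemKt _).2 fun k => by
      rw [map_pow]
      exact Subgroup.mem_subgroupOf.2 ⟨hexp _, hpowD' _⟩)
    (fun a ha b hb => (hmemKt _).2 fun k => by
      rw [← commutatorElement_def, map_commutatorElement]
      exact hW0ab _ (hW0k k a ha) _ (hW0k k b hb))
  haveI hW0n : W0.Normal := PGroup.normal_of_commutator_le
    ((PGroup.commutator_le_frattini hPE).trans le_sup_left)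
  have hW0idx : W0.index ≤ p := by
    refine index_le_of_gen W0 e3 (le_sup_left (a := frattini E) (PGroup.pow_mem_frattini hPE e3)) ?_
    rw [eq_top_iff, ← hgen]
    refine sup_le ((Subgroup.closure_le _).2 ?_) (le_sup_left.trans le_sup_left)
    rintro z (rfl | rfl | rfl)
    · exact Subgroup.mem_sup_left (Subgroup.mem_sup_right (Subgroup.subset_closure (by simp)))
    · exact Subgroup.mem_sup_left (Subgroup.mem_sup_right (Subgroup.subset_closure (by simp)))
    · exact Subgroup.mem_sup_right (Subgroup.mem_zpowers _)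
  have hyD0 : D0 ≤ Kt := by
    have ha : (frattini E).relIndex W0 * W0.index = p ^ 3 := by
      rw [← hV]; exact Subgroup.relIndex_mul_index (show frattini E ≤ W0 from le_sup_left)
    have hb := Subgroup.relIndex_mul_relIndex Kt (frattini E) W0 (hKtD0.trans hD0D)
      (show frattini E ≤ W0 from le_sup_left)
    have hc := Subgroup.relIndex_mul_relIndex Kt D0 (frattini E) hKtD0 hD0D
    have hd : D0.relIndex (frattini E) = p := by
      rw [hD0, ← hrelp, hDN,
        ← Subgroup.relIndex_comap (f := E.subtype) (H := D0N) (K := frattini E)]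
      rfl
    rw [← hb, ← hc, hd] at h3E
    have hle := le_one_of_chain hpr.pos ha hW0idx h3E
    have hi : Kt.relIndex D0 ≠ 0 := by
      rw [Subgroup.relIndex]; exact Subgroup.index_ne_zero_of_finite
    exact Subgroup.relIndex_eq_one.1 (by omega)
  -- `e3` commutes with `e2`, so `E` is elementary abelian modulo `DN ⊓ D'`
  have hc32 : ρ e3 * ρ e2 = ρ e2 * ρ e3 := by
    have hmem : ⁅y e3, y e1⁆ ∈ D0 := by
      have h := (hmemKt _).1 (hyD0 ((hD0eq e3 e1).2 hc31)) 1
      rwa [pow_one, map_commutatorElement] at h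
    rw [hD0eq] at hmem
    obtain ⟨d3, hd3, h3'⟩ := hcongρ _ _ hy3
    obtain ⟨d1, hd1, h1'⟩ := hcongρ _ _ hy1
    rw [← commutatorElement_eq_one_iff_mul_comm, h3', h1', commutator_mul_central hd3 hd1,
      Subgroup.coe_mul, map_mul, commutatorElement_eq_one_iff_mul_comm, ← mul_assoc, hc31,
      mul_assoc, mul_assoc] at hmem
    exact mul_left_cancel hmem
  refine hD'le ?_
  have hfin : frattini E ≤ D0 := by
    refine PGroup.frattini_le_of_commutator_le_of_pow_mem hpr ?_
      fun v => Subgroup.mem_subgroupOf.2 ⟨hexp _, hpowD' _⟩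
    rw [commutator_eq_closure, Subgroup.closure_le]
    rintro _ ⟨a, b, rfl⟩
    rw [SetLike.mem_coe, hD0eq]
    refine commute_of_gen (ρ.comp E.subtype) ⊤ {e1, e2, e3} (frattini E) hgen.ge
      (fun m hm => hρc m hm) ?_ a (Subgroup.mem_top a) b (Subgroup.mem_top b)
    rintro a (rfl | rfl | rfl) b (rfl | rfl | rfl)
    exacts [rfl, hc12, hc31.symm, hc12.symm, rfl, hc32.symm, hc31, hc32, rfl]
  rintro _ ⟨d, hd, rfl⟩
  exact (Subgroup.mem_subgroupOf.1 (hfin hd)).2

end Cfsg.Agent.PearlExists
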