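import Cfsg.Agent.PearlExists.Transfer
import Cfsg.Agent.PearlExists.Line
import Cfsg.Agent.PearlExists.TransvPair
import Cfsg.Agent.PearlExists.JordanPowers
import Cfsg.Agent.PearlExists.NormalCrit
import Cfsg.Agent.PearlExists.RankTwo
import Cfsg.Agent.PearlExists.Layered
import Cfsg.Agent.FusionSys.EssentialFlag

/-!
# Existence of pearls in sectional rank three (S5182)
-/

set_option autoImplicit false

open Cfsg Cfsg.FusionSystem Cfsg.Agent.FusionSys
open Cfsg.Agent.FusRankThree
open scoped commutatorElement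

namespace Cfsg.Agent.PearlExists

universe u

variable {p : ℕ} {Ω : Type u} [Group Ω] {S : Subgroup Ω}

theorem core_ne_bot_of_normal {F : FusionSystem S} {W : Subgroup Ω} (hW : F.IsNormal W)
    (hne : W ≠ ⊥) : F.core ≠ ⊥ := fun h =>
  hne (eq_bot_iff.2 ((le_sSup (s := {Q : Subgroup Ω | F.IsNormal Q}) hW).trans (le_of_eq h)))

/-- The Frattini subgroup of an essential subgroup, seen in `S`. -/
theorem phiN_map [Finite S] [Fact p.Prime] (hS : IsPGroup p S) {P : Subgroup Ω} (hP : P ≤ S) :
    (phiN (P.subgroupOf S)).map S.subtype = (frattini ↥P).map P.subtype := by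
  unfold phiN
  rw [← PGroup.map_frattini (hS.to_subgroup (P.subgroupOf S))
    (Subgroup.subgroupOfEquivOfLe hP).toMonoidHom (Subgroup.subgroupOfEquivOfLe hP).surjective,
    Subgroup.map_map, Subgroup.map_map]
  rfl

theorem frattini_inv {P : Subgroup Ω} (α : MulAut P) {x : P}
    (hx : (x : Ω) ∈ (frattini ↥P).map P.subtype) :
    ((α x : P) : Ω) ∈ (frattini ↥P).map P.subtype := by
  obtain ⟨w, hw, hwx⟩ := hx
  obtain rfl : w = x := Subtype.ext hwx
  exact ⟨α w, (Subgroup.characteristic_iff_le_comap.1 inferInstance α) hw, rfl⟩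

set_option maxHeartbeats 1600000 in
theorem exists_pearl [Finite S] [Fact p.Prime] (hp : 5 ≤ p) (hS : IsPGroup p S)
    (h3 : RankThree p S) (hne : S ≠ ⊥) {F : FusionSystem S} (hF : F.IsSaturated p)
    (hO : F.core = ⊥) :
    ∃ E : Subgroup Ω, (F.IsEssential p E ∧ ((Cfsg.IsElementaryAbelian p E ∧ Nat.card E = p ^ 2) ∨
        (Cfsg.IsExtraspecial p ↥E ∧ Nat.card E = p ^ 3 ∧ ∀ x ∈ E, x ^ p = 1))) := by
  classical
  by_contra hno
  refine absurd hO ?_
  have hpp : p.Prime := Fact.out
  have hlay : ∀ E : Subgroup Ω, F.IsEssential p E →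
      (frattini ↥E).index = p ^ 3 ∨ ∃ L : Subgroup Ω, IsLayered p S E L := by
    intro E hE
    haveI : Finite E := finite_of_le ‹_› hE.1.1
    have hEp : IsPGroup p E := hS.to_le hE.1.1
    obtain ⟨k, hk⟩ := hEp.index (frattini ↥E)
    have hle : (frattini ↥E).index ≤ p ^ 3 := by
      rw [← Subgroup.relIndex_top_right]
      exact rankThree_of_injective h3 (Subgroup.inclusion hE.1.1)
        (Subgroup.inclusion_injective _) ⊤ _ le_top
        (fun a _ => PGroup.pow_mem_frattini hEp a)
        (fun a _ b _ => by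
          rw [← commutatorElement_def]; exact PGroup.commutatorElement_mem_frattini hEp a b)
    have hk1 : k ≠ 1 := fun h => frattini_index_ne_prime hS hF hE (by rw [hk, h, pow_one])
    have hk0 : k ≠ 0 := fun h => by
      have htop : frattini ↥E = ⊤ := Subgroup.index_eq_one.1 (by rw [hk, h, pow_zero])
      have hbot : (⊥ : Subgroup E) = ⊤ :=
        PGroup.eq_top_of_sup_frattini (by rw [htop, sup_top_eq])
      obtain ⟨g, hg, hgE⟩ := exists_mem_normalizerIn_not_mem hS hF hE
      refine hgE (hE.1.2 E (isConj_refl F hE.1.1) (mem_centralizerIn.2 ⟨hg.1, fun z hz => ?_⟩))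
      have h1 : (⟨z, hz⟩ : E) ∈ (⊥ : Subgroup E) := hbot ▸ Subgroup.mem_top _
      have hz1 : z = 1 := congrArg Subtype.val (Subgroup.mem_bot.1 h1)
      rw [hz1, one_mul, mul_one]
    rw [hk] at hle
    have hk3 : k ≤ 3 := (Nat.pow_le_pow_iff_right hpp.one_lt).1 hle
    rcases (show k = 2 ∨ k = 3 by omega) with rfl | rfl
    · rcases rank_two_cases hp hS h3 hF hE hk with h | h
      · exact absurd ⟨E, hE, h⟩ hno
      · exact Or.inr h
    · exact Or.inl hk
  by_cases hbig : ∃ E L : Subgroup Ω, F.IsEssential p E ∧ IsLayered p S E L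
  · obtain ⟨E, L, hE, hL⟩ := hbig
    exact layered_core_ne_bot hp hS h3 hF hE hL hlay
  have hrk : ∀ E : Subgroup Ω, F.IsEssential p E → (frattini ↥E).index = p ^ 3 := fun E hE =>
    (hlay E hE).resolve_right fun ⟨L, hL⟩ => hbig ⟨E, L, hE, hL⟩
  have hnorm : ∀ E : Subgroup Ω, F.IsEssential p E → normalizerIn S E = S := fun E hE =>
    inf_eq_left.2 (essential_normal hp hS h3 hF hE (hrk E hE))
  have hfr := fun (E : Subgroup Ω) (hE : F.IsEssential p E) =>
    essential_frame hp hS h3 hF hE (hrk E hE) (hnorm E hE)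
  set A : Subgroup Ω → Subgroup S := fun E => E.subgroupOf S with hA
  -- if one of the Frattini subgroups is shared
  by_cases hT : ∃ E : Subgroup Ω, F.IsEssential p E ∧
      ¬ IsJordan (E.subgroupOf S)
  · obtain ⟨E, hE, hEnJ⟩ := hT
    obtain ⟨hEmax, hEcase⟩ := hfr E hE
    obtain ⟨hEt, hEline⟩ := hEcase.resolve_left hEnJ
    haveI := hEmax.normal
    obtain ⟨hexp, x, hx, e1, e2, e3, hgen, hx1, hx2, hx3, y, hy1, hy2, hy3⟩ := @hEt hEmax.normal
    have hsame : ∀ B : Subgroup S, IsMax3 p B → (∀ v : S, v ^ p ∈ phiN B) →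
        phiN B = phiN (E.subgroupOf S) := by
      intro B hB hBexp
      by_cases h : B = E.subgroupOf S
      · rw [h]
      haveI := hB.normal
      exact transv_pair hp hS h3 hEmax.index hEmax.rank hexp hx e1 e2 e3 hgen hx1 hx2 hx3 y hy1 hy2
        hy3 hB.index hB.rank hBexp h
    have hcomm : ∀ a ∈ E.subgroupOf S, ∀ b ∈ E.subgroupOf S, ⁅a, b⁆ ∈ phiN (E.subgroupOf S) :=
      fun a ha b hb => ⟨⁅⟨a, ha⟩, ⟨b, hb⟩⁆,
        PGroup.commutatorElement_mem_frattini (hS.to_subgroup _) _ _, map_commutatorElement _ _ _⟩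
    -- all the others are in the transvection case as well
    have hothers : ∀ P : Subgroup Ω, F.IsEssential p P → ¬ IsJordan (P.subgroupOf S) := by
      intro P hP hJ
      obtain ⟨hPmax, -⟩ := hfr P hP
      haveI := hPmax.normal
      obtain ⟨hirr, e, he, hJ'⟩ := id hJ
      have hle := jordan_frattini_le hp hS h3 hPmax.index hPmax.rank hirr he hJ'
        (X := phiN (E.subgroupOf S)) (fun v _ => hexp v)
      have heq : phiN (P.subgroupOf S) = phiN (E.subgroupOf S) := hEmax.phi_eq hPmax hle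
      have hneq : E.subgroupOf S ≠ P.subgroupOf S := fun h => hEnJ (h ▸ hJ)
      exact jordan_not_pair hJ (hEmax.index.trans hPmax.index.symm) hneq (heq ▸ hcomm)
    have hD : ∀ P : Subgroup Ω, F.IsEssential p P →
        phiN (P.subgroupOf S) = phiN (E.subgroupOf S) := by
      intro P hP
      obtain ⟨hPmax, hPcase⟩ := hfr P hP
      exact hsame _ hPmax (@(hPcase.resolve_left (hothers P hP)).1 hPmax.normal).1
    have hWeq : ∀ P : Subgroup Ω, F.IsEssential p P →
        (frattini ↥E).map E.subtype = (frattini ↥P).map P.subtype := fun P hP => by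
      rw [← phiN_map hS hE.1.1, ← phiN_map hS hP.1.1, hD P hP]
    by_cases hbot : frattini ↥E = ⊥
    · -- the line
      obtain ⟨f1, f3, β, a, hL, hβ, hinv⟩ := hEline hbot
      have hpos : 0 < p := hpp.pos
      obtain ⟨R, hR⟩ := FusionBatch.autGroup_self_sylow hS hF
      haveI hRn : (R : Subgroup (F.autGroup S)).Normal := hR ▸ FusionAlperin.inn_normal_autGroup F S
      have hkap : ∀ κ ∈ F.autGroup S, ∃ n : ℕ, ¬ p ∣ n ∧
          ∀ z ∈ Subgroup.center S, (κ ^ n) z = z := by
        intro κ hκ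
        refine ⟨(R : Subgroup (F.autGroup S)).index, R.not_dvd_index, fun z hz => ?_⟩
        have h1 := (R : Subgroup (F.autGroup S)).pow_index_mem ⟨κ, hκ⟩
        have h2 : (κ ^ (R : Subgroup (F.autGroup S)).index : MulAut S) ∈ Inn S := by
          have h3' := hR.le h1
          rw [Subgroup.mem_subgroupOf] at h3'
          simpa using h3'
        obtain ⟨g, hg⟩ := h2
        rw [← hg, MulAut.conj_apply, Subgroup.mem_center_iff.1 hz g, mul_inv_cancel_right]
      have hfix : ∀ φ ∈ F.autGroup S, ∃ s : ℕ, φ f3 = f3 ^ s := fun φ hφ =>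
        hL.fixed φ (hkap _ (mul_mem (mul_mem (mul_mem hβ hφ) (inv_mem hβ)) (inv_mem hφ)))
      refine core_ne_bot_of_normal (W := Subgroup.zpowers (f3 : Ω))
        (isNormal_of_essentials hS hF (Subgroup.zpowers_le.2 f3.2) ?_ ?_)
        (by rw [Ne, Subgroup.zpowers_eq_bot]; exact fun h => hL.ne3 (Subtype.ext h))
      · intro φ hφ z hz
        obtain ⟨k, hk⟩ := hz
        obtain ⟨s, hs⟩ := hfix φ hφ
        have hzk : z = f3 ^ k := Subtype.ext (by rw [← hk, SubgroupClass.coe_zpow])
        refine ⟨(s : ℤ) * k, ?_⟩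
        show (f3 : Ω) ^ ((s : ℤ) * k) = ((φ z : S) : Ω)
        rw [hzk, map_zpow, hs, SubgroupClass.coe_zpow, SubmonoidClass.coe_pow, ← zpow_natCast,
          ← zpow_mul]
      · intro P hP
        obtain ⟨hPmax, hPcase⟩ := hfr P hP
        obtain ⟨-, hPline⟩ := hPcase.resolve_left (hothers P hP)
        have hPbot : frattini ↥P = ⊥ := by
          have h := hWeq P hP
          rw [hbot, Subgroup.map_bot, eq_comm,
            Subgroup.map_eq_bot_iff_of_injective _ P.subtype_injective] at h
          exact h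
        obtain ⟨g1, g3, β', a', hL', hβ', hinv'⟩ := hPline hPbot
        obtain ⟨s, hs⟩ := hfix β' hβ'
        have hz : Subgroup.zpowers f3 = Subgroup.zpowers g3 := hL.unique hL' ⟨s, hs⟩
        have hzΩ : Subgroup.zpowers (f3 : Ω) = Subgroup.zpowers (g3 : Ω) := by
          have := congrArg (Subgroup.map S.subtype) hz
          rwa [MonoidHom.map_zpowers, MonoidHom.map_zpowers] at this
        refine ⟨?_, fun α hα w hw => ?_⟩
        · rw [Subgroup.zpowers_le]
          exact hP.1.2 P (isConj_refl F hP.1.1) (mem_centralizerIn.2 ⟨f3.2, fun z hz' =>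
            congrArg Subtype.val (Subgroup.mem_center_iff.1 hL.cent3 ⟨z, hP.1.1 hz'⟩)⟩)
        · rw [hzΩ] at hw ⊢
          exact hinv' α hα w hw
    · -- the common Frattini subgroup
      have hWS : (frattini ↥E).map E.subtype ≤ S := (Subgroup.map_subtype_le _).trans hE.1.1
      refine core_ne_bot_of_normal (W := (frattini ↥E).map E.subtype)
        (isNormal_of_essentials hS hF hWS ?_ ?_) (fun h => hbot
          ((Subgroup.map_eq_bot_iff_of_injective _ E.subtype_injective).1 h))
      · intro φ hφ z hz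
        have hinv : (phiN (E.subgroupOf S)).map φ.toMonoidHom = phiN (E.subgroupOf S) := by
          rw [← map_phi hS]
          refine hsame _ (hEmax.map hS φ) ?_
          rw [map_phi hS]
          exact exp_map hexp φ
        rw [← phiN_map hS hE.1.1] at hz ⊢
        obtain ⟨w, hw, hwz⟩ := hz
        obtain rfl : w = z := Subtype.ext hwz
        exact ⟨φ w, hinv.le ⟨w, hw, rfl⟩, rfl⟩
      · intro P hP
        rw [hWeq P hP]
        exact ⟨Subgroup.map_subtype_le _, fun α _ x hx => frattini_inv α hx⟩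
  -- all in the single Jordan block case
  push Not at hT
  by_cases hbot : ∃ E : Subgroup Ω, F.IsEssential p E ∧ frattini ↥E = ⊥
  · obtain ⟨E, hE, hbot⟩ := hbot
    obtain ⟨hEmax, -⟩ := hfr E hE
    haveI := hEmax.normal
    have hEphi : phiN (E.subgroupOf S) = ⊥ := by
      apply Subgroup.map_injective S.subtype_injective
      rw [phiN_map hS hE.1.1, hbot, Subgroup.map_bot, Subgroup.map_bot]
    have huniq : ∀ B : Subgroup S, IsMax3 p B → B = E.subgroupOf S := by
      intro B hB
      by_contra hne'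
      haveI := hB.normal
      have hBphi : phiN B = phiN (E.subgroupOf S) :=
        (hB.phi_eq hEmax (by rw [hEphi]; exact bot_le)).symm
      refine jordan_not_pair (hT E hE) (hB.index.trans hEmax.index.symm) hne'
        fun a ha b hb => ?_
      rw [← hBphi]
      exact ⟨⁅⟨a, ha⟩, ⟨b, hb⟩⁆,
        PGroup.commutatorElement_mem_frattini (hS.to_subgroup _) _ _, map_commutatorElement _ _ _⟩
    have hEne : E ≠ ⊥ := fun h => by
      have : (frattini ↥E).index = 1 := by
        subst h
        exact Subgroup.index_eq_one.2 (Subsingleton.elim _ _)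
      rw [hrk E hE] at this
      exact absurd this (Nat.one_lt_pow (by norm_num) hpp.one_lt).ne'
    refine core_ne_bot_of_normal (W := E) (isNormal_of_essentials hS hF hE.1.1 ?_ ?_) hEne
    · intro φ hφ z hz
      exact (huniq _ (hEmax.map hS φ)).le ⟨z, hz, rfl⟩
    · intro P hP
      have hPE : P = E := by
        have h := congrArg (Subgroup.map S.subtype) (huniq _ (hfr P hP).1)
        rwa [Subgroup.map_subgroupOf_eq_of_le hP.1.1, Subgroup.map_subgroupOf_eq_of_le hE.1.1] at h
      subst hPE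
      exact ⟨le_rfl, fun α _ x _ => (α x).2⟩
  -- the elements of order `p`
  push Not at hbot
  set W := Subgroup.closure {v : Ω | v ∈ S ∧ v ^ p = 1} with hW
  have hWS : W ≤ S := (Subgroup.closure_le _).2 fun v hv => hv.1
  have hWinv : ∀ P : Subgroup Ω, W ≤ P → P ≤ S → ∀ α : MulAut P, ∀ x : P, (x : Ω) ∈ W →
      ((α x : P) : Ω) ∈ W := by
    intro P hWP hPS α
    suffices h : ∀ v, ∀ hv : v ∈ W, ((α ⟨v, hWP hv⟩ : P) : Ω) ∈ W from fun x hx => h x hx
    intro v hv
    induction hv using Subgroup.closure_induction with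
    | mem v hv =>
      refine Subgroup.subset_closure ⟨hPS (α _).2, ?_⟩
      rw [← SubmonoidClass.coe_pow, ← map_pow]
      have : (⟨v, hWP (Subgroup.subset_closure hv)⟩ : P) ^ p = 1 := Subtype.ext (by simpa using hv.2)
      rw [this, map_one]
      rfl
    | one =>
      rw [show (⟨1, hWP W.one_mem⟩ : P) = 1 from rfl, map_one]
      exact W.one_mem
    | mul v w hv hw ihv ihw =>
      rw [show (⟨v * w, hWP (W.mul_mem hv hw)⟩ : P) = ⟨v, hWP hv⟩ * ⟨w, hWP hw⟩ from rfl, map_mul,
        Subgroup.coe_mul]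
      exact W.mul_mem ihv ihw
    | inv v hv ihv =>
      rw [show (⟨v⁻¹, hWP (W.inv_mem hv)⟩ : P) = ⟨v, hWP hv⟩⁻¹ from rfl, map_inv, Subgroup.coe_inv]
      exact W.inv_mem ihv
  have hWne : W ≠ ⊥ := by
    haveI : Nontrivial S := (Subgroup.nontrivial_iff_ne_bot S).2 hne
    obtain ⟨k, hk0, hk⟩ := hS.nontrivial_iff_card.1 inferInstance
    obtain ⟨v, hv⟩ := exists_prime_orderOf_dvd_card' (G := S) p (hk ▸ dvd_pow_self p hk0.ne')
    intro h
    have hv1 : (v : Ω) ∈ W := Subgroup.subset_closure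
      ⟨v.2, by rw [← SubmonoidClass.coe_pow, ← hv, pow_orderOf_eq_one]; rfl⟩
    rw [h, Subgroup.mem_bot] at hv1
    rw [show v = 1 from Subtype.ext hv1, orderOf_one] at hv
    exact hpp.ne_one hv.symm
  refine core_ne_bot_of_normal (W := W)
    (isNormal_of_essentials hS hF hWS (fun α _ x hx => hWinv S hWS le_rfl α x hx) ?_) hWne
  intro P hP
  obtain ⟨hPmax, -⟩ := hfr P hP
  obtain ⟨hirr, e, he, hJ⟩ := hT P hP
  have hPphi : frattini ↥(P.subgroupOf S) ≠ ⊥ := fun h => hbot P hP (by
    rw [← PGroup.map_frattini (hS.to_subgroup (P.subgroupOf S))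
      (Subgroup.subgroupOfEquivOfLe hP.1.1).toMonoidHom
      (Subgroup.subgroupOfEquivOfLe hP.1.1).surjective, h, Subgroup.map_bot])
  have hWP : W ≤ P := by
    refine (Subgroup.closure_le _).2 fun v hv => ?_
    by_contra hvP
    exact jordan_pow_ne_one hp hS h3 hPmax.index hPmax.rank hirr he hJ hPphi (x := ⟨v, hv.1⟩) hvP
      (Subtype.ext (by simpa using hv.2))
  exact ⟨hWP, fun α _ x hx => hWinv P hWP hP.1.1 α x hx⟩

end Cfsg.Agent.PearlExists
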