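import Cfsg.Agent.PearlExists.EssentialFrame

/-!
# Maximal subgroups with Frattini quotient of order `p ^ 3` (S5182)
-/

set_option autoImplicit false

open Cfsg
open scoped commutatorElement

namespace Cfsg.Agent.PearlExists

universe u

variable {p : ℕ} [Fact p.Prime] {N : Type u} [Group N] [Finite N]

/-- The Frattini subgroup of a subgroup, inside the group. -/
abbrev phiN (A : Subgroup N) : Subgroup N := (frattini A).map A.subtype

theorem IsMax3.card_phi {A : Subgroup N} (h : IsMax3 p A) :
    Nat.card (phiN A) * p ^ 4 = Nat.card N := by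
  rw [Subgroup.card_map_of_injective A.subtype_injective, ← A.card_mul_index, h.index,
    ← (frattini A).card_mul_index, h.rank]
  ring

theorem IsMax3.phi_eq {A B : Subgroup N} (hA : IsMax3 p A) (hB : IsMax3 p B)
    (h : phiN B ≤ phiN A) : phiN B = phiN A := by
  refine Subgroup.eq_of_le_of_card_ge h (le_of_eq ?_)
  have := hA.card_phi.trans hB.card_phi.symm
  exact Nat.eq_of_mul_eq_mul_right (pow_pos (Fact.out : p.Prime).pos 4) this

theorem map_phi (hN : IsPGroup p N) (A : Subgroup N) (φ : MulAut N) :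
    phiN (A.map φ.toMonoidHom) = (phiN A).map φ.toMonoidHom := by
  unfold phiN
  rw [← PGroup.map_frattini (hN.to_subgroup A) (φ.toMonoidHom.subgroupMap A)
    (φ.toMonoidHom.subgroupMap_surjective A), Subgroup.map_map, Subgroup.map_map]
  rfl

theorem IsMax3.map (hN : IsPGroup p N) {A : Subgroup N} (h : IsMax3 p A) (φ : MulAut N) :
    IsMax3 p (A.map φ.toMonoidHom) := by
  refine ⟨h.normal.map _ φ.surjective, (Subgroup.index_map_equiv A φ).trans h.index, ?_⟩
  rw [← PGroup.map_frattini (hN.to_subgroup A) (φ.toMonoidHom.subgroupMap A)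
    (φ.toMonoidHom.subgroupMap_surjective A)]
  refine Eq.trans (Subgroup.index_map_of_bijective ⟨fun a b hab => ?_, φ.toMonoidHom.subgroupMap_surjective A⟩ _) h.rank
  exact Subtype.ext (φ.injective (congrArg Subtype.val hab))

omit [Fact p.Prime] in
theorem exp_map {A : Subgroup N} (h : ∀ v : N, v ^ p ∈ phiN A) (φ : MulAut N) :
    ∀ v : N, v ^ p ∈ (phiN A).map φ.toMonoidHom := fun v =>
  ⟨φ.symm v ^ p, h _, by simp⟩

/-- A Jordan block subgroup has no partner which is abelian modulo its Frattini subgroup. -/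
theorem jordan_not_pair {A B : Subgroup N} [A.Normal] [B.Normal] (hJ : IsJordan A)
    (hidx : B.index = A.index) (hne : B ≠ A)
    (hc : ∀ a ∈ B, ∀ b ∈ B, ⁅a, b⁆ ∈ phiN A) : False := by
  obtain ⟨-, e, he, hJ⟩ := hJ
  obtain ⟨x, hxB, hxA⟩ : ∃ x ∈ B, x ∉ A := SetLike.not_le_iff_exists.1 fun h =>
    hne (Subgroup.eq_of_le_of_card_ge h (le_of_eq (Nat.eq_of_mul_eq_mul_right
      (Nat.pos_of_ne_zero (Subgroup.index_ne_zero_of_finite (H := A)))
      (by conv_rhs => rw [← hidx, B.card_mul_index, ← A.card_mul_index]))))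
  refine hJ x hxA (hc _ ?_ x hxB)
  rw [commutatorElement_def]
  exact mul_mem (Subgroup.Normal.conj_mem inferInstance x hxB e) (inv_mem hxB)

end Cfsg.Agent.PearlExists
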